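import Cfsg.Agent.Lib.S6.Defs

/-! S6, package WC: tables. -/

set_option autoImplicit false
set_option linter.unusedSectionVars false
set_option synthInstance.maxSize 1000

namespace H29.S6.WC

open Subgroup Cfsg H29.F42
open H87.U6 (F3 V lin)

abbrev Q := V × V × V × V

scoped instance decV : DecidableEq V := instDecidableEqProd
scoped instance decQ : DecidableEq Q := instDecidableEqProd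

def ap (m : Q) : V → V := lin m.1 m.2.1 m.2.2.1 m.2.2.2
def mu (m n : Q) : Q := (ap m n.1, ap m n.2.1, ap m n.2.2.1, ap m n.2.2.2)
def i0 : Q := (e1, e2, e3, e4)

def G : Fin 3 → V → V
  | 0, v => (v.1, v.2.1, v.2.2.1, -v.2.2.2)
  | 1, v => (v.1, v.2.2.1, v.2.1, v.2.2.2)
  | 2, v => (v.1, v.2.1, v.2.2.2, v.2.2.1)

def lt (g gi : Q) : Fin 5 → Q
  | 0 => g
  | 1 => gi
  | 2 => (e1, e2, e3, -e4)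
  | 3 => (e1, e3, e2, e4)
  | 4 => (e1, e2, e4, e3)

def ev (g gi : Q) : List (Fin 5) → Q
  | [] => i0
  | x :: l => mu (lt g gi x) (ev g gi l)

def a0 : Q := ((1, 1, 0, 0), e2, e3, e4)
def o1 : Q := ((0, 1, 1, 0), (0, 0, 0, 1), (1, 1, -1, 0), (-1, 1, -1, 0))
def s0 : Q := (e2, e1, e3, e4)
def r0 : Q := ((2, 1, 1, 1), (1, 2, 1, 1), (1, 1, 2, 1), (1, 1, 1, 2))

abbrev Ent := Q × Q × List (Fin 5) × List (Fin 5)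

def tb : List (V × List (Fin 3) × List Ent) := [

  ((0,1,0,0), [0, 2], [
    (((0,1,0,0),(0,0,0,1),(0,0,1,0),(1,0,0,0)), ((0,0,0,1),(1,0,0,0),(0,0,1,0),(0,1,0,0)), [], []),
    (((0,1,0,0),(0,0,0,1),(0,0,1,0),(1,1,0,0)), ((2,0,0,1),(1,0,0,0),(0,0,1,0),(0,1,0,0)), [1, 1, 3, 0, 0], []),
    (((0,1,0,0),(0,0,0,1),(0,0,1,0),(1,2,0,0)), ((1,0,0,1),(1,0,0,0),(0,0,1,0),(0,1,0,0)), [1, 1, 3, 0, 0], []),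
    (((0,1,0,0),(0,0,1,1),(0,0,1,2),(1,0,0,0)), ((0,0,0,1),(1,0,0,0),(0,2,2,0),(0,2,1,0)), [1, 1, 3, 4, 1, 1], []),
    (((0,1,0,0),(0,0,1,1),(0,0,1,2),(1,1,0,0)), ((2,0,0,1),(1,0,0,0),(0,2,2,0),(0,2,1,0)), [0, 4, 3, 0, 2, 1], []),
    (((0,1,0,0),(0,0,1,1),(0,0,1,2),(1,2,0,0)), ((1,0,0,1),(1,0,0,0),(0,2,2,0),(0,2,1,0)), [0, 0, 4, 1, 1], [])]),
  ((1,1,0,0), [0, 2], [
    (((1,1,0,0),(0,0,0,1),(0,0,1,0),(0,1,0,0)), ((1,0,0,2),(0,0,0,1),(0,0,1,0),(0,1,0,0)), [4, 0, 4, 3], []),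
    (((1,1,0,0),(0,0,0,1),(0,0,1,0),(1,0,0,0)), ((0,0,0,1),(1,0,0,2),(0,0,1,0),(0,1,0,0)), [0, 0, 2, 1, 1], []),
    (((1,1,0,0),(0,0,0,1),(0,0,1,0),(1,2,0,0)), ((2,0,0,2),(2,0,0,1),(0,0,1,0),(0,1,0,0)), [0, 2, 0, 0, 0], []),
    (((1,1,0,0),(0,0,1,1),(0,0,1,2),(0,1,0,0)), ((1,0,0,2),(0,0,0,1),(0,2,2,0),(0,2,1,0)), [1, 1, 3, 0, 0], []),
    (((1,1,0,0),(0,0,1,1),(0,0,1,2),(1,0,0,0)), ((0,0,0,1),(1,0,0,2),(0,2,2,0),(0,2,1,0)), [1, 1, 3, 0, 0], []),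
    (((1,1,0,0),(0,0,1,1),(0,0,1,2),(1,2,0,0)), ((2,0,0,2),(2,0,0,1),(0,2,2,0),(0,2,1,0)), [2, 0, 0, 2, 0, 0, 2, 0, 0], [0, 2, 1])]),
  ((2,1,0,0), [0, 2], [
    (((2,1,0,0),(0,0,0,1),(0,0,1,0),(0,1,0,0)), ((2,0,0,1),(0,0,0,1),(0,0,1,0),(0,1,0,0)), [2, 0, 0, 2, 0, 0], []),
    (((2,1,0,0),(0,0,0,1),(0,0,1,0),(1,0,0,0)), ((0,0,0,1),(1,0,0,1),(0,0,1,0),(0,1,0,0)), [0, 0, 2, 1, 1], []),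
    (((2,1,0,0),(0,0,0,1),(0,0,1,0),(1,1,0,0)), ((1,0,0,2),(2,0,0,2),(0,0,1,0),(0,1,0,0)), [0, 0, 2, 0, 0], []),
    (((2,1,0,0),(0,0,1,1),(0,0,1,2),(0,1,0,0)), ((2,0,0,1),(0,0,0,1),(0,2,2,0),(0,2,1,0)), [0, 0, 2, 0, 0], []),
    (((2,1,0,0),(0,0,1,1),(0,0,1,2),(1,0,0,0)), ((0,0,0,1),(1,0,0,1),(0,2,2,0),(0,2,1,0)), [0, 0, 2, 1, 1], []),
    (((2,1,0,0),(0,0,1,1),(0,0,1,2),(1,1,0,0)), ((1,0,0,2),(2,0,0,2),(0,2,2,0),(0,2,1,0)), [0, 0, 0, 4, 0, 0, 0], [1, 1, 3, 4, 3, 0, 0])]),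
  ((0,1,1,0), [0, 1], [
    (((0,1,1,0),(0,0,0,1),(0,1,2,0),(1,0,0,0)), ((0,0,0,1),(2,0,2,0),(2,0,1,0),(0,1,0,0)), [0, 3, 1], []),
    (((0,1,1,0),(0,0,0,1),(0,1,2,0),(1,1,1,0)), ((2,0,0,1),(2,0,2,0),(2,0,1,0),(0,1,0,0)), [0, 3, 1], []),
    (((0,1,1,0),(0,0,0,1),(0,1,2,0),(1,2,2,0)), ((1,0,0,1),(2,0,2,0),(2,0,1,0),(0,1,0,0)), [0, 3, 1], []),
    (((0,1,1,0),(0,0,0,1),(1,0,1,0),(1,1,0,0)), ((1,0,2,2),(2,0,1,2),(2,0,2,1),(0,1,0,0)), [1, 1, 4, 0, 0], []),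
    (((0,1,1,0),(0,0,0,1),(1,0,2,0),(1,2,0,0)), ((2,0,2,2),(2,0,2,1),(2,0,1,2),(0,1,0,0)), [0, 3, 1, 1], []),
    (((0,1,1,0),(0,0,0,1),(1,1,2,0),(1,2,1,0)), ((0,0,2,2),(2,0,1,2),(2,0,2,1),(0,1,0,0)), [0, 2], []),
    (((0,1,1,0),(0,1,2,0),(1,0,0,1),(1,0,0,2)), ((0,0,2,2),(2,2,0,0),(2,1,0,0),(0,0,2,1)), [0, 0, 0, 3, 0, 0, 0], [1, 4, 2, 4, 0]),
    (((0,1,1,0),(0,1,2,0),(1,1,1,1),(1,1,1,2)), ((2,0,2,2),(2,2,0,0),(2,1,0,0),(0,0,2,1)), [0, 0, 2, 1, 1], []),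
    (((0,1,1,0),(0,1,2,0),(1,2,2,1),(1,2,2,2)), ((1,0,2,2),(2,2,0,0),(2,1,0,0),(0,0,2,1)), [1, 1, 4, 0, 0], []),
    (((0,1,1,0),(0,1,2,1),(0,1,2,2),(1,0,0,0)), ((0,0,0,1),(2,1,1,0),(2,2,2,0),(0,2,1,0)), [0, 4, 2, 4, 1], []),
    (((0,1,1,0),(0,1,2,1),(0,1,2,2),(1,1,1,0)), ((2,0,0,1),(2,1,1,0),(2,2,2,0),(0,2,1,0)), [0, 4, 2, 4, 1], []),
    (((0,1,1,0),(0,1,2,1),(0,1,2,2),(1,2,2,0)), ((1,0,0,1),(2,1,1,0),(2,2,2,0),(0,2,1,0)), [0, 0, 4, 1, 1], [])]),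
  ((1,1,1,0), [0, 1], [
    (((1,1,1,0),(0,0,0,1),(0,0,1,0),(0,1,0,0)), ((1,0,2,2),(0,0,0,1),(0,0,1,0),(0,1,0,0)), [0, 3, 1, 4, 0, 0], []),
    (((1,1,1,0),(0,0,0,1),(0,1,1,0),(0,1,2,0)), ((1,0,2,0),(0,0,2,2),(0,0,2,1),(0,1,0,0)), [0, 4, 1, 1], []),
    (((1,1,1,0),(0,0,0,1),(0,1,2,0),(1,0,0,0)), ((0,0,0,1),(2,0,2,1),(2,0,1,1),(0,1,0,0)), [0, 3, 1], []),
    (((1,1,1,0),(0,0,0,1),(0,1,2,0),(1,2,2,0)), ((2,0,0,2),(1,0,2,2),(1,0,1,2),(0,1,0,0)), [0, 3, 1], []),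
    (((1,1,1,0),(0,0,0,1),(1,0,1,0),(1,1,0,0)), ((2,0,1,1),(1,0,2,0),(1,0,0,2),(0,1,0,0)), [0, 0, 0, 0], []),
    (((1,1,1,0),(0,0,0,1),(1,1,2,0),(1,2,1,0)), ((0,0,2,2),(2,0,0,1),(2,0,1,0),(0,1,0,0)), [0, 0, 2, 1, 1], []),
    (((1,1,1,0),(0,1,1,0),(0,1,2,1),(0,1,2,2)), ((1,2,0,0),(0,2,1,1),(0,2,2,2),(0,0,2,1)), [0, 2, 1], []),
    (((1,1,1,0),(0,1,1,1),(0,1,1,2),(0,1,2,0)), ((1,1,1,0),(0,1,1,2),(0,1,1,1),(0,2,1,0)), [0, 4, 3, 0, 4, 0], []),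
    (((1,1,1,0),(0,1,2,0),(1,0,0,1),(1,0,0,2)), ((0,0,2,2),(2,2,2,2),(2,1,2,2),(0,0,2,1)), [0, 0, 2, 1, 1], []),
    (((1,1,1,0),(0,1,2,0),(1,2,2,1),(1,2,2,2)), ((2,0,1,1),(1,2,1,1),(1,1,1,1),(0,0,2,1)), [1, 3, 4, 2, 0, 3], []),
    (((1,1,1,0),(0,1,2,1),(0,1,2,2),(1,0,0,0)), ((0,0,0,1),(2,1,1,1),(2,2,2,1),(0,2,1,0)), [0, 0, 2, 1, 1], []),
    (((1,1,1,0),(0,1,2,1),(0,1,2,2),(1,2,2,0)), ((2,0,0,2),(1,1,1,2),(1,2,2,2),(0,2,1,0)), [0, 4, 2, 4, 1], [])]),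
  ((2,1,1,0), [0, 1], [
    (((2,1,1,0),(0,0,0,1),(0,0,1,0),(0,1,0,0)), ((2,0,1,1),(0,0,0,1),(0,0,1,0),(0,1,0,0)), [2, 0, 0, 2, 0, 0], []),
    (((2,1,1,0),(0,0,0,1),(0,1,1,0),(0,1,2,0)), ((2,0,1,0),(0,0,2,2),(0,0,2,1),(0,1,0,0)), [0, 0, 0, 4, 0], []),
    (((2,1,1,0),(0,0,0,1),(0,1,2,0),(1,0,0,0)), ((0,0,0,1),(2,0,2,2),(2,0,1,2),(0,1,0,0)), [0, 3, 1], []),
    (((2,1,1,0),(0,0,0,1),(0,1,2,0),(1,1,1,0)), ((1,0,0,2),(1,0,2,1),(1,0,1,1),(0,1,0,0)), [0, 3, 1], []),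
    (((2,1,1,0),(0,0,0,1),(1,0,2,0),(1,2,0,0)), ((1,0,1,1),(1,0,1,0),(1,0,0,1),(0,1,0,0)), [1, 1, 4, 0, 0], []),
    (((2,1,1,0),(0,0,0,1),(1,1,2,0),(1,2,1,0)), ((0,0,2,2),(2,0,2,0),(2,0,0,2),(0,1,0,0)), [1, 4, 3, 0, 0], []),
    (((2,1,1,0),(0,1,1,0),(0,1,2,1),(0,1,2,2)), ((2,1,0,0),(0,2,1,1),(0,2,2,2),(0,0,2,1)), [0, 2, 1], []),
    (((2,1,1,0),(0,1,1,1),(0,1,1,2),(0,1,2,0)), ((2,2,2,0),(0,1,1,2),(0,1,1,1),(0,2,1,0)), [0, 4, 0, 0, 4, 0], []),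
    (((2,1,1,0),(0,1,2,0),(1,0,0,1),(1,0,0,2)), ((0,0,2,2),(2,2,1,1),(2,1,1,1),(0,0,2,1)), [1, 4, 3, 0, 0], []),
    (((2,1,1,0),(0,1,2,0),(1,1,1,1),(1,1,1,2)), ((1,0,1,1),(1,2,2,2),(1,1,2,2),(0,0,2,1)), [0, 3, 4, 3, 0, 2], []),
    (((2,1,1,0),(0,1,2,1),(0,1,2,2),(1,0,0,0)), ((0,0,0,1),(2,1,1,2),(2,2,2,2),(0,2,1,0)), [1, 1, 4, 0, 0], []),
    (((2,1,1,0),(0,1,2,1),(0,1,2,2),(1,1,1,0)), ((1,0,0,2),(1,1,1,1),(1,2,2,1),(0,2,1,0)), [1, 1, 4, 0, 0], [])]),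
  ((0,1,1,1), [1, 2], [
]),
  ((1,1,1,1), [1, 2], [
    (((1,1,1,1),(0,0,0,1),(0,0,1,0),(0,1,0,0)), ((1,2,2,2),(0,0,0,1),(0,0,1,0),(0,1,0,0)), [0, 2, 1, 1, 2, 0], []),
    (((1,1,1,1),(0,0,1,1),(0,1,0,1),(0,1,1,0)), ((1,1,1,1),(0,1,2,2),(0,2,1,2),(0,2,2,1)), [0, 0], []),
    (((1,1,1,1),(0,1,1,2),(0,1,2,1),(0,1,2,2)), ((1,2,2,1),(0,2,2,0),(0,2,0,1),(0,0,2,1)), [1, 1, 2, 0, 0], []),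
    (((1,1,1,1),(1,0,0,1),(1,0,1,0),(1,1,0,0)), ((1,2,2,2),(2,1,1,2),(2,1,2,1),(2,2,1,1)), [0, 2, 1, 2, 0, 2, 1], []),
    (((1,1,1,1),(1,0,0,2),(1,0,2,0),(1,2,0,0)), ((1,1,1,1),(1,1,1,0),(1,1,0,1),(1,0,1,1)), [0, 0], []),
    (((1,1,1,1),(1,0,1,1),(1,1,0,1),(1,1,1,0)), ((1,1,1,1),(1,2,0,0),(1,0,2,0),(1,0,0,2)), [0, 0], []),
    (((1,1,1,1),(1,0,2,2),(1,2,0,2),(1,2,2,0)), ((1,2,2,2),(2,0,2,2),(2,2,0,2),(2,2,2,0)), [3, 0, 2, 4, 3, 1, 2, 4], []),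
    (((1,1,1,1),(1,1,1,2),(1,1,2,1),(1,2,1,1)), ((1,2,2,2),(2,0,0,1),(2,0,1,0),(2,1,0,0)), [1, 2, 1, 2, 0, 2, 0], []),
    (((1,1,1,1),(1,1,2,2),(1,2,1,2),(1,2,2,1)), ((1,1,1,1),(1,1,2,2),(1,2,1,2),(1,2,2,1)), [4, 3, 2, 0, 2, 4, 3, 0, 2, 4, 3, 2, 0], [0, 2, 4, 2, 0])]),
  ((2,1,1,1), [1, 2], [
    (((2,1,1,1),(0,0,0,1),(0,0,1,0),(0,1,0,0)), ((2,1,1,1),(0,0,0,1),(0,0,1,0),(0,1,0,0)), [0, 2, 4, 3, 0, 2, 4, 3], []),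
    (((2,1,1,1),(0,0,1,1),(0,1,0,1),(0,1,1,0)), ((2,2,2,2),(0,1,2,2),(0,2,1,2),(0,2,2,1)), [1, 2, 0, 0, 2, 0], []),
    (((2,1,1,1),(0,1,1,2),(0,1,2,1),(0,1,2,2)), ((2,1,1,2),(0,2,2,0),(0,2,0,1),(0,0,2,1)), [0, 2, 0], []),
    (((2,1,1,1),(1,0,0,1),(1,0,1,0),(1,1,0,0)), ((2,1,1,1),(1,2,2,0),(1,2,0,2),(1,0,2,2)), [0, 0], []),
    (((2,1,1,1),(1,0,0,2),(1,0,2,0),(1,2,0,0)), ((2,2,2,2),(2,2,2,1),(2,2,1,2),(2,1,2,2)), [0, 2, 1, 2, 0, 2, 1], []),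
    (((2,1,1,1),(1,0,1,1),(1,1,0,1),(1,1,1,0)), ((2,2,2,2),(2,0,1,1),(2,1,0,1),(2,1,1,0)), [3, 1, 2, 4, 3, 0, 2, 4], []),
    (((2,1,1,1),(1,0,2,2),(1,2,0,2),(1,2,2,0)), ((2,1,1,1),(1,1,0,0),(1,0,1,0),(1,0,0,1)), [0, 0], []),
    (((2,1,1,1),(1,1,1,2),(1,1,2,1),(1,2,1,1)), ((2,1,1,1),(1,1,1,2),(1,1,2,1),(1,2,1,1)), [3, 4, 3, 0], [0, 2, 0, 2, 4, 2, 0, 2, 0]),
    (((2,1,1,1),(1,1,2,2),(1,2,1,2),(1,2,2,1)), ((2,2,2,2),(2,2,0,0),(2,0,2,0),(2,0,0,2)), [0, 2, 0, 2, 1, 2, 1], [])]),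
  ((2,0,0,0), [0, 1, 2], [
    (((2,0,0,0),(0,0,0,1),(0,0,1,0),(0,1,0,0)), ((2,0,0,0),(0,0,0,1),(0,0,1,0),(0,1,0,0)), [], [])])]

def nw : List (List (Fin 5)) := [[3, 4], [3, 4, 2], [3], [4, 3], [4, 3, 2], [3, 4, 2, 4], [4, 3, 2, 4], [4, 3, 2, 4, 2], [], [4], [4, 2], [2], [4, 2, 4], [2, 4], [2, 4, 2], [3, 4, 2, 4, 3], [4, 3, 2, 4, 3], [4, 3, 2, 4, 3, 2], [4, 2, 4, 3], [2, 4, 3], [2, 4, 3, 2], [4, 3, 2, 4, 3, 2, 4], [2, 4, 3, 2, 4], [2, 4, 3, 2, 4, 2]]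

def iw : List (List (Fin 5)) := [[4, 3, 1], [2, 4, 3, 1], [3, 1], [4, 2, 4, 3, 1], [1], [0, 2, 4, 2, 0], [], [2, 4, 3, 1, 0], [4, 3, 1, 0], [3, 1, 0], [3, 2, 1, 0], [1, 0], [2, 1, 0], [4, 2, 1, 0], [2, 4, 2, 1, 0], [0, 2, 4, 2, 1, 0], [0], [2, 0], [4, 2, 0], [2, 4, 2, 0], [3, 4, 2, 0], [3, 2, 4, 2, 0], [0, 2, 4, 3, 1], [0, 2, 4, 3, 1, 0]]

def l3 : List Q := [
  ((0,0,0,1),(0,1,0,0),(1,0,0,0),(0,0,1,0)),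
  ((0,0,0,1),(0,1,0,0),(2,0,0,0),(0,0,2,0)),
  ((0,0,0,1),(1,0,0,0),(0,0,1,0),(0,1,0,0)),
  ((0,0,0,1),(2,0,0,0),(0,0,1,0),(0,2,0,0)),
  ((0,0,0,2),(0,1,0,0),(1,0,0,0),(0,0,2,0)),
  ((0,0,0,2),(0,1,0,0),(2,0,0,0),(0,0,1,0)),
  ((0,0,0,2),(1,0,0,0),(0,0,1,0),(0,2,0,0)),
  ((0,0,0,2),(2,0,0,0),(0,0,1,0),(0,1,0,0)),
  ((0,0,1,0),(0,1,0,0),(0,0,0,1),(1,0,0,0)),
  ((0,0,1,0),(0,1,0,0),(0,0,0,2),(2,0,0,0)),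
  ((0,0,1,0),(1,0,0,0),(0,1,0,0),(0,0,0,1)),
  ((0,0,1,0),(2,0,0,0),(0,2,0,0),(0,0,0,1)),
  ((0,0,2,0),(0,1,0,0),(0,0,0,1),(2,0,0,0)),
  ((0,0,2,0),(0,1,0,0),(0,0,0,2),(1,0,0,0)),
  ((0,0,2,0),(1,0,0,0),(0,2,0,0),(0,0,0,1)),
  ((0,0,2,0),(2,0,0,0),(0,1,0,0),(0,0,0,1)),
  ((0,1,0,0),(0,0,0,1),(0,0,1,0),(1,0,0,0)),
  ((0,1,0,0),(0,0,0,2),(0,0,1,0),(2,0,0,0)),
  ((0,1,0,0),(0,0,1,0),(1,0,0,0),(0,0,0,1)),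
  ((0,1,0,0),(0,0,2,0),(2,0,0,0),(0,0,0,1)),
  ((0,2,0,0),(0,0,0,1),(0,0,1,0),(2,0,0,0)),
  ((0,2,0,0),(0,0,0,2),(0,0,1,0),(1,0,0,0)),
  ((0,2,0,0),(0,0,1,0),(2,0,0,0),(0,0,0,1)),
  ((0,2,0,0),(0,0,2,0),(1,0,0,0),(0,0,0,1)),
  ((1,0,0,0),(0,0,0,1),(0,1,0,0),(0,0,1,0)),
  ((1,0,0,0),(0,0,0,1),(0,2,0,0),(0,0,2,0)),
  ((1,0,0,0),(0,0,0,2),(0,1,0,0),(0,0,2,0)),
  ((1,0,0,0),(0,0,0,2),(0,2,0,0),(0,0,1,0)),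
  ((1,0,0,0),(0,0,1,0),(0,0,0,1),(0,1,0,0)),
  ((1,0,0,0),(0,0,1,0),(0,0,0,2),(0,2,0,0)),
  ((1,0,0,0),(0,0,2,0),(0,0,0,1),(0,2,0,0)),
  ((1,0,0,0),(0,0,2,0),(0,0,0,2),(0,1,0,0)),
  ((1,0,0,0),(0,1,0,0),(0,0,1,0),(0,0,0,1))]

def pts : List V := [(0,0,0,1), (0,0,1,0), (0,0,1,1), (0,0,1,2), (0,1,0,0), (0,1,0,1), (0,1,0,2), (0,1,1,0), (0,1,1,1), (0,1,1,2), (0,1,2,0), (0,1,2,1), (0,1,2,2), (1,0,0,0), (1,0,0,1), (1,0,0,2), (1,0,1,0), (1,0,1,1), (1,0,1,2), (1,0,2,0), (1,0,2,1), (1,0,2,2), (1,1,0,0), (1,1,0,1), (1,1,0,2), (1,1,1,0), (1,1,1,1), (1,1,1,2), (1,1,2,0), (1,1,2,1), (1,1,2,2), (1,2,0,0), (1,2,0,1), (1,2,0,2), (1,2,1,0), (1,2,1,1), (1,2,1,2), (1,2,2,0), (1,2,2,1), (1,2,2,2)]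


def pm (x y : V) : Bool := x = y || x = -y
def inF (a b c x : V) : Bool := pm x a || pm x b || pm x c
def inv (ms : List (Fin 3)) (a b c : V) : Bool :=
  ms.all fun i => inF a b c (G i a) && inF a b c (G i b) && inF a b c (G i c)
def hit (es : List Ent) (a b c : V) : Bool :=
  es.any fun e => inF e.1.2.1 e.1.2.2.1 e.1.2.2.2 a && inF e.1.2.1 e.1.2.2.1 e.1.2.2.2 b &&
    inF e.1.2.1 e.1.2.2.1 e.1.2.2.2 c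
def dep (v a b c : V) : Bool := pts.any fun u => lin v a b c u = 0
def chk (v : V) (ms : List (Fin 3)) (es : List Ent) (a b c : V) : Bool :=
  !inv ms a b c || pm c a || pm c b || hit es a b c || dep v a b c
def out (ms : List (Fin 3)) (a b : V) : Option V :=
  ((ms.map fun i => G i a) ++ ms.map fun i => G i b).find? fun x => !(pm x a || pm x b)
def pair (v : V) (ms : List (Fin 3)) (es : List Ent) (a b : V) : Bool :=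
  pm a b || match out ms a b with
    | some c => chk v ms es a b c
    | none => pts.all fun c => chk v ms es a b c

theorem tb_pair : (tb.all fun r => pts.all fun a => pts.all fun b => pair r.1 r.2.1 r.2.2 a b) = true := by
  decide +kernel

theorem tb_fix : ∀ r ∈ tb, ∀ i ∈ r.2.1, G i r.1 = r.1 := by decide +kernel

theorem tb_ent : ∀ r ∈ tb, ∀ e ∈ r.2.2, e.1.1 = r.1 ∧ mu e.1 e.2.1 = i0 ∧ mu e.2.1 e.1 = i0 ∧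
    ((Sh1 e.1.1 ∧ Sh1 e.1.2.1 ∧ Sh1 e.1.2.2.1 ∧ Sh1 e.1.2.2.2) ∨
    ((ev e.1 e.2.1 e.2.2.1).1 = e1 ∧ ¬ (Sh (ev e.1 e.2.1 e.2.2.1).2.1 ∧
      Sh (ev e.1 e.2.1 e.2.2.1).2.2.1 ∧ Sh (ev e.1 e.2.1 e.2.2.1).2.2.2)) ∨
    ev e.1 e.2.1 e.2.2.1 = a0 ∨ ev e.1 e.2.1 e.2.2.1 = o1 ∨
    (ev e.1 e.2.1 e.2.2.1 = r0 ∧ ev e.1 e.2.1 e.2.2.2 = s0 ∧
      ∃ ε : F3, ε * ε = 1 ∧ ∀ v, q (ap e.1 v) = ε * q v)) := by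
  decide +kernel

theorem tb_neg : ∀ r ∈ tb, r.1 = -e1 → ∀ e ∈ r.2.2, ∀ x,
    inF e.1.2.1 e.1.2.2.1 e.1.2.2.2 x = true → Sh x := by decide +kernel

theorem tb_nw : ∀ v : V, v ≠ 0 → v ≠ e1 → ∃ l ∈ nw, (ev i0 i0 l).1 = e1 ∧
    ∃ r ∈ tb, ap (ev i0 i0 l) v = r.1 := by decide +kernel

theorem tb_iw : ∀ u : V, q u = 1 → ∃ l ∈ iw, (ev r0 s0 l).1 = u ∧ ∀ v, q (ap (ev r0 s0 l) v) = q v := by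
  decide +kernel

theorem pts_all : ∀ v : V, v ≠ 0 → v ∈ pts ∨ -v ∈ pts := by decide +kernel
theorem pts_ne : ∀ v ∈ pts, v ≠ 0 := by decide +kernel

def tw (y : X3) : List (Fin 5) :=
  List.replicate y.1.val 0 ++ (List.replicate y.2.1.val [3, 0, 3]).flatten ++
    (List.replicate y.2.2.val [4, 3, 0, 3, 4]).flatten

theorem tb_tw : ∀ y : X3, ev a0 a0 (tw y) = ((1, y), e2, e3, e4) := by decide +kernel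

theorem mon_tab : ∀ a, Sh1 a → ∀ b, Sh1 b → pm a b = false → ∀ c, Sh1 c → pm a c = false →
    pm b c = false → ∀ d, Sh1 d → pm a d = false → pm b d = false → pm c d = false →
    (mu (a, b, c, d) (a, b, c, d) = i0 ∨ (Finset.univ.filter fun v => lin a b c d v = v).card < 27) ∧
    (mu (a, b, c, d) (mu (a, b, c, d) (a, b, c, d)) = i0 → (a, b, c, d) ∈ l3) := by
  decide +kernel

theorem l3_tab' : (l3.all fun m => l3.all fun n =>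
    !decide (mu m n = mu n m) || n = i0 || m = i0 || m = n || m = mu n n) = true := by
  decide +kernel

theorem l3_tab : ∀ m ∈ l3, ∀ n ∈ l3, mu m n = mu n m → n = i0 ∨ m = i0 ∨ m = n ∨ m = mu n n := by
  intro m hm n hn e
  simpa [e, or_assoc] using List.all_eq_true.1 (List.all_eq_true.1 l3_tab' m hm) n hn

theorem eqns_wc : True := by
  have := @ap.eq_1; have := @mu.eq_1; have := @i0.eq_1; have := @G.eq_1; have := @G.eq_2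
  have := @G.eq_3; have := @lt.eq_1; have := @lt.eq_2; have := @lt.eq_3; have := @lt.eq_4
  have := @lt.eq_5; have := @ev.eq_1; have := @ev.eq_2; have := @ev.eq_def; have := @a0.eq_1
  have := @o1.eq_1; have := @s0.eq_1; have := @r0.eq_1; have := @tb.eq_1; have := @nw.eq_1
  have := @iw.eq_1; have := @l3.eq_1; have := @pts.eq_1; have := @pm.eq_1; have := @inF.eq_1
  have := @inv.eq_1; have := @hit.eq_1; have := @dep.eq_1; have := @chk.eq_1; have := @out.eq_1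
  have := @pair.eq_1; have := @tw.eq_1
  trivial

end H29.S6.WC
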