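import Cfsg.Agent.Lib.S6.Defs
import Cfsg.Agent.Lib.S6.WC1

/-! S6, package WC (see blueprint/S6/README.md). -/

set_option autoImplicit false
set_option linter.unusedSectionVars false

namespace H29.S6

open Subgroup Cfsg H29.F42
open H87.U6 (F3 V lin)
open H75.L7 (Nm T Ch2 Rk3)

variable {G : Type*} [Group G] [Finite G] {j ρ : V → G} {τ : G} {θ θ' : Sp →* G} {D : Subgroup G}

namespace WC

variable {M N : V → V} {S : Set (V → V)}

theorem ap_add (m : Q) (u v : V) : ap m (u + v) = ap m u + ap m v := by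
  refine Prod.ext ?_ (Prod.ext ?_ (Prod.ext ?_ ?_)) <;>
    simp only [ap, lin, Prod.fst_add, Prod.snd_add] <;> ring

theorem ap_mu (m n : Q) (v : V) : ap (mu m n) v = ap m (ap n v) := by
  refine Prod.ext ?_ (Prod.ext ?_ (Prod.ext ?_ ?_)) <;> simp only [ap, mu, lin] <;> ring

theorem ap_i0 : ∀ v, ap i0 v = v := by decide +kernel

theorem ap_e (m : Q) : ap m e1 = m.1 ∧ ap m e2 = m.2.1 ∧ ap m e3 = m.2.2.1 ∧ ap m e4 = m.2.2.2 := by
  simp [ap, lin]

/-- the columns -/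
def col (N : V → V) : Q := (N e1, N e2, N e3, N e4)

theorem ap_col (h : ∀ u v, N (u + v) = N u + N v) (v : V) : ap (col N) v = N v :=
  (H87.U6.add_lin h v).symm

theorem col_mu (hM : ∀ u v, M (u + v) = M u + M v) : mu (col M) (col N) = col fun v => M (N v) := by
  simp only [mu, ap_col hM]; rfl

theorem l_zero (h : Lin N) : N 0 = 0 := by simpa using h.1 0 0

theorem l_neg (h : Lin N) (v : V) : N (-v) = -N v :=
  eq_neg_of_add_eq_zero_left (by rw [← h.1, neg_add_cancel, l_zero h])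

theorem l_inj (h : Lin N) {u v : V} (e : N u = N v) : u = v :=
  sub_eq_zero.1 (h.2 _ (by rw [sub_eq_add_neg, h.1, l_neg h, e, add_neg_cancel]))

theorem l_comp (hM : Lin M) (hN : Lin N) : Lin fun v => M (N v) :=
  ⟨fun u v => by simp only [hN.1, hM.1], fun v e => hN.2 v (hM.2 _ e)⟩

theorem l_ap {m n : Q} (h : mu n m = i0) : Lin (ap m) :=
  ⟨ap_add m, fun v e => by
    rw [← ap_i0 v, ← h, ap_mu, e]
    simpa using ap_add n 0 0⟩

theorem pm_iff {x y : V} : pm x y = true ↔ x = y ∨ x = -y := by simp [pm]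

theorem pm_map (h : Lin N) (x y : V) : pm (N x) (N y) = pm x y := by
  rw [Bool.eq_iff_iff, pm_iff, pm_iff, ← l_neg h]
  exact or_congr ⟨l_inj h, congrArg N⟩ ⟨l_inj h, congrArg N⟩

theorem inF_map (h : Lin N) (x : V) : inF (N e2) (N e3) (N e4) (N x) = true ↔ Sh x := by
  rw [inF, pm_map h, pm_map h, pm_map h]
  revert x; decide +kernel

theorem sh_neg : ∀ x, (Sh x → Sh (-x)) ∧ (Sh1 x → Sh1 (-x)) := by decide +kernel

theorem W0.sh (h : W0 N) {x : V} (k : Sh x) : Sh (N x) := by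
  obtain ⟨l, -, h2, h3, h4⟩ := h
  rcases k with rfl | rfl | rfl | rfl | rfl | rfl <;>
    first | assumption | (rw [l_neg l]; exact (sh_neg _).1 ‹_›)

theorem Mon.sh (h : Mon N) {x : V} (k : Sh1 x) : Sh1 (N x) := by
  obtain ⟨l, h1, h2, h3, h4⟩ := h
  rcases k with rfl | rfl | rfl | rfl | rfl | rfl | rfl | rfl <;>
    first | assumption | (rw [l_neg l]; exact (sh_neg _).2 ‹_›)

theorem W0.mon (h : W0 N) : Mon N :=
  ⟨h.1, Or.inl h.2.1, Or.inr (Or.inr h.2.2.1), Or.inr (Or.inr h.2.2.2.1), Or.inr (Or.inr h.2.2.2.2)⟩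

theorem Mon.comp (hM : Mon M) (hN : Mon N) : Mon fun v => M (N v) :=
  ⟨l_comp hM.1 hN.1, Mon.sh hM hN.2.1, Mon.sh hM hN.2.2.1, Mon.sh hM hN.2.2.2.1,
    Mon.sh hM hN.2.2.2.2⟩

theorem Mon.w0 (h : Mon N) (e : N e1 = e1) : W0 N := by
  have k : ∀ x, Sh x → Sh (N x) := fun x hx => by
    have h1 : pm (N x) e1 = pm x e1 := by rw [← pm_map h.1 x e1, e]
    have h2 : ∀ x, Sh x ↔ Sh1 x ∧ pm x e1 = false := by decide +kernel
    exact (h2 _).2 ⟨Mon.sh h ((h2 x).1 hx).1, h1.trans ((h2 x).1 hx).2⟩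
  exact ⟨h.1, e, k _ (by decide), k _ (by decide), k _ (by decide)⟩

theorem sim_comp (hM : Sim M) (hN : Sim N) : Sim fun v => M (N v) := by
  obtain ⟨a, ε, e, k⟩ := hM
  obtain ⟨a', ε', e', k'⟩ := hN
  exact ⟨fun u v => by simp only [a', a], ε * ε', by linear_combination ε' * ε' * e + e',
    fun v => by simp only [k, k', mul_assoc]⟩

theorem Mon.tab (h : Mon N) :
    ((∀ v, N (N v) = v) ∨ (Finset.univ.filter fun v => N v = v).card < 27) ∧
    ((∀ v, N (N (N v)) = v) → col N ∈ l3) := by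
  have p := pm_map h.1
  obtain ⟨k1, k2⟩ := mon_tab _ h.2.1 _ h.2.2.1 (by rw [p]; decide) _ h.2.2.2.1 (by rw [p]; decide)
    (by rw [p]; decide) _ h.2.2.2.2 (by rw [p]; decide) (by rw [p]; decide) (by rw [p]; decide)
  have a := ap_col h.1.1
  change mu (col N) (col N) = i0 ∨ (Finset.univ.filter fun v => ap (col N) v = v).card < 27 at k1
  change mu (col N) (mu (col N) (col N)) = i0 → col N ∈ l3 at k2
  refine ⟨k1.imp (fun e v => by rw [← a, ← a v, ← ap_mu, e, ap_i0]) (by simp only [a]; exact id),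
    fun e => k2 ?_⟩
  rw [col_mu h.1.1, col_mu h.1.1]
  simp only [col, e]; rfl

theorem lt_w0 (g gi : Q) : W0 (ap (lt g gi 2)) ∧ W0 (ap (lt g gi 3)) ∧ W0 (ap (lt g gi 4)) := by
  change W0 (ap (lt i0 i0 2)) ∧ W0 (ap (lt i0 i0 3)) ∧ W0 (ap (lt i0 i0 4))
  exact ⟨⟨l_ap (n := lt i0 i0 2) (by decide +kernel), by decide +kernel⟩,
    ⟨l_ap (n := lt i0 i0 3) (by decide +kernel), by decide +kernel⟩,
    ⟨l_ap (n := lt i0 i0 4) (by decide +kernel), by decide +kernel⟩⟩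

theorem i0_mem (h : WS S) : ap i0 ∈ S :=
  h.w0 _ ⟨l_ap (n := i0) (by decide +kernel), by decide +kernel⟩

theorem ev_mem (h : WS S) {g gi : Q} (h1 : ap g ∈ S) (h2 : ap gi ∈ S) (l : List (Fin 5)) :
    ap (ev g gi l) ∈ S := by
  induction l with
  | nil => exact i0_mem h
  | cons x l ih =>
    have e : ap (ev g gi (x :: l)) = fun v => ap (lt g gi x) (ap (ev g gi l) v) :=
      funext (ap_mu _ _)
    rw [e]
    refine h.mul _ ?_ _ ih
    fin_cases x
    exacts [h1, h2, h.w0 _ (lt_w0 g gi).1, h.w0 _ (lt_w0 g gi).2.1, h.w0 _ (lt_w0 g gi).2.2]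

theorem G_mem (h : WS S) (i : Fin 3) : WC.G i ∈ S := by
  have e : (∀ v, ap (lt i0 i0 2) v = WC.G 0 v) ∧ (∀ v, ap (lt i0 i0 3) v = WC.G 1 v) ∧
      ∀ v, ap (lt i0 i0 4) v = WC.G 2 v := by decide +kernel
  fin_cases i
  exacts [funext e.1 ▸ h.w0 _ (lt_w0 i0 i0).1, funext e.2.1 ▸ h.w0 _ (lt_w0 i0 i0).2.1,
    funext e.2.2 ▸ h.w0 _ (lt_w0 i0 i0).2.2]

theorem core {v : V} {ms : List (Fin 3)} {es : List Ent} (h : Lin N) (hv : N e1 = v)
    (hI : ∀ i ∈ ms, ∀ x, Sh x → ∃ y, Sh y ∧ WC.G i (N x) = N y)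
    (c : chk v ms es (N e2) (N e3) (N e4) = true) :
    ∃ e ∈ es, ∀ x, Sh x → inF e.1.2.1 e.1.2.2.1 e.1.2.2.2 (N x) = true := by
  have h1 : WC.inv ms (N e2) (N e3) (N e4) = true := by
    have k : ∀ i ∈ ms, ∀ x, Sh x → inF (N e2) (N e3) (N e4) (WC.G i (N x)) = true := fun i hi x hx => by
      obtain ⟨y, hy, e⟩ := hI i hi x hx
      rw [e]; exact (inF_map h y).2 hy
    simp only [WC.inv, List.all_eq_true, Bool.and_eq_true]
    exact fun i hi => ⟨⟨k i hi _ (by decide), k i hi _ (by decide)⟩, k i hi _ (by decide)⟩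
  have h2 : dep v (N e2) (N e3) (N e4) = false := by
    rw [← hv]
    simp only [dep, List.any_eq_false, decide_eq_true_eq]
    exact fun u hu e => pts_ne u hu (h.2 u ((ap_col h.1 u).symm.trans e))
  have h3 : pm e4 e2 = false ∧ pm e4 e3 = false := by decide
  rw [chk, h1, h2, pm_map h, pm_map h, h3.1, h3.2] at c
  simp only [hit, Bool.not_true, Bool.false_or, Bool.or_false, List.any_eq_true,
    Bool.and_eq_true] at c
  obtain ⟨e, he, ⟨a2, a3⟩, a4⟩ := c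
  have n : ∀ a b c x : V, inF a b c x = true → inF a b c (-x) = true := by
    intro a b c x
    simp only [inF, Bool.or_eq_true, pm_iff, neg_eq_iff_eq_neg, neg_neg]
    tauto
  refine ⟨e, he, fun x hx => ?_⟩
  rcases hx with rfl | rfl | rfl | rfl | rfl | rfl <;>
    first | assumption | (rw [l_neg h]; exact n _ _ _ _ ‹_›)

/-- sign changes -/
def dg (s t u : Bool) : Q := (e1, if s then -e2 else e2, if t then -e3 else e3, if u then -e4 else e4)

theorem dg_tab : ∀ s t u, mu (dg s t u) (dg s t u) = i0 ∧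
    ∀ x, Sh x → Sh (ap (dg s t u) x) ∧ ap (dg s t u) (ap (dg s t u) x) = x := by decide +kernel

theorem sg_pts (h : Lin N) (x : V) (k : x ≠ 0) : ∃ s : Bool, N (if s then -x else x) ∈ pts := by
  rcases pts_all (N x) (fun e => k (h.2 x e)) with a | a
  · exact ⟨false, a⟩
  · exact ⟨true, by rwa [← l_neg h] at a⟩

theorem frame {r : V × List (Fin 3) × List Ent} (hr : r ∈ tb) (h : Lin N) (hv : N e1 = r.1)
    (hI : ∀ i ∈ r.2.1, ∀ x, Sh x → ∃ y, Sh y ∧ WC.G i (N x) = N y) :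
    ∃ e ∈ r.2.2, ∀ x, Sh x → inF e.1.2.1 e.1.2.2.1 e.1.2.2.2 (N x) = true := by
  obtain ⟨s, hs⟩ := sg_pts h e2 (by decide)
  obtain ⟨t, ht⟩ := sg_pts h e3 (by decide)
  have hp := List.all_eq_true.1 (List.all_eq_true.1 (List.all_eq_true.1 tb_pair r hr) _ hs) _ ht
  have d : ∀ s t : Bool, pm (if s then -e2 else e2) (if t then -e3 else e3) = false ∧
      Sh (if s then -e2 else e2) ∧ Sh (if t then -e3 else e3) ∧
      ∀ y, Sh y → pm y (if s then -e2 else e2) = false → pm y (if t then -e3 else e3) = false →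
        ∃ u : Bool, y = if u then -e4 else e4 := by decide +kernel
  obtain ⟨d1, d2, d3, d4⟩ := d s t
  obtain ⟨u, hu⟩ : ∃ u : Bool, chk r.1 r.2.1 r.2.2 (N (if s then -e2 else e2))
      (N (if t then -e3 else e3)) (N (if u then -e4 else e4)) = true := by
    rw [pair, pm_map h, d1, Bool.false_or] at hp
    split at hp
    · rename_i c hc
      have h1 := List.find?_some hc
      have h2 := List.mem_of_find?_eq_some hc
      obtain ⟨y, hy, rfl⟩ : ∃ y, Sh y ∧ c = N y := by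
        simp only [List.mem_append, List.mem_map] at h2
        rcases h2 with ⟨i, hi, rfl⟩ | ⟨i, hi, rfl⟩
        exacts [hI i hi _ d2, hI i hi _ d3]
      simp only [pm_map h, Bool.not_eq_eq_eq_not, Bool.not_true, Bool.or_eq_false_iff] at h1
      obtain ⟨u, rfl⟩ := d4 y hy h1.1 h1.2
      exact ⟨u, hp⟩
    · obtain ⟨u, hu⟩ := sg_pts h e4 (by decide)
      exact ⟨u, List.all_eq_true.1 hp _ hu⟩
  obtain ⟨g1, g2⟩ := dg_tab s t u
  obtain ⟨a1, a2, a3, a4⟩ := ap_e (dg s t u)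
  obtain ⟨e, he, k⟩ := core (N := fun v => N (ap (dg s t u) v)) (v := r.1) (ms := r.2.1) (es := r.2.2)
    (l_comp h (l_ap g1)) (by rw [a1]; exact hv) (fun i hi x hx => by
      obtain ⟨y, hy, e⟩ := hI i hi _ (g2 x hx).1
      exact ⟨_, (g2 y hy).1, by rw [e, (g2 y hy).2]⟩) (by rw [a2, a3, a4]; exact hu)
  exact ⟨e, he, fun x hx => by simpa only [(g2 x hx).2] using k _ (g2 x hx).1⟩

theorem frameS (h : WS S) (hN : N ∈ S) {r : V × List (Fin 3) × List Ent} (hr : r ∈ tb)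
    (hv : N e1 = r.1) :
    ∃ e ∈ r.2.2, ∀ x, Sh x → inF e.1.2.1 e.1.2.2.1 e.1.2.2.2 (N x) = true := by
  obtain ⟨M, hM, m1, m2⟩ := h.inv N hN
  refine frame hr (h.lin N hN) hv fun i hi x hx => ⟨M (WC.G i (N x)), ?_, (m2 _).symm⟩
  exact W0.sh (h.st _ (h.mul _ hM _ (h.mul _ (G_mem h i) _ hN)) (by
    simp only [hv, tb_fix r hr i hi]; rw [← hv, m1])) hx

theorem eqns_wc2 : True := by
  have := @col.eq_1; have := @dg.eq_1
  trivial

end WC

open WC

theorem mon_sim {N : V → V} (h : Mon N) : Sim N ∧ ∀ v, q (N v) = q v := by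
  have k : ∀ x, Sh1 x → q x = 1 ∧ ∀ y, Sh1 y → pm x y = false → b x y = 0 := by decide +kernel
  have p := pm_map h.1
  obtain ⟨l, h1, h2, h3, h4⟩ := h
  have key : ∀ v, q (N v) = q v := fun v => by
    have q1 := (k _ h1).1
    have q2 := (k _ h2).1
    have q3 := (k _ h3).1
    have q4 := (k _ h4).1
    have b12 := (k _ h1).2 _ h2 (by rw [p]; decide)
    have b13 := (k _ h1).2 _ h3 (by rw [p]; decide)
    have b14 := (k _ h1).2 _ h4 (by rw [p]; decide)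
    have b23 := (k _ h2).2 _ h3 (by rw [p]; decide)
    have b24 := (k _ h2).2 _ h4 (by rw [p]; decide)
    have b34 := (k _ h3).2 _ h4 (by rw [p]; decide)
    rw [← ap_col l.1 v]
    simp only [q, b, ap, col, lin] at *
    linear_combination v.1 ^ 2 * q1 + v.2.1 ^ 2 * q2 + v.2.2.1 ^ 2 * q3 + v.2.2.2 ^ 2 * q4 +
      2 * v.1 * v.2.1 * b12 + 2 * v.1 * v.2.2.1 * b13 + 2 * v.1 * v.2.2.2 * b14 +
      2 * v.2.1 * v.2.2.1 * b23 + 2 * v.2.1 * v.2.2.2 * b24 + 2 * v.2.2.1 * v.2.2.2 * b34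
  exact ⟨⟨l.1, 1, mul_one 1, fun v => by rw [key, one_mul]⟩, key⟩

theorem wneg {S : Set (V → V)} (h : WS S) {N : V → V} (hN : N ∈ S) (e : N e1 = -e1) :
    W0 fun v => rf e1 (N v) := by
  obtain ⟨r, hr, hv⟩ : ∃ r ∈ tb, r.1 = -e1 := by decide +kernel
  obtain ⟨x, hx, k⟩ := frameS h hN hr (e.trans hv.symm)
  have d : (∀ u v, rf e1 (u + v) = rf e1 u + rf e1 v) ∧ (∀ v, rf e1 v = 0 → v = 0) ∧
      rf e1 (-e1) = e1 ∧ ∀ x, Sh x → Sh (rf e1 x) := by
    refine ⟨fun u v => ?_, by decide +kernel⟩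
    have e : ∀ v, rf e1 v = ap (-e1, e2, e3, e4) v := by decide +kernel
    rw [e, e, e, ap_add]
  have k' : ∀ y, Sh y → Sh (rf e1 (N y)) := fun y hy => d.2.2.2 _ (tb_neg r hr hv x hx _ (k y hy))
  exact ⟨l_comp ⟨d.1, d.2.1⟩ (h.lin N hN), (congrArg (rf e1) e).trans d.2.2.1, k' _ (by decide),
    k' _ (by decide), k' _ (by decide)⟩

theorem wc {S : Set (V → V)} (h : WS S) {N : V → V} (hN : N ∈ S) :
    Mon N ∨ (Sim N ∧ rf (1, 1, 1, 1) ∈ S ∧ sw ∈ S) ∨ A0 ∈ S ∨ O1 ∈ S := by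
  by_cases h1 : N e1 = e1
  · exact Or.inl (W0.mon (h.st N hN h1))
  obtain ⟨l, -, l1, r, hr, hv⟩ := tb_nw (N e1) (fun e => absurd ((h.lin N hN).2 _ e) (by decide)) h1
  have hw := ev_mem h (i0_mem h) (i0_mem h) l
  obtain ⟨w', hw', w1, -⟩ := h.inv _ hw
  have hw0 : W0 w' := h.st _ hw' (by rw [← l1, ← (ap_e _).1, w1, (ap_e _).1, l1])
  have hN1 := h.mul _ hw _ hN
  obtain ⟨e, he, k⟩ := frameS h hN1 hr hv
  obtain ⟨t1, t2, t3, t4⟩ := tb_ent r hr e he
  obtain ⟨a1, a2, a3, a4⟩ := ap_e e.1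
  have g1 : ∀ v, ap e.1 (ap e.2.1 v) = v := fun v => by rw [← ap_mu, t2, ap_i0]
  have g2 : ∀ v, ap e.2.1 (ap e.1 v) = v := fun v => by rw [← ap_mu, t3, ap_i0]
  have hu : W0 fun v => ap e.2.1 (ap (ev i0 i0 l) (N v)) := by
    have k' : ∀ x, Sh x → Sh (ap e.2.1 (ap (ev i0 i0 l) (N x))) := fun x hx =>
      (inF_map (l_ap t3) _).1 (by rw [g1, a2, a3, a4]; exact k x hx)
    exact ⟨l_comp (l_ap t2) (h.lin _ hN1), by simp only [hv]; rw [← t1, ← a1, g2], k' _ (by decide),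
      k' _ (by decide), k' _ (by decide)⟩
  obtain ⟨u', hu', -, u2⟩ := h.inv _ (h.w0 _ hu)
  have hg : ap e.1 ∈ S := by
    have : ap e.1 = fun v => ap (ev i0 i0 l) (N (u' v)) := funext fun v => by
      rw [← g1 (ap (ev i0 i0 l) (N (u' v))), u2]
    rw [this]; exact h.mul _ hN1 _ hu'
  have hgi : ap e.2.1 ∈ S := by
    obtain ⟨M, hM, m1, -⟩ := h.inv _ hg
    have : ap e.2.1 = M := funext fun v => by rw [← m1 (ap e.2.1 v), g1]
    rwa [this]
  have hNe : N = fun v => w' (ap e.1 (ap e.2.1 (ap (ev i0 i0 l) (N v)))) :=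
    funext fun v => by rw [g1, w1]
  have m1 := ev_mem h hg hgi e.2.2.1
  have m2 := ev_mem h hg hgi e.2.2.2
  rcases t4 with t | ⟨t, t'⟩ | t | t | ⟨t, t', t''⟩
  · left
    rw [hNe]
    exact Mon.comp (W0.mon hw0) (Mon.comp (N := fun v => ap e.2.1 (ap (ev i0 i0 l) (N v)))
      ⟨l_ap t3, by rwa [a1, a2, a3, a4]⟩ (W0.mon hu))
  · obtain ⟨b1, b2, b3, b4⟩ := ap_e (ev e.1 e.2.1 e.2.2.1)
    exact absurd (by simpa only [b2, b3, b4] using (h.st _ m1 (b1.trans t)).2.2) t'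
  · rw [t] at m1; exact Or.inr (Or.inr (Or.inl m1))
  · rw [t] at m1; exact Or.inr (Or.inr (Or.inr m1))
  · rw [t] at m1
    rw [t'] at m2
    have e0 : ap r0 = rf (1, 1, 1, 1) := funext (by decide +kernel)
    refine Or.inr (Or.inl ⟨?_, e0 ▸ m1, m2⟩)
    rw [hNe]
    exact sim_comp (mon_sim (W0.mon hw0)).1 (sim_comp
      (N := fun v => ap e.2.1 (ap (ev i0 i0 l) (N v))) ⟨ap_add _, t''⟩ (mon_sim (W0.mon hu)).1)

/-- a monomial map of order a power of three fixing a hyperplane (27 vectors) is trivial -/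
theorem mon3 {N : V → V} (m : Mon N) {k : ℕ} (e : ∀ v, N^[3 ^ k] v = v)
    (h : 27 ≤ Nat.card {v // N v = v}) (v : V) : N v = v := by
  rw [Nat.card_eq_fintype_card, Fintype.card_subtype] at h
  have h2 := (Mon.tab m).1.resolve_right (not_lt.2 h)
  obtain ⟨n, hn⟩ : Odd (3 ^ k) := Odd.pow (by decide)
  have := e v
  rwa [hn, Function.iterate_add_apply, Function.iterate_one, Function.iterate_mul,
    Function.iterate_fixed (f := N^[2]) (h2 _)] at this

/-- two monomial maps of order three that commute generate a cyclic group -/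
theorem mon33 {M N : V → V} (m : Mon M) (n : Mon N) (m3 : ∀ v, M (M (M v)) = v)
    (n3 : ∀ v, N (N (N v)) = v) (c : ∀ v, M (N v) = N (M v)) (n1 : ∃ v, N v ≠ v) :
    (∀ v, M v = v) ∨ (∀ v, M v = N v) ∨ ∀ v, M v = N (N v) := by
  have a := ap_col m.1.1
  have a' := ap_col n.1.1
  rcases l3_tab _ ((Mon.tab m).2 m3) _ ((Mon.tab n).2 n3) (by
    rw [col_mu m.1.1, col_mu n.1.1]; simp only [col, c]) with e | e | e | e
  · obtain ⟨v, hv⟩ := n1
    exact absurd (by rw [← a', e, ap_i0]) hv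
  · exact Or.inl fun v => by rw [← a, e, ap_i0]
  · exact Or.inr (Or.inl fun v => by rw [← a, e, a'])
  · exact Or.inr (Or.inr fun v => by rw [← a, e, ap_mu, a', a'])

theorem wc_aff {S : Set (V → V)} (h : WS S) (a : A0 ∈ S) :
    (∀ y : X3, lin (1, y) e2 e3 e4 ∈ S) ∧ ∀ N ∈ S, ∀ v : V, v.1 = 0 → (N v).1 = 0 := by
  have hT : ∀ y : X3, lin (1, y) e2 e3 e4 ∈ S := fun y => by
    have := ev_mem h (g := a0) (gi := a0) a a (tw y)
    rwa [tb_tw] at this
  refine ⟨hT, fun N hN => ?_⟩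
  have l := h.lin N hN
  have fin : (N e2).1 = 0 → (N e3).1 = 0 → (N e4).1 = 0 → ∀ v : V, v.1 = 0 → (N v).1 = 0 := by
    intro h2 h3 h4 v hv
    rw [← ap_col l.1 v]
    simp only [ap, col, lin, hv, h2, h3, h4, mul_zero, zero_mul, add_zero]
  have t1 : ∀ (y : X3) (v : V), (lin (1, y) e2 e3 e4 v).1 = v.1 := fun y v => by simp [lin]
  have d : ∀ u : V, u.1 = 0 ∨ (∃ y : X3, lin (1, y) e2 e3 e4 u = e1) ∨
      ∃ y : X3, lin (1, y) e2 e3 e4 u = -e1 := by decide +kernel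
  have d' : ∀ x, (Sh x → x.1 = 0) ∧ (Sh (rf e1 x) → x.1 = 0) := by decide +kernel
  rcases d (N e1) with e | ⟨y, e⟩ | ⟨y, e⟩
  · exfalso
    obtain ⟨M, hM, m1, m2⟩ := h.inv N hN
    have t2 : ∀ (y : X3) (v : V), v.1 = 0 → lin (1, y) e2 e3 e4 v = v := fun y v hv => by
      refine Prod.ext ?_ (Prod.ext ?_ (Prod.ext ?_ ?_)) <;> simp [lin, hv]
    have hm : ∀ y : X3, Mon fun v => M (lin (1, y) e2 e3 e4 (N v)) := fun y =>
      W0.mon (h.st _ (h.mul _ hM _ (h.mul _ (hT y) _ hN)) (by simp only [t2 y _ e, m1]))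
    have c : (∀ v, lin (1, 1, 0, 0) e2 e3 e4 (lin (1, 1, 0, 0) e2 e3 e4 (lin (1, 1, 0, 0) e2 e3 e4 v)) = v) ∧
        (∀ v, lin (1, 0, 1, 0) e2 e3 e4 (lin (1, 0, 1, 0) e2 e3 e4 (lin (1, 0, 1, 0) e2 e3 e4 v)) = v) ∧
        (∀ v, lin (1, 1, 0, 0) e2 e3 e4 (lin (1, 0, 1, 0) e2 e3 e4 v) =
          lin (1, 0, 1, 0) e2 e3 e4 (lin (1, 1, 0, 0) e2 e3 e4 v)) := by decide +kernel
    have li := @l_inj _ (h.lin M hM)
    rcases mon33 (hm (1, 0, 0)) (hm (0, 1, 0)) (fun v => by simp only [m2, c.1, m1])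
      (fun v => by simp only [m2, c.2.1, m1]) (fun v => by simp only [m2, c.2.2])
      ⟨M e1, fun k => absurd (li k) (by rw [m2]; decide)⟩ with k | k | k
    · exact absurd (li (k (M e1))) (by rw [m2]; decide)
    · exact absurd (li (k (M e1))) (by rw [m2]; decide)
    · exact absurd (li (k (M e1))) (by simp only [m2]; decide)
  · obtain ⟨-, -, h2, h3, h4⟩ := h.st _ (h.mul _ (hT y) _ hN) e
    exact fin ((t1 y _).symm.trans ((d' _).1 h2)) ((t1 y _).symm.trans ((d' _).1 h3))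
      ((t1 y _).symm.trans ((d' _).1 h4))
  · obtain ⟨-, -, h2, h3, h4⟩ := wneg h (h.mul _ (hT y) _ hN) e
    exact fin ((t1 y _).symm.trans ((d' _).2 h2)) ((t1 y _).symm.trans ((d' _).2 h3))
      ((t1 y _).symm.trans ((d' _).2 h4))

theorem wc_iso {S : Set (V → V)} (h : WS S) (a : rf (1, 1, 1, 1) ∈ S) (a' : sw ∈ S) {N : V → V}
    (hN : Sim N) (e : q (N e1) = 1) : N ∈ S := by
  obtain ⟨ad, ε, -, k⟩ := hN
  have hε : ε = 1 := by
    have : q e1 = 1 := by decide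
    rw [k, this, mul_one] at e; exact e
  simp only [hε, one_mul] at k
  obtain ⟨l, -, l1, l2⟩ := tb_iw _ e
  have e0 : ap r0 = rf (1, 1, 1, 1) := funext (by decide +kernel)
  have hg := ev_mem h (g := r0) (gi := s0) (e0 ▸ a) a' l
  obtain ⟨M, hM, m1, m2⟩ := h.inv _ hg
  have hq : ∀ v, q (M (N v)) = q v := fun v => by rw [← l2, m2, k]
  have d : ∀ v : V, (∀ u, q (v + u) = q u) → v = 0 := by decide +kernel
  have lN : Lin N := ⟨ad, fun v hv => d v fun u => by rw [← k, ad, hv, zero_add, k]⟩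
  have l := l_comp (h.lin M hM) lN
  have h1 : M (N e1) = e1 := by rw [← l1, ← (ap_e _).1, m1]
  have d' : ∀ x : V, Sh x ↔ q x = 1 ∧ q (e1 + x) = 2 := by decide +kernel
  have k' : ∀ x, Sh x → Sh (M (N x)) := fun x hx => (d' _).2 ⟨by rw [hq, ((d' x).1 hx).1], by
    have := l.1 e1 x
    simp only [h1] at this
    rw [← this, hq, ((d' x).1 hx).2]⟩
  have := h.mul _ hg _ (h.w0 _ ⟨l, h1, k' _ (by decide), k' _ (by decide), k' _ (by decide)⟩)
  simpa only [m2] using this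

theorem wc_sw {S : Set (V → V)} (h : WS S) {N : V → V} (hN : N ∈ S) (m : Mon N) (e : N e1 ≠ e1)
    (e' : N e1 ≠ -e1) : sw ∈ S := by
  have d : ∀ v, Sh1 v → v ≠ e1 → v ≠ -e1 → ∃ l ∈ nw, (ev i0 i0 l).1 = e1 ∧
      ap (ev i0 i0 l) v = e2 := by decide +kernel
  obtain ⟨l, -, l1, l2⟩ := d _ m.2.1 e e'
  have hw := ev_mem h (i0_mem h) (i0_mem h) l
  have hw0 := h.st _ hw ((ap_e _).1.trans l1)
  have ms : Mon sw := ⟨l_ap (m := s0) (n := s0) (by decide +kernel), by decide +kernel⟩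
  have h1 := h.w0 _ (Mon.w0 (Mon.comp ms (Mon.comp (W0.mon hw0) m)) (by rw [l2]; decide +kernel))
  obtain ⟨M, hM, -, m2⟩ := h.inv _ (h.mul _ hw _ hN)
  have := h.mul _ h1 _ hM
  simpa only [m2] using this

end H29.S6
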