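import Cfsg.Agent.Lib.S6.Bas
import Cfsg.Agent.Lib.S6.WC

/-! S6, package AF1 (see blueprint/S6/README.md). -/

set_option autoImplicit false
set_option linter.unusedSectionVars false

namespace H29.S6

open Subgroup Cfsg H29.F42
open H87.U6 (F3 V lin)
open H75.L7 (Nm T Ch2 Rk3)

variable {G : Type*} [Group G] [Finite G] {j ρ : V → G} {τ : G} {θ θ' : Sp →* G} {D : Subgroup G}

namespace AF1

/-- the subgroup `I` -/
def II (h : Jm j) : Subgroup G := sgOf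
  { carrier := {g | ∃ y : X3, g = j (0, y)}
    one_mem' := ⟨0, h.j0.symm⟩
    mul_mem' := by
      rintro _ _ ⟨y, rfl⟩ ⟨y', rfl⟩
      exact ⟨y + y', by rw [← h.add]; simp⟩ }

theorem mem_II {h : Jm j} {g : G} : g ∈ II h ↔ ∃ y : X3, g = j (0, y) := Iff.rfl

theorem jI (h : Jm j) (y : X3) : j (0, y) ∈ II h := ⟨y, rfl⟩

theorem jI' (h : Jm j) {v : V} (e : v.1 = 0) : j v ∈ II h := ⟨v.2, by rw [← e]⟩

/-- `g` centralizes `I` and moves `j e1` inside its coset -/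
def Y1 (j : V → G) (g : G) (y : X3) : Prop :=
  (∀ x : X3, g * j (0, x) = j (0, x) * g) ∧ g * j e1 * g⁻¹ = j (1, y)

theorem j1 (h : Jm j) (y : X3) : j (1, y) = j e1 * j (0, y) := by
  rw [← h.add]; congr 1; ext <;> simp

theorem y0 : Y1 j 1 0 := ⟨by simp, by rw [one_mul, inv_one, mul_one]; rfl⟩

theorem cmz {m m' a a' : G} (c1 : Commute a m) (c2 : Commute a' m) (c3 : Commute a m') (c4 : Commute a' m')
    (c5 : Commute a a') : a * m⁻¹ * (a' * m'⁻¹) * (a * m⁻¹)⁻¹ * (a' * m'⁻¹)⁻¹ = m⁻¹ * m'⁻¹ * m * m' := by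
  have k1 := (((c1.inv_right.mul_right c5).mul_right c3.inv_right).mul_right c1).eq
  have k2 := ((c4.inv_right.mul_right c2).mul_right c4).eq
  calc _ = a * (m⁻¹ * a' * m'⁻¹ * m) * a⁻¹ * m' * a'⁻¹ := by group
    _ = m⁻¹ * (a' * (m'⁻¹ * m * m')) * a'⁻¹ := by rw [k1]; group
    _ = _ := by rw [k2]; group

theorem Y1.mul (h : Jm j) {g g' : G} {y y' : X3} (a : Y1 j g y) (c : Y1 j g' y') : Y1 j (g * g') (y + y') := by
  refine ⟨fun x => by rw [mul_assoc, c.1, ← mul_assoc, a.1, mul_assoc], ?_⟩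
  have : g * g' * j e1 * (g * g')⁻¹ = g * (g' * j e1 * g'⁻¹) * g⁻¹ := by group
  rw [this, c.2, j1 h y', ← mul_assoc, mul_assoc _ _ g⁻¹, ← H87.U6.cm_inv (a.1 y'), ← mul_assoc, a.2, ← h.add]
  simp

theorem Y1.inv (h : Jm j) {g : G} {y : X3} (a : Y1 j g y) : Y1 j g⁻¹ (-y) := by
  refine ⟨fun x => H87.U6.cm_inv (a.1 x), ?_⟩
  have e : j e1 = j (1, y) * j (0, -y) := by rw [← h.add]; congr 1; ext <;> simp
  rw [j1 h (-y)]
  conv_lhs => rw [e, ← a.2]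
  rw [inv_inv, mul_assoc, mul_assoc, ← a.1]
  group

theorem Y1.cj (h : Jm j) {g : G} {y : X3} (a : Y1 j g y) (v : V) :
    g * j v * g⁻¹ = j v * j (0, v.1 • y) := by
  obtain ⟨k, x⟩ := v
  have e : j (k, x) = j e1 ^ k.val * j (0, x) := by rw [h.jpow, ← h.add]; congr 1; ext <;> simp
  conv_lhs => rw [e]
  rw [← mul_assoc, mul_assoc _ _ g⁻¹, ← H87.U6.cm_inv (a.1 x), ← mul_assoc, ← conj_pow, a.2, h.jpow, ← h.add,
    ← h.add]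
  congr 1
  ext <;> simp [add_comm]

theorem Y1.cen (h : Jm j) {g : G} (a : Y1 j g 0) (v : V) : g * j v = j v * g := by
  have := a.cj h v
  rwa [smul_zero, show ((0 : F3), (0 : X3)) = 0 from rfl, h.j0, mul_one, mul_inv_eq_iff_eq_mul] at this

theorem Y1.nm (h : Jm j) {g : G} {y : X3} (a : Y1 j g y) : Nm g (II h) := by
  rintro _ ⟨x, rfl⟩
  rw [a.1, mul_inv_cancel_right]
  exact jI h x

theorem uq (h : Ch0 j θ D) {v w : V} {d : G} (hd : d ∈ D) (e : j v * d = j w) : d = 1 ∧ v = w := by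
  have : d = 1 := H87.U6.eq_one_of_cop h.cop hd (n := 1) (by
    rw [eq_inv_mul_of_mul_eq e, ← h.jm.jneg, ← h.add, pow_one, h.jm.j3])
  exact ⟨this, h.jm.jinj (by rwa [this, mul_one] at e)⟩

theorem sq1 (h : Ch j θ D) {d : G} (hd : d ∈ D) (e : d * d = 1) : d = 1 :=
  H75.L7.eq_one_of_two_odd (k := 1) (by rwa [pow_one, sq]) h.odd
    (orderOf_dvd_iff_pow_eq_one.1 (D.orderOf_dvd_natCard hd))

/-- the group `Y` -/
def Yy (j : V → G) (D : Subgroup G) (g : G) : Prop := (∃ y, Y1 j g y) ∧ ∀ d ∈ D, g * d = d * g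

theorem Yy.mul (h : Jm j) {g g' : G} (a : Yy j D g) (c : Yy j D g') : Yy j D (g * g') := by
  obtain ⟨⟨y, a1⟩, a2⟩ := a
  obtain ⟨⟨y', c1⟩, c2⟩ := c
  exact ⟨⟨_, a1.mul h c1⟩, fun d hd => H87.U6.cm_mul (a2 d hd) (c2 d hd)⟩

theorem Yy.inv (h : Jm j) {g : G} (a : Yy j D g) : Yy j D g⁻¹ := by
  obtain ⟨⟨y, a1⟩, a2⟩ := a
  exact ⟨⟨_, a1.inv h⟩, fun d hd => H87.U6.cm_inv (a2 d hd)⟩

theorem Yy.nm (h : Jm j) {g : G} (a : Yy j D g) : Nm g (II h) := a.1.elim fun _ k => k.nm h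

theorem y1_of (h : Jm j) {g i : G} (c : ∀ x : X3, g * j (0, x) = j (0, x) * g) (hi : i ∈ II h)
    (e : g * j e1 * g⁻¹ = j e1 * i) : ∃ y, Y1 j g y := by
  obtain ⟨y, rfl⟩ := hi
  exact ⟨y, c, by rw [e, j1 h y]⟩

theorem Yy.cj (h : Ch0 j θ D) {n g : G} (hn : NJ j n) (i : Nm n (II h.jm)) (a : Yy j D g) :
    Yy j D (n * g * n⁻¹) := by
  obtain ⟨⟨y, a1⟩, a2⟩ := a
  have cc : ∀ x, g * (n⁻¹ * x * n⁻¹⁻¹) = n⁻¹ * x * n⁻¹⁻¹ * g → n * g * n⁻¹ * x = x * (n * g * n⁻¹) := fun x e => by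
    simpa [mul_assoc] using H87.U6.cm_conj e n
  refine ⟨?_, fun d hd => cc d (a2 _ ((h.nD hn).inv d hd))⟩
  obtain ⟨w, hw⟩ := h.jm.nj_inv hn e1
  refine y1_of h.jm (fun x => cc _ ?_) (i _ (jI h.jm (w.1 • y))) ?_
  · obtain ⟨x', e⟩ := i.inv _ (jI h.jm x)
    rw [e, a1.1]
  · have : n * g * n⁻¹ * j e1 * (n * g * n⁻¹)⁻¹ = n * (g * (n⁻¹ * j e1 * n⁻¹⁻¹) * g⁻¹) * n⁻¹ := by group
    rw [this, hw, a1.cj h.jm, ← hw]
    group

theorem cz (h : Ch0 j θ D) {g z : G} (a : Yy j D g) (c : ∀ v, z * j v = j v * z) :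
    g * z * g⁻¹ * z⁻¹ ∈ II h.jm := by
  obtain ⟨v, d, hd, rfl⟩ := h.cJ c
  obtain ⟨⟨y, a1⟩, a2⟩ := a
  have : g * (j v * d) * g⁻¹ * (j v * d)⁻¹ = g * j v * g⁻¹ * (g * d * g⁻¹ * d⁻¹) * (j v)⁻¹ := by group
  rw [this, a2 d hd, a1.cj h.jm, h.jm.jc v, mul_inv_cancel_right, mul_inv_cancel, mul_one, mul_inv_cancel_right]
  exact jI _ _

theorem cmY (h : Jm j) {g g' : G} {y y' : X3} (a : Y1 j g y) (c : Y1 j g' y') :
    Y1 j (g * g' * g⁻¹ * g'⁻¹) 0 := by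
  simpa using ((a.mul h c).mul h (a.inv h)).mul h (c.inv h)

theorem key (h : Ch j θ D) {r r' : G} {y y' : X3} {x : Sp} {N : V → V} (a : Ac j (θ x) N)
    (hN : ∀ v, (N v).1 = v.1) (b1 : Yy j D r) (b2 : Yy j D r') (c1 : Y1 j r y) (c2 : Y1 j r' y')
    (e1 : N (1, y) = (1, -y)) (e2 : N (1, y') = (1, y')) : r * r' * r⁻¹ * r'⁻¹ ∈ II h.jm := by
  have J := h.jm
  have nI : Nm (θ x) (II J) := by
    rintro _ ⟨u, rfl⟩
    rw [a]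
    exact jI' J (hN _)
  have tr : ∀ {g u u'}, Yy j D g → Y1 j g u → N (1, u) = (1, u') → Y1 j (θ x * g * (θ x)⁻¹) u' :=
    fun {g u u'} b c e => by
      obtain ⟨⟨_, k, -⟩, -⟩ := Yy.cj h.toCh0 a.nj nI b
      refine ⟨k, ?_⟩
      have : θ x * g * (θ x)⁻¹ * j F42.e1 * (θ x * g * (θ x)⁻¹)⁻¹ =
        θ x * (g * ((θ x)⁻¹ * j F42.e1 * θ x) * g⁻¹) * (θ x)⁻¹ := by group
      rw [this, mul_assoc (θ x)⁻¹, ← h.cy, inv_mul_cancel_left, c.2, a, e]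
  have s := tr b1 c1 e1
  have s' := tr b2 c2 e2
  have bs := Yy.cj h.toCh0 a.nj nI b1
  have z1 := (s.mul J c1)
  have z2 := (s'.mul J (c2.inv J))
  rw [neg_add_cancel] at z1
  rw [add_neg_cancel] at z2
  have ct : θ x * (r * r' * r⁻¹ * r'⁻¹) * (θ x)⁻¹ = θ x * r * (θ x)⁻¹ * (θ x * r' * (θ x)⁻¹) *
    (θ x * r * (θ x)⁻¹)⁻¹ * (θ x * r' * (θ x)⁻¹)⁻¹ := by group
  have bz := (Yy.cj h.toCh0 a.nj nI b2).mul J (b2.inv J)
  obtain ⟨z, ez⟩ : ∃ z, θ x * r' * (θ x)⁻¹ = z * r' := ⟨θ x * r' * (θ x)⁻¹ * r'⁻¹, by group⟩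
  rw [ez] at ct
  rw [ez, mul_inv_cancel_right] at z2 bz
  generalize θ x * r * (θ x)⁻¹ = p at s bs z1 ct
  have cc := (cmY J c1 c2).cen J
  obtain ⟨v, d, hd, ec⟩ := h.cJ cc
  have m1 := cz h.toCh0 bs (z2.cen J)
  have m2 := cz h.toCh0 bz ((cmY J s c2).cen J)
  have m3 := inv_mem (cz h.toCh0 b2 (z1.cen J))
  have m4 := cz h.toCh0 bs cc
  have m5 : θ x * (r * r' * r⁻¹ * r'⁻¹) * (θ x)⁻¹ * (r * r' * r⁻¹ * r'⁻¹)⁻¹ ∈ II J := by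
    have : θ x * (j v * d) * (θ x)⁻¹ * (j v * d)⁻¹ =
      θ x * j v * (θ x)⁻¹ * (θ x * d * (θ x)⁻¹ * d⁻¹) * (j v)⁻¹ := by group
    rw [ec, this, ← h.Dθ d hd, a, mul_inv_cancel_right, mul_inv_cancel, mul_one, ← J.jneg, ← J.add]
    exact jI' J (by simp [hN])
  have nc := (cmY J c1 c2).nm J
  have m : r * r' * r⁻¹ * r'⁻¹ * (r * r' * r⁻¹ * r'⁻¹) ∈ II J := by
    have := mul_mem (nc _ (mul_mem (mul_mem (inv_mem m5) m1) m2)) (mul_mem (inv_mem m4) m3)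
    rw [ct] at this
    convert this using 1
    group
  obtain ⟨u, eu⟩ := m
  rw [ec, mul_assoc, ← mul_assoc d, h.Dj hd, mul_assoc, ← mul_assoc, ← J.add] at eu
  obtain ⟨k1, k2⟩ := uq h.toCh0 (mul_mem hd hd) eu
  rw [ec, sq1 h hd k1, mul_one]
  exact jI' J ((by decide : ∀ k : F3, k + k = 0 → k = 0) _ (congrArg Prod.fst k2))

theorem gen (J : Jm j) {P : G → Prop} (mul : ∀ a c, Yy j D a → P a → P c → P (a * c))
    (z : ∀ g, (∀ v, g * j v = j v * g) → P g) {r : Fin 3 → G} (b : ∀ i, Yy j D (r i))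
    (c : ∀ i, Y1 j (r i) (E3 i).2) (p : ∀ i, P (r i)) {g : G} (a : Yy j D g) : P g := by
  let S : X3 → Prop := fun y => ∃ s, Yy j D s ∧ Y1 j s y ∧ P s
  have s0 : S 0 := ⟨1, ⟨⟨0, y0⟩, by simp⟩, y0, z 1 (by simp)⟩
  have sa : ∀ y y', S y → S y' → S (y + y') := by
    rintro y y' ⟨s, a1, a2, a3⟩ ⟨s', c1, c2, c3⟩
    exact ⟨_, a1.mul J c1, a2.mul J c2, mul _ _ a1 a3 c3⟩
  have sm : ∀ y, S y → ∀ k : F3, S (k • y) := fun y hy k => by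
    rcases (by decide : ∀ k : F3, k = 0 ∨ k = 1 ∨ k = 1 + 1) k with rfl | rfl | rfl
    · rwa [zero_smul]
    · rwa [one_smul]
    · rw [add_smul, one_smul]; exact sa _ _ hy hy
  have si : ∀ i, S (E3 i).2 := fun i => ⟨_, b i, c i, p i⟩
  obtain ⟨⟨y, a1⟩, -⟩ := a
  obtain ⟨s, s1, s2, s3⟩ := sa _ _ (sa _ _ (sm _ (si 0) y.1) (sm _ (si 1) y.2.1)) (sm _ (si 2) y.2.2)
  rw [(by decide : ∀ y : X3, y.1 • (E3 0).2 + y.2.1 • (E3 1).2 + y.2.2 • (E3 2).2 = y) y] at s2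
  have := (s2.inv J).mul J a1
  rw [neg_add_cancel] at this
  simpa using mul s _ s1 s3 (z _ (this.cen J))

/-- `Y / I` is abelian -/
theorem cm (h : Ch j θ D) (ex : ∀ y, ∃ r, Yy j D r ∧ Y1 j r y) {g g' : G} (a : Yy j D g) (a' : Yy j D g') :
    g * g' * g⁻¹ * g'⁻¹ ∈ II h.jm := by
  choose r b c using fun i => ex (E3 i).2
  have sy : ∀ {x y : G}, x * y * x⁻¹ * y⁻¹ ∈ II h.jm → y * x * y⁻¹ * x⁻¹ ∈ II h.jm := fun m => by
    simpa [mul_assoc] using inv_mem m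
  have st : ∀ {s}, Yy j D s → (∀ i, r i * s * (r i)⁻¹ * s⁻¹ ∈ II h.jm) → ∀ {x}, Yy j D x →
      x * s * x⁻¹ * s⁻¹ ∈ II h.jm := fun {s} bs p x bx =>
    gen h.jm (P := fun x => x * s * x⁻¹ * s⁻¹ ∈ II h.jm) (fun u w bu pu pw => by
      convert mul_mem (bu.nm h.jm _ pw) pu using 1
      group) (fun z cz' => sy (cz h.toCh0 bs cz')) b c p bx
  refine st a' (fun k => sy (st (b k) (fun i => ?_) a')) a
  by_cases e : i = k
  · simp [e]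
  · exact key h (h.acT i) ((by decide : ∀ i v, (rf (E3 i) v).1 = v.1) i) (b i) (b k) (c i) (c k)
      ((by decide : ∀ i, rf (E3 i) (1, (E3 i).2) = (1, -(E3 i).2)) i)
      ((by decide : ∀ i k, i ≠ k → rf (E3 i) (1, (E3 k).2) = (1, (E3 k).2)) i k e)

theorem eqns : True := by
  have := @II.eq_1.{0}; have := @Y1.eq_1.{0}; have := @Yy.eq_1.{0}
  trivial

end AF1

open AF1

theorem af1 (h : Ch j θ D) {a : G} (ha : Ac j a A0) : ∃ M, Aff j D M := by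
  have J := h.jm
  obtain ⟨w1, w2⟩ := wc_aff h.ws ⟨a, ha⟩
  have nI : ∀ {n}, NJ j n → Nm n (II J) := fun {n} hn => by
    obtain ⟨N, hN⟩ := J.nj_ac hn
    rintro _ ⟨y, rfl⟩
    rw [hN]
    exact jI' J (w2 N ⟨n, hN⟩ _ rfl)
  obtain ⟨t, aτ, t2, tD⟩ : ∃ t, Ac j t (fun v => (v.1, -v.2)) ∧ t * t = 1 ∧ ∀ d ∈ D, t * d = d * t := by
    refine ⟨θ (TT 0 * TT 1 * TT 2), ?_, ?_, fun d hd => (h.Dθ d hd _).symm⟩
    · rw [map_mul, map_mul]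
      exact (((h.acT 0).mul (h.acT 1)).mul (h.acT 2)).congr (by decide)
    · obtain ⟨-, -, s1, s2, -⟩ := sp_rel
      rw [← map_mul, Commute.mul_mul_mul_comm, Commute.mul_mul_mul_comm (s2 1 0), s1, s1, s1]
      · simp
      · exact Commute.mul_right (s2 2 0) (s2 2 1)
  have ti : t⁻¹ = t := inv_eq_of_mul_eq_one_right t2
  have tI : ∀ i ∈ II J, t * i * t⁻¹ = i⁻¹ := by
    rintro _ ⟨y, rfl⟩
    rw [aτ, ← J.jneg]; simp
  have tb : t⁻¹ * j e1 * t = j e1 := by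
    rw [mul_assoc, ← aτ.cm (v := e1) (by decide), inv_mul_cancel_left]
  have xb : ∀ {n w}, n * j e1 * n⁻¹ = j w → n⁻¹ * t * n * t⁻¹ * j e1 * (n⁻¹ * t * n * t⁻¹)⁻¹ =
      j e1 * (n⁻¹ * j (0, w.2) * n⁻¹⁻¹) := fun {n w} e => by
    have : n⁻¹ * t * n * t⁻¹ * j e1 * (n⁻¹ * t * n * t⁻¹)⁻¹ =
      n⁻¹ * (t * (n * (t⁻¹ * j e1 * t) * n⁻¹) * t⁻¹) * n := by group
    rw [this, tb, e, aτ]
    beta_reduce
    rw [(by decide : ∀ w : V, (w.1, -w.2) = w + (0, w.2)) w, J.add, ← e]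
    group
  have xc : ∀ {n}, NJ j n → ∀ y : X3, n⁻¹ * t * n * t⁻¹ * j (0, y) = j (0, y) * (n⁻¹ * t * n * t⁻¹) :=
    fun {n} hn y => by
      have k1 := tI _ (jI J y)
      have k2 := tI _ (nI hn _ (inv_mem (jI J y)))
      have k3 : t⁻¹ * j (0, y) * t = (j (0, y))⁻¹ := by rw [← k1, ti]
      calc _ = n⁻¹ * (t * (n * (t⁻¹ * j (0, y) * t) * n⁻¹) * t⁻¹) * n * (n⁻¹ * t * n * t⁻¹) := by group
        _ = _ := by rw [k3, k2]; group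
  have xY : ∀ {n}, NJ j n → Yy j D (n⁻¹ * t * n * t⁻¹) := fun {n} hn => by
    obtain ⟨w, hw⟩ := hn e1
    refine ⟨y1_of J (xc hn) (nI (J.nj_inv hn) _ (jI J w.2)) (xb hw), fun d hd => ?_⟩
    refine H87.U6.cm_mul ?_ (H87.U6.cm_inv (tD d hd))
    simpa [mul_assoc] using H87.U6.cm_conj (tD _ (h.nD hn d hd)) n⁻¹
  have ex : ∀ y, ∃ r, Yy j D r ∧ Y1 j r y ∧ t * r * t⁻¹ * r = 1 := fun y => by
    obtain ⟨n, hn⟩ := w1 y
    refine ⟨_, xY hn.nj, ⟨xc hn.nj, ?_⟩, ?_⟩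
    · have c := hn.cm (v := (0, y)) ((by decide : ∀ y x : X3, lin (1, y) e2 e3 e4 (0, x) = (0, x)) y y)
      rw [xb (hn e1), (by decide : ∀ y : X3, (lin (1, y) e2 e3 e4 e1).2 = y) y, H87.U6.cm_inv c, j1 J y,
        mul_inv_cancel_right]
    · have c3 : ∀ y, t * (t * y) = y := fun y => by rw [← mul_assoc, t2, one_mul]
      simp only [ti, mul_assoc, c3, mul_inv_cancel_left, inv_mul_cancel_left, t2, one_mul]
  have cY := fun {g g'} => cm h (fun y => (ex y).imp fun r k => ⟨k.1, k.2.1⟩) (g := g) (g' := g')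
  have tY := fun {g} => Yy.cj h.toCh0 aτ.nj (nI aτ.nj) (g := g)
  let M : Subgroup G := sgOf
    { carrier := {g | Yy j D g ∧ t * g * t⁻¹ * g ∈ II J}
      one_mem' := ⟨⟨⟨0, y0⟩, by simp⟩, by simp⟩
      mul_mem' := fun {g g'} a c => ⟨a.1.mul J c.1, by
        convert mul_mem (mul_mem a.2 ((a.1.inv J).nm J _ c.2)) (cY (a.1.inv J) (c.1.inv J)) using 1
        group⟩ }
  have mM : ∀ {g}, g ∈ M ↔ Yy j D g ∧ t * g * t⁻¹ * g ∈ II J := Iff.rfl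
  have cb : ∀ m ∈ M, m * j e1 = j e1 * m → ∃ y : X3, m = j (0, y) := fun m hm c => by
    obtain ⟨⟨⟨y, y1⟩, -⟩, u, eu⟩ := mM.1 hm
    obtain ⟨v, d, hd, rfl⟩ := h.cJ (Y1.cen J ⟨y1.1, by rw [c, mul_inv_cancel_right]; rfl⟩)
    have : t * (j v * d) * t⁻¹ * (j v * d) = t * j v * t⁻¹ * (t * d * t⁻¹ * j v) * d := by group
    rw [this, tD d hd, mul_inv_cancel_right, h.Dj hd, aτ, ← mul_assoc, mul_assoc _ d, ← J.add] at eu
    obtain ⟨k1, k2⟩ := uq h.toCh0 (mul_mem hd hd) eu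
    rw [sq1 h hd k1, mul_one]
    exact jI' J ((by decide : ∀ k : F3, k + k = 0 → k = 0) _ (congrArg Prod.fst k2))
  refine ⟨M, fun m hm m' hm' => ?_, fun ⟨m, hm⟩ => ⟨2, Subtype.ext ?_⟩, fun y => ?_, fun y => ?_,
    fun m hm => hm.1.1.imp fun _ k => k.2, cb, fun m hm => hm.1.2, fun n hn m hm => ?_,
    fun n N hN => w2 N ⟨n, hN⟩⟩
  · obtain ⟨y, ey⟩ := cY hm.1 hm'.1
    obtain ⟨⟨⟨_, c, -⟩, -⟩, u, eu⟩ := mM.1 hm
    obtain ⟨⟨⟨_, c', -⟩, -⟩, u', eu'⟩ := mM.1 hm'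
    have k := tI _ (jI J y)
    have e1 : t * (m * m' * m⁻¹ * m'⁻¹) * t⁻¹ = t * m * t⁻¹ * (t * m' * t⁻¹) * (t * m * t⁻¹)⁻¹ * (t * m' * t⁻¹)⁻¹ := by
      group
    rw [eq_mul_inv_of_mul_eq eu, eq_mul_inv_of_mul_eq eu', ey, k] at e1
    have e2 := e1.trans (cmz (c u).symm (c u').symm (c' u).symm (c' u').symm (J.jc _ _))
    have e3 : m⁻¹ * m'⁻¹ * m * m' = j (0, y) := by
      have : m⁻¹ * m'⁻¹ * m * m' = m⁻¹ * (m'⁻¹ * (m * m' * m⁻¹ * m'⁻¹) * m') * m := by group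
      rw [this, ey, mul_assoc m'⁻¹, ← c', inv_mul_cancel_left, mul_assoc, ← c, inv_mul_cancel_left]
    rw [e3, ← J.jneg] at e2
    rw [(by decide : ∀ v : V, -v = v → v = 0) _ (J.jinj e2), J.j0, mul_inv_eq_one, mul_inv_eq_iff_eq_mul] at ey
    exact ey
  · obtain ⟨⟨y, y1⟩, -⟩ := hm.1
    have := (y1.mul J y1).mul J y1
    rw [(by decide : ∀ y : X3, y + y + y = 0) y] at this
    obtain ⟨u, eu⟩ := cb _ (mul_mem (mul_mem hm hm) hm) (this.cen J e1)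
    change m ^ (3 * 3) = 1
    rw [pow_mul, pow_three' m, eu, J.j3]
  · refine ⟨⟨⟨0, fun x => J.jc _ _, by rw [J.jc, mul_inv_cancel_right]; rfl⟩, fun d hd => (h.Dj hd _).symm⟩, ?_⟩
    rw [tI _ (jI J y), inv_mul_cancel]
    exact one_mem _
  · obtain ⟨r, k1, k2, k3⟩ := ex y
    exact ⟨r, ⟨k1, k3 ▸ one_mem _⟩, k2.2⟩
  · refine ⟨Yy.cj h.toCh0 hn (nI hn) hm.1, ?_⟩
    convert nI hn _ (mul_mem (cY (xY hn) (tY hm.1)) hm.2) using 1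
    group

end H29.S6
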