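import Cfsg.Agent.Lib.S6.Bas
import Cfsg.Agent.Lib.S6.WC

/-! S6, package AF2 (see blueprint/S6/README.md). -/

set_option autoImplicit false
set_option linter.unusedSectionVars false

namespace H29.S6

open Subgroup Cfsg H29.F42
open H87.U6 (F3 V lin)
open H75.L7 (Nm T Ch2 Rk3)

variable {G : Type*} [Group G] [Finite G] {j ρ : V → G} {τ : G} {θ θ' : Sp →* G} {D : Subgroup G}

namespace AF2

/-- `m ∈ M` translates by `y` -/
def Tr (j : V → G) (M : Subgroup G) (m : G) (y : X3) : Prop := m ∈ M ∧ m * j e1 * m⁻¹ = j (1, y)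

variable {M : Subgroup G}

theorem spl (y : X3) : ((1, y) : V) = e1 + (0, y) := by
  obtain ⟨a, c, d⟩ := y
  simp

theorem fixI (A : Aff j D M) {m : G} (hm : m ∈ M) (y : X3) : m * j (0, y) * m⁻¹ = j (0, y) :=
  H87.U6.cm_cj.1 (A.comm m hm _ (A.j1 y))

theorem tr_mul (J : Jm j) (A : Aff j D M) {m m' : G} {y y' : X3} (a : Tr j M m y) (a' : Tr j M m' y') :
    Tr j M (m * m') (y + y') := by
  refine ⟨mul_mem a.1 a'.1, ?_⟩
  calc m * m' * j e1 * (m * m')⁻¹ = m * (m' * j e1 * m'⁻¹) * m⁻¹ := by group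
    _ = (m * j e1 * m⁻¹) * (m * j (0, y') * m⁻¹) := by rw [a'.2, spl, J.add]; group
    _ = j (1, y + y') := by rw [a.2, fixI A a.1, ← J.add, Prod.mk_add_mk, add_zero]

theorem tr_one : Tr j M 1 0 := ⟨one_mem _, by rw [one_mul, inv_one, mul_one]; rfl⟩

theorem tr_I (J : Jm j) (A : Aff j D M) (y : X3) : Tr j M (j (0, y)) 0 :=
  ⟨A.j1 y, H87.U6.cm_cj.1 (J.jc _ _)⟩

theorem tr_pow (J : Jm j) (A : Aff j D M) {m : G} {y : X3} (a : Tr j M m y) (k : F3) :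
    Tr j M (m ^ k.val) (k • y) := by
  rcases H87.U6.f3_cases k with rfl | rfl | rfl
  · rw [zero_smul]; exact (pow_zero m).symm ▸ tr_one
  · rw [one_smul]; exact (pow_one m).symm ▸ a
  · rw [two_smul]; exact (pow_two m).symm ▸ tr_mul J A a a

theorem tr_uq (J : Jm j) {m : G} {y y' : X3} (a : Tr j M m y) (a' : Tr j M m y') : y = y' :=
  congrArg Prod.snd (J.jinj (a.2.symm.trans a'.2))

theorem tr_cj (A : Aff j D M) {n m : G} {N : V → V} (hn : Ac j n N) {w w' : V} {y : X3} (hm : m ∈ M)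
    (e : m * j w * m⁻¹ = j w') (e1' : N w = e1) (e2' : N w' = (1, y)) : Tr j M (n * m * n⁻¹) y := by
  refine ⟨A.nm n hn.nj m hm, ?_⟩
  rw [← e1', ← e2', ← hn, ← hn, ← e]
  group

theorem tr_zero (A : Aff j D M) {m : G} (a : Tr j M m 0) : ∃ y : X3, m = j (0, y) :=
  A.cb m a.1 (H87.U6.cm_cj.2 a.2)

theorem cube (A : Aff j D M) {m m' : G} (hm : m ∈ M) (hm' : m' ∈ M) : (m * m') ^ 3 = m ^ 3 * m' ^ 3 :=
  (show Commute m m' from A.comm m hm m' hm').mul_pow 3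

theorem clo {P : X3 → Prop} (ad : ∀ x y, P x → P y → P (x + y))
    (f0 : ∀ a c d, P (a, c, d) → P (-a, c, d)) (f1 : ∀ a c d, P (a, c, d) → P (a, -c, d))
    (f2 : ∀ a c d, P (a, c, d) → P (a, c, -d)) (s0 : ∀ a c d, P (a, c, d) → P (c, a, d))
    (s1 : ∀ a c d, P (a, c, d) → P (a, d, c)) {y : X3} (hy : y ≠ 0) (p : P y) :
    P (0, 1, 0) ∧ P (0, 0, 1) := by
  have h0 : ∀ a c d, P (a, c, d) → a ≠ 0 → P (1, 0, 0) := fun a c d p ha => by
    have q1 := ad _ _ p (f1 _ _ _ (f2 _ _ _ p))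
    rw [Prod.mk_add_mk, Prod.mk_add_mk, add_neg_cancel, add_neg_cancel] at q1
    rcases (by decide : ∀ a : F3, a ≠ 0 → a + a = 1 ∨ -(a + a) = 1) a ha with e | e
    · exact e ▸ q1
    · exact e ▸ f0 _ _ _ q1
  have h1 : P (1, 0, 0) := by
    obtain ⟨a, c, d⟩ := y
    by_cases ha : a = 0
    · by_cases hc : c = 0
      · exact h0 _ _ _ (s0 _ _ _ (s1 _ _ _ p)) fun hd => hy (by rw [ha, hc, hd]; rfl)
      · exact h0 _ _ _ (s0 _ _ _ p) hc
    · exact h0 _ _ _ p ha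
  exact ⟨s0 _ _ _ h1, s1 _ _ _ (s0 _ _ _ h1)⟩

theorem key (h : Hy j θ D) (A : Aff j D M) {m : G} {y : X3} (a : Tr j M m y) (m3 : m ^ 3 = 1) : y = 0 := by
  by_contra hy
  have c := h.toCh.toCh0
  have J := c.jm
  have cj : ∀ {x : Sp} {N : V → V}, Ac j (θ x) N → N e1 = e1 → ∀ {z z' : X3}, N (1, z) = (1, z') →
      (∃ m, Tr j M m z ∧ m ^ 3 = 1) → ∃ m, Tr j M m z' ∧ m ^ 3 = 1 := fun hx e _ _ e' ⟨m, a, m3⟩ =>
    ⟨_, tr_cj A hx a.1 a.2 e e', by rw [conj_pow, m3, mul_one, mul_inv_cancel]⟩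
  obtain ⟨⟨m3, a3, c3⟩, m4, a4, c4⟩ := clo (P := fun z => ∃ m, Tr j M m z ∧ m ^ 3 = 1)
    (fun x y ⟨m, a, e⟩ ⟨m', a', e'⟩ => ⟨_, tr_mul J A a a', by rw [cube A a.1 a'.1, e, e', mul_one]⟩)
    (fun a b d => cj (c.acT 0) (by decide) (by revert a b d; decide +kernel))
    (fun a b d => cj (c.acT 1) (by decide) (by revert a b d; decide +kernel))
    (fun a b d => cj (c.acT 2) (by decide) (by revert a b d; decide +kernel))
    (fun a b d => cj c.ac01 (by decide) (by revert a b d; decide +kernel))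
    (fun a b d => cj c.ac12 (by decide) (by revert a b d; decide +kernel)) hy ⟨m, a, m3⟩
  have t2 : θ (TT 0) * θ (TT 0) = 1 := by rw [← map_mul, sp_rel.2.2.1 0, map_one]
  have ti : (θ (TT 0))⁻¹ = θ (TT 0) := inv_eq_of_mul_eq_one_right t2
  have sy : ∀ {m : G} {z : X3}, Tr j M m z → m ^ 3 = 1 → rf (E3 0) (1, z) = (1, z) →
      ∃ m', Tr j M m' (z + z) ∧ m' ^ 3 = 1 ∧ m' * θ (TT 0) = θ (TT 0) * m' := fun {m z} a e e' => by
    have a' := tr_cj A (c.acT 0) a.1 a.2 (by decide) e'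
    refine ⟨_, tr_mul J A a a', by rw [cube A a.1 a'.1, conj_pow, e, mul_one, mul_inv_cancel, mul_one], ?_⟩
    calc m * (θ (TT 0) * m * (θ (TT 0))⁻¹) * θ (TT 0) = (θ (TT 0) * θ (TT 0)) * m * θ (TT 0) * m := by
          rw [t2]; group
      _ = θ (TT 0) * (θ (TT 0) * m * (θ (TT 0))⁻¹ * m) := by rw [ti]; group
      _ = _ := by rw [A.comm _ a'.1 _ a.1]
  obtain ⟨u, au, u3, ut⟩ := sy a3 c3 (by decide)
  obtain ⟨w, aw, w3, wt⟩ := sy a4 c4 (by decide)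
  have tr : ∀ v : V, Tr j M (u ^ v.1.val * w ^ v.2.1.val * j (0, 0, v.2.2))
      (v.1 • ((0, 1, 0) + (0, 1, 0)) + v.2.1 • ((0, 0, 1) + (0, 0, 1)) + 0) := fun v =>
    tr_mul J A (tr_mul J A (tr_pow J A au _) (tr_pow J A aw _)) (tr_I J A (0, v.2.2))
  have J' : Jm fun v : V => u ^ v.1.val * w ^ v.2.1.val * j (0, 0, v.2.2) := by
    refine ⟨fun x z => ?_, fun v e => ?_⟩
    · have c1 := A.comm _ (pow_mem aw.1 x.2.1.val) _ (pow_mem au.1 z.1.val)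
      have c2 := A.comm _ (A.j1 (0, x.2.2)) _ (mul_mem (pow_mem au.1 z.1.val) (pow_mem aw.1 z.2.1.val))
      have e : ((0, 0, (x + z).2.2) : V) = (0, 0, x.2.2) + (0, 0, z.2.2) := by simp
      rw [e, J.add, Prod.fst_add, Prod.snd_add, Prod.fst_add, H87.U6.pw_add u3, H87.U6.pw_add w3]
      calc _ = u ^ x.1.val * (u ^ z.1.val * w ^ x.2.1.val) * w ^ z.2.1.val * j (0, 0, x.2.2) *
            j (0, 0, z.2.2) := by group
        _ = u ^ x.1.val * w ^ x.2.1.val * (u ^ z.1.val * w ^ z.2.1.val * j (0, 0, x.2.2)) *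
            j (0, 0, z.2.2) := by rw [← c1]; group
        _ = _ := by rw [← c2]; group
    · have a := tr v
      rw [e] at a
      obtain ⟨h1, h2⟩ := (by decide : ∀ k l : F3, k • (((0, 1, 0) : X3) + (0, 1, 0)) +
        l • (((0, 0, 1) : X3) + (0, 0, 1)) + 0 = 0 → k = 0 ∧ l = 0) _ _ (tr_uq J a tr_one)
      rw [h1, h2, ZMod.val_zero, pow_zero, pow_zero, one_mul, one_mul] at e
      have := J.inj _ e
      obtain ⟨a, b, c⟩ := v
      simp only at h1 h2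
      rw [h1, h2]
      exact this
  have bot := J'.rk h.rk (H75.L7.two_zp t2) fun v => H75.L7.nm_zp (H87.U6.cm_mul
    (H87.U6.cm_mul (H87.U6.cm_pow ut _) (H87.U6.cm_pow wt _))
    ((c.acT 0).cm ((by decide +kernel : ∀ x : F3 × F3, rf (E3 0) (0, 0, x) = (0, 0, x)) _)).symm)
  have t1 : θ (TT 0) = 1 := by rw [← mem_bot, ← bot]; exact mem_zpowers _
  exact sp_rel.2.2.2.2.2.2.2.2.2.2.2.2.2.2.2.2.1 0 (c.θi (t1.trans (map_one θ).symm))

theorem act (J : Jm j) (A : Aff j D M) {m : G} {y : X3} (a : Tr j M m y) : Ac j m (lin (1, y) e2 e3 e4) :=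
  J.ac_lin a.2 (fixI A a.1 (1, 0, 0)) (fixI A a.1 (0, 1, 0)) (fixI A a.1 (0, 0, 1))

theorem norf (h : Hy j θ D) (A : Aff j D M) {n : G} (hn : Ac j n (rf e1)) : False := by
  have J := h.toCh.toCh0.jm
  obtain ⟨m, hm, e⟩ := A.tr (1, 0, 0)
  have a : Tr j M m (1, 0, 0) := ⟨hm, e⟩
  have a' : Tr j M (n * m * n⁻¹) (-1, 0, 0) :=
    tr_cj A hn hm (act J A a (-e1)) (by decide) (by decide)
  obtain ⟨z, ez⟩ := tr_zero A (m := n * m * n⁻¹ * m) (by
    have := tr_mul J A a' a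
    rwa [(by decide : ((-1, 0, 0) : X3) + (1, 0, 0) = 0)] at this)
  obtain ⟨z', ez'⟩ := tr_zero A (m := m ^ 3) (by
    have := tr_mul J A (tr_mul J A a a) a
    rwa [← pow_two, ← pow_succ, (by decide : ((1, 0, 0) : X3) + (1, 0, 0) + (1, 0, 0) = 0)] at this)
  have k := cube A a'.1 hm
  rw [ez, J.j3, conj_pow, ez', hn, ← J.add] at k
  have z0 : z' = 0 := (by decide +kernel : ∀ z : X3, rf e1 (0, z) + (0, z) = 0 → z = 0) _ (J.inj _ k.symm)
  exact absurd (key h A a (by rw [ez', z0]; exact J.j0)) (by decide)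

end AF2

theorem af2 (h : Hy j θ D) {M : Subgroup G} (A : Aff j D M) :
    (∀ m ∈ M, m ^ 3 = 1 → ∃ y : X3, m = j (0, y)) ∧
      ∀ n, NJ j n → ∃ y : X3, n * j e1 * n⁻¹ = j (1, y) := by
  have c := h.toCh.toCh0
  have J := c.jm
  refine ⟨fun m hm m3 => ?_, fun n hn => ?_⟩
  · obtain ⟨y, e⟩ := A.nj m hm
    have a : AF2.Tr j M m y := ⟨hm, e⟩
    rw [AF2.key h A a m3] at a
    exact AF2.tr_zero A a
  obtain ⟨N, a⟩ := J.nj_ac hn
  rcases H87.U6.f3_cases (N e1).1 with k | k | k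
  · obtain ⟨N', a', h1, -⟩ := J.ac_inv a
    have := A.pI _ _ a' _ k
    rw [h1] at this
    exact absurd this (by decide)
  · exact ⟨(N e1).2, by rw [a, ← k]⟩
  · exfalso
    obtain ⟨m, hm, e⟩ := A.tr (N e1).2
    have a1 := (AF2.act J A ⟨hm, e⟩).mul a
    have e1' : lin (1, (N e1).2) e2 e3 e4 (N e1) = -e1 :=
      (by decide +kernel : ∀ v : V, v.1 = 2 → lin (1, v.2) e2 e3 e4 v = -e1) _ k
    obtain ⟨x, ax⟩ := c.acW (wneg c.ws ⟨_, a1⟩ e1')
    obtain ⟨N', a', -, h2⟩ := J.ac_inv a1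
    exact AF2.norf h A ((ax.mul a').congr fun v => congrArg (rf e1) (h2 v))

end H29.S6
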