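import Cfsg.Agent.Lib.S6.Bas
import Cfsg.Agent.Lib.S6.WC
import Cfsg.Agent.Lib.S6.AF1
import Cfsg.Agent.Lib.U4S.GB0

/-! S6, package AF3 (see blueprint/S6/README.md). -/

set_option autoImplicit false
set_option linter.unusedSectionVars false

namespace H29.S6

open Subgroup Cfsg H29.F42
open H87.U6 (F3 V lin)
open H75.L7 (Nm T Ch2 Rk3)

variable {G : Type*} [Group G] [Finite G] {j ρ : V → G} {τ : G} {θ θ' : Sp →* G} {D : Subgroup G}

namespace AF3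

open AF1

theorem card3 {A B : Subgroup G} (s : F3 → G) (h : ∀ a ∈ A, ∃ i, (s i)⁻¹ * a ∈ B) :
    Nat.card A ≤ 3 * Nat.card ↥(A ⊓ B) := by
  choose f hf using fun a : A => h a a.2
  have i : Function.Injective fun x : A ⧸ (A ⊓ B).subgroupOf A => f x.out := fun x y e => by
    rw [← x.out_eq', ← y.out_eq', QuotientGroup.eq]
    refine ⟨(x.out⁻¹ * y.out).2, ?_⟩
    have := mul_mem (inv_mem (hf x.out)) (hf y.out)
    rw [show f x.out = f y.out from e] at this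
    simpa [mul_assoc] using this
  have := Nat.card_le_card_of_injective _ i
  rw [card_eq_card_quotient_mul_card_subgroup ((A ⊓ B).subgroupOf A),
    Nat.card_congr (subgroupOfEquivOfLe inf_le_left).toEquiv]
  exact Nat.mul_le_mul_right _ (by simpa using this)

theorem prod3 {X A : Type*} [CommGroup A] [Fintype X] [Fintype A] [MulAction G X] {P : Subgroup G}
    (hP : IsPGroup 3 P) (e : ∀ c : A, c ^ 3 = 1) (F : X → A) (i : ∀ g ∈ P, ∀ x, F (g • x) = F x) (x0 : X)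
    (u : ∀ x, (∀ g ∈ P, g • x = x) ↔ x = x0) : ∏ x, F x = F x0 := by
  classical
  rw [← Finset.prod_fiberwise Finset.univ F F]
  have : ∀ c : A, ∏ x with F x = c, F x = if F x0 = c then c else 1 := fun c => by
    rw [Finset.prod_congr rfl (g := fun _ => c) fun x hx => (Finset.mem_filter.1 hx).2, Finset.prod_const]
    let S : SubMulAction P X := ⟨{x | F x = c}, fun g x hx => (i g g.2 x).trans hx⟩
    have m := hP.card_modEq_card_fixedPoints S
    have c1 : Nat.card S = (Finset.univ.filter fun x => F x = c).card := by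
      rw [← Fintype.card_subtype, ← Nat.card_eq_fintype_card]; rfl
    have fx : ∀ x : S, x ∈ MulAction.fixedPoints P S ↔ x.1 = x0 := fun x => by
      rw [← u]
      exact ⟨fun k g hg => congrArg Subtype.val (k ⟨g, hg⟩), fun k g => Subtype.ext (k g g.2)⟩
    rw [← c1, pow_eq_pow_of_modEq m (e c)]
    split_ifs with k
    · rw [Nat.card_eq_one_iff_exists.2 ⟨⟨⟨x0, k⟩, (fx _).2 rfl⟩, fun y => Subtype.ext (Subtype.ext ((fx _).1 y.2))⟩,
        pow_one]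
    · haveI : IsEmpty (MulAction.fixedPoints P S) := ⟨fun y => k ((fx _).1 y.2 ▸ y.1.2)⟩
      rw [Nat.card_of_isEmpty, pow_zero]
  simp [this]

variable {M : Subgroup G}

theorem y1M (A : Aff j D M) {m : G} (hm : m ∈ M) : ∃ y, Y1 j m y :=
  (A.nj m hm).imp fun _ k => ⟨fun x => A.comm m hm _ (A.j1 x), k⟩

theorem njM (J : Jm j) (A : Aff j D M) {m : G} (hm : m ∈ M) : NJ j m := fun v => by
  obtain ⟨y, k⟩ := y1M A hm
  exact ⟨_, by rw [k.cj J, ← J.add]⟩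

theorem nj_mul (J : Jm j) {a c : G} (ha : NJ j a) (hc : NJ j c) : NJ j (a * c) := by
  obtain ⟨_, h1⟩ := J.nj_ac ha
  obtain ⟨_, h2⟩ := J.nj_ac hc
  exact (h1.mul h2).nj

theorem dec (J : Jm j) (A : Aff j D M) (h2 : ∀ n, NJ j n → ∃ y : X3, n * j e1 * n⁻¹ = j (1, y)) {n : G}
    (hn : NJ j n) : ∃ m ∈ M, ∃ c, n = m * c ∧ c * j e1 = j e1 * c ∧ NJ j c := by
  obtain ⟨y, e⟩ := h2 n hn
  obtain ⟨m, hm, e'⟩ := A.tr y
  refine ⟨m, hm, m⁻¹ * n, by group, ?_, nj_mul J (njM J A (inv_mem hm)) hn⟩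
  calc _ = m⁻¹ * (n * j e1 * n⁻¹) * n := by group
    _ = _ := by rw [e, ← e']; group

theorem cK (J : Jm j) {c : G} (e : c * j e1 = j e1 * c) (k : F3) : Commute c (j (k, 0, 0, 0)) :=
  J.cm2 _ e e ⟨k, 0, (by decide : ∀ k : F3, ((k, 0, 0, 0) : V) = k • e1 + (0 : F3) • e1) k⟩

theorem core (h : Ch0 j θ D) {k : F3} {x : Sp} {d : G} (hd : d ∈ D) (e : θ x * d = j (k, 0, 0, 0)) : k = 0 := by
  have c : ∀ v, θ x * j v = j v * θ x := fun v => by
    rw [eq_mul_inv_of_mul_eq e]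
    exact H87.U6.cm_mul (h.jm.jc _ _) (H87.U6.cm_inv (h.Dj hd v))
  obtain ⟨y, rfl⟩ := MD2.cwv x (h.θi (by rw [map_mul, map_mul, h.w0, c])) (h.θi (by rw [map_mul, map_mul, h.w1, c]))
    (h.θi (by rw [map_mul, map_mul, h.w2, c]))
  rw [h.wv] at e
  exact (congrArg Prod.fst (uq h hd e).2).symm

/-- the component of `n` along `j e1` -/
def Ph (j : V → G) (θ : Sp →* G) (D M : Subgroup G) (n : G) (k : F3) : Prop :=
  ∃ m ∈ M, ∃ x, ∃ d ∈ D, n = m * (j (k, 0, 0, 0) * θ x * d)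

theorem cmul (h : Ch0 j θ D) (k k' : F3) (x x' : Sp) {d : G} (hd : d ∈ D) (d' : G) :
    j (k, 0, 0, 0) * θ x * d * (j (k', 0, 0, 0) * θ x' * d') = j (k + k', 0, 0, 0) * θ (x * x') * (d * d') := by
  have e : j (k + k', 0, 0, 0) = j (k, 0, 0, 0) * j (k', 0, 0, 0) := by rw [← h.add]; simp
  rw [e, map_mul]
  simp only [mul_assoc]
  rw [← mul_assoc d, h.Dj hd, mul_assoc, ← mul_assoc d, h.Dθ d hd, mul_assoc, ← mul_assoc (θ x),
    (cK h.jm (h.cy x) k').eq, mul_assoc]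

theorem cb1 (h : Ch0 j θ D) (k : F3) (x : Sp) {d : G} (hd : d ∈ D) :
    j (k, 0, 0, 0) * θ x * d * j e1 = j e1 * (j (k, 0, 0, 0) * θ x * d) :=
  H87.U6.cm_mul (H87.U6.cm_mul (h.jm.jc _ _) (h.cy x)) (h.Dy d hd)

theorem Ph.uniq (h : Ch0 j θ D) (A : Aff j D M) {n : G} {k k' : F3} (a : Ph j θ D M n k) (c : Ph j θ D M n k') :
    k = k' := by
  obtain ⟨m, hm, x, d, hd, rfl⟩ := a
  obtain ⟨m', hm', x', d', hd', e⟩ := c
  have e1 : m'⁻¹ * m = j (k', 0, 0, 0) * θ x' * d' * (j (k, 0, 0, 0) * θ x * d)⁻¹ := by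
    rw [eq_mul_inv_of_mul_eq e]; group
  obtain ⟨y, e2⟩ := A.cb _ (mul_mem (inv_mem hm') hm)
    (e1 ▸ H87.U6.cm_mul (cb1 h k' x' hd') (H87.U6.cm_inv (cb1 h k x hd)))
  have e3 : (j (k, 0, 0, 0) * θ x * d)⁻¹ = j (-k, 0, 0, 0) * θ x⁻¹ * d⁻¹ := by
    rw [inv_eq_iff_mul_eq_one, cmul h _ _ _ _ hd]
    simp only [add_neg_cancel, mul_inv_cancel, map_one, mul_one]
    exact h.jm.j0
  rw [e2, e3, cmul h _ _ _ _ hd', ← h.wv] at e1
  have := core h (k := k' + -k) (x := wv y * (x' * x⁻¹)⁻¹) (inv_mem (mul_mem hd' (inv_mem hd))) (by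
    rw [map_mul, e1, mul_assoc (j _ * _), h.Dθ _ (mul_mem hd' (inv_mem hd)), map_inv]; group)
  exact (add_neg_eq_zero.1 this).symm

theorem Ph.mul (h : Ch0 j θ D) (A : Aff j D M) {n n' : G} {k k' : F3} (hn : NJ j n) (a : Ph j θ D M n k)
    (c : Ph j θ D M n' k') : Ph j θ D M (n * n') (k + k') := by
  obtain ⟨m, hm, x, d, hd, rfl⟩ := a
  obtain ⟨m', hm', x', d', hd', rfl⟩ := c
  have := nj_mul h.jm (njM h.jm A (inv_mem hm)) hn
  rw [inv_mul_cancel_left] at this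
  refine ⟨_, mul_mem hm (A.nm _ this m' hm'), x * x', _, mul_mem hd hd', ?_⟩
  rw [← cmul h _ _ _ _ hd]
  group

theorem inJ (h : Ch0 j θ D) (A : Aff j D M) (h1 : ∀ m ∈ M, m ^ 3 = 1 → ∃ y : X3, m = j (0, y))
    (h2 : ∀ n, NJ j n → ∃ y : X3, n * j e1 * n⁻¹ = j (1, y)) {u : G} (hu : NJ j u) (u3 : u ^ 3 = 1)
    (c : ∀ y : X3, u * j (0, y) = j (0, y) * u) : ∃ v, u = j v := by
  have J := h.jm
  obtain ⟨m, hm, z, rfl, cz, -⟩ := dec J A h2 hu
  obtain ⟨y, ym⟩ := y1M A hm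
  obtain ⟨v, d, hd, rfl⟩ := h.cJ (g := z) (Y1.cen J ⟨fun x => by
    simpa using H87.U6.cm_mul (H87.U6.cm_inv (ym.1 x)) (c x), by rw [cz, mul_inv_cancel_right]; rfl⟩)
  have e : (m * j v) ^ 3 = m ^ 3 := by
    have : (m * j v) ^ 3 = m * j v * m⁻¹ * (m * m * j v * (m * m)⁻¹) * (m * m * m * j v * (m * m * m)⁻¹) * m ^ 3 := by
      simp only [pow_three']; group
    rw [this, ym.cj J, (ym.mul J ym).cj J, ((ym.mul J ym).mul J ym).cj J]
    simp only [← J.add]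
    rw [(by decide +kernel : ∀ (v : V) (y : X3), v + (0, v.1 • y) + (v + (0, v.1 • (y + y))) +
      (v + (0, v.1 • (y + y + y))) = 0) v y, J.j0, one_mul]
  have cd : Commute (m * j v) d := H87.U6.cm_mul (A.cD m hm d hd) (h.Dj hd v).symm
  rw [← mul_assoc, cd.mul_pow, e] at u3
  obtain ⟨a, ha⟩ := A.p3 ⟨_, inv_mem (pow_mem hm 3)⟩
  have d1 : d = 1 := H87.U6.eq_one_of_cop h.cop hd (n := a + 1) (by
    rw [pow_succ', pow_mul, eq_inv_of_mul_eq_one_right u3]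
    exact congrArg Subtype.val ha)
  rw [d1, one_pow, mul_one] at u3
  obtain ⟨x, rfl⟩ := h1 m hm u3
  exact ⟨_, by rw [d1, mul_one, ← J.add]⟩

/-- `u` acts on `I` like the element `c` of the centralizer of `j e1` -/
def Rw (j : V → G) (u c : G) (W : V → V) : Prop :=
  Ac j c W ∧ W e1 = e1 ∧ ∀ y : X3, u * j (0, y) * u⁻¹ = j (W (0, y))

theorem Rw.ex (J : Jm j) (A : Aff j D M) (h2 : ∀ n, NJ j n → ∃ y : X3, n * j e1 * n⁻¹ = j (1, y)) {u : G}
    (hu : NJ j u) : ∃ c W, Rw j u c W := by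
  obtain ⟨m, hm, c, rfl, cz, nc⟩ := dec J A h2 hu
  obtain ⟨W, a⟩ := J.nj_ac nc
  refine ⟨c, W, a, J.jinj (by rw [← a, cz, mul_inv_cancel_right]), fun y => ?_⟩
  obtain ⟨x, e⟩ := jI' J (A.pI c W a (0, y) rfl)
  calc _ = m * (c * j (0, y) * c⁻¹) * m⁻¹ := by group
    _ = _ := by rw [a, e, A.comm m hm _ (A.j1 x), mul_inv_cancel_right]

theorem Rw.mul (A : Aff j D M) {u c u' c' : G} {W W' : V → V} (a : Rw j u c W) (k : Rw j u' c' W') :
    Rw j (u * u') (c * c') fun v => W (W' v) := by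
  refine ⟨a.1.mul k.1, (congrArg W k.2.1).trans a.2.1, fun y => ?_⟩
  have e : W' (0, y) = (0, (W' (0, y)).2) := Prod.ext (A.pI c' W' k.1 _ rfl) rfl
  calc _ = u * (u' * j (0, y) * u'⁻¹) * u⁻¹ := by group
    _ = _ := by rw [k.2.2, e, a.2.2, ← e]

theorem Rw.one : Rw j 1 1 id := ⟨fun v => by simp, rfl, by simp⟩

theorem Rw.ext (J : Jm j) {u c c' : G} {W W' : V → V} (a : Rw j u c W) (k : Rw j u c' W') (v : V) :
    W v = W' v := by
  have e := fun y => J.jinj ((a.2.2 y).symm.trans (k.2.2 y))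
  rw [(J.lin a.1).eq, (J.lin k.1).eq v, a.2.1, k.2.1, e (1, 0, 0), e (0, 1, 0), e (0, 0, 1)]

theorem Rw.cen {u c u' c' : G} {W W' : V → V} (a : Rw j u c W) (k : Rw j u' c' W') (e : ∀ v, W' v = W v)
    (y : X3) : u⁻¹ * u' * j (0, y) = j (0, y) * (u⁻¹ * u') := by
  calc _ = u⁻¹ * (u' * j (0, y) * u'⁻¹) * u' := by group
    _ = _ := by rw [k.2.2, e, ← a.2.2]; group

theorem Rw.mon (h : Ch0 j θ D) {u c : G} {W : V → V} (a : Rw j u c W) : Mon W := by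
  obtain ⟨k1, k2, k3, k4, k5⟩ := h.ws.st W ⟨c, a.1⟩ a.2.1
  exact ⟨k1, Or.inl k2, Or.inr (Or.inr k3), Or.inr (Or.inr k4), Or.inr (Or.inr k5)⟩

/-- weak closure -/
theorem wcl (h : Ch0 j θ D) (A : Aff j D M) (h1 : ∀ m ∈ M, m ^ 3 = 1 → ∃ y : X3, m = j (0, y))
    (h2 : ∀ n, NJ j n → ∃ y : X3, n * j e1 * n⁻¹ = j (1, y)) {g : G} (hg : ∀ v, NJ j (g * j v * g⁻¹)) :
    NJ j g := by
  have J := h.jm
  obtain ⟨K, mK, cK', -⟩ := J.exJ
  let B := K.map (MulAut.conj g).toMonoidHom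
  have mB : ∀ a ∈ B, ∃ v, a = g * j v * g⁻¹ := by
    rintro _ ⟨x, hx, rfl⟩
    obtain ⟨v, rfl⟩ := (mK x).1 hx
    exact ⟨v, rfl⟩
  have cB : Nat.card B = 81 := (card_map_of_injective (MulAut.conj g).injective).trans cK'
  have nB : ∀ a ∈ B, NJ j a := fun a ha => by obtain ⟨v, rfl⟩ := mB a ha; exact hg v
  have B3 : ∀ a ∈ B, a ^ 3 = 1 := fun a ha => by
    obtain ⟨v, rfl⟩ := mB a ha
    rw [conj_pow, J.j3, mul_one, mul_inv_cancel]
  have Bc : ∀ a ∈ B, ∀ a' ∈ B, a * a' = a' * a := fun a ha a' ha' => by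
    obtain ⟨v, rfl⟩ := mB a ha
    obtain ⟨w, rfl⟩ := mB a' ha'
    exact H87.U6.cm_conj (J.jc v w) g
  have w3 : ∀ a ∈ B, ∀ {c W}, Rw j a c W → ∀ v, W (W (W v)) = v := fun a ha c W r v => by
    have := (r.mul A r).mul A r
    rw [← pow_three', B3 a ha] at this
    exact this.ext J Rw.one v
  intro v0
  have hu : g * j v0 * g⁻¹ ∈ B := mem_map_of_mem _ ((mK _).2 ⟨v0, rfl⟩)
  generalize g * j v0 * g⁻¹ = u at hu
  obtain ⟨c, W, r⟩ := Rw.ex J A h2 (nB u hu)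
  have iJ : ∀ {s a cs ca Ws Wa}, s ∈ B → a ∈ B → Rw j s cs Ws → Rw j a ca Wa → (∀ v, Wa v = Ws v) →
      ∃ v, s⁻¹ * a = j v := fun hs ha r1 r2 e =>
    inJ h A h1 h2 (nB _ (mul_mem (inv_mem hs) ha)) (B3 _ (mul_mem (inv_mem hs) ha)) (r1.cen r2 e)
  suffices ∀ v, W v = v by simpa using iJ (one_mem _) hu Rw.one r this
  by_contra n1
  have k1 : Nat.card B ≤ 3 * Nat.card ↥(B ⊓ K) := card3 ![1, u, u * u] fun a ha => by
    obtain ⟨ca, Wa, ra⟩ := Rw.ex J A h2 (nB a ha)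
    rcases mon33 (ra.mon h) (r.mon h) (w3 a ha ra) (w3 u hu r)
      (fun v => (ra.mul A r).ext J (Bc a ha u hu ▸ r.mul A ra) v) (not_forall.1 n1) with e | e | e
    · exact ⟨0, (mK _).2 (iJ (one_mem _) ha Rw.one ra e)⟩
    · exact ⟨1, (mK _).2 (iJ hu ha r ra e)⟩
    · exact ⟨2, (mK _).2 (iJ (mul_mem hu hu) ha (r.mul A r) ra e)⟩
  have sp : ∀ (k : F3) (y : X3), j (k, y) = j (k, 0, 0, 0) * j (0, y) := fun k y => by
    rw [← J.add]; congr 1; ext <;> simp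
  have k2 : Nat.card ↥(B ⊓ K) ≤ 3 * Nat.card ↥(B ⊓ K ⊓ II J) := card3 (fun k => j (k, 0, 0, 0)) fun a ha => by
    obtain ⟨⟨k, y⟩, rfl⟩ := (mK a).1 ha.2
    exact ⟨k, y, by rw [sp k y, inv_mul_cancel_left]⟩
  choose f hf using fun a : ↥(B ⊓ K ⊓ II J) => mem_II.1 a.2.2
  have fx : ∀ p : F3 × ↥(B ⊓ K ⊓ II J), W (p.1, f p.2) = (p.1, f p.2) := fun p => J.jinj (by
    have e := r.2.2 (f p.2)
    rw [← hf, Bc u hu _ p.2.2.1.1, mul_inv_cancel_right, hf, ← r.1] at e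
    rw [← r.1, sp p.1 (f p.2), ← mul_assoc, (cK J (r.1.cm r.2.1) p.1).eq, mul_assoc, mul_assoc, ← mul_assoc c, ← e])
  have k3 := Nat.card_le_card_of_injective (β := {v // W v = v}) (fun p => ⟨_, fx p⟩) fun p p' e => by
    have := Prod.ext_iff.1 (congrArg Subtype.val e)
    exact Prod.ext this.1 (Subtype.ext (by rw [hf, hf, show f p.2 = f p'.2 from this.2]))
  rw [Nat.card_prod, Nat.card_zmod] at k3
  exact n1 (mon3 (r.mon h) (k := 1) (w3 u hu r) (by omega))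

theorem eqns : True := by
  have := @Ph.eq_1.{0}; have := @Rw.eq_1.{0}
  trivial

end AF3

open AF1 AF3 U4S.GB0

theorem af3 (h : Hy j θ D) {M : Subgroup G} (A : Aff j D M)
    (h1 : ∀ m ∈ M, m ^ 3 = 1 → ∃ y : X3, m = j (0, y))
    (h2 : ∀ n, NJ j n → ∃ y : X3, n * j e1 * n⁻¹ = j (1, y)) : False := by
  classical
  have h0 := h.toCh0
  have J := h0.jm
  obtain ⟨K, mK, -, nK⟩ := J.exJ
  have ex : ∀ n : normalizer (K : Set G), ∃ k, Ph j θ D M n k := fun n => by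
    obtain ⟨m, hm, c, e, cz, -⟩ := dec J A h2 ((nK n).1 n.2)
    obtain ⟨k, x, d, hd, rfl⟩ := h.dec c cz
    exact ⟨k, m, hm, x, d, hd, e⟩
  choose f hf using ex
  let φ : normalizer (K : Set G) →* Multiplicative F3 := MonoidHom.mk' (fun n => Multiplicative.ofAdd (f n))
    fun a c => congrArg _ ((hf (a * c)).uniq h0 A ((hf a).mul h0 A ((nK a).1 a.2) (hf c)))
  letI := Fintype.ofFinite (G ⧸ normalizer (K : Set G))
  have b3 := J.j3 e1
  have bK : ∀ v, j v ∈ K := fun v => (mK _).2 ⟨v, rfl⟩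
  have t1 := transfer_eq φ (j e1) fun x k m n => by
    have e : j e1 ^ k = j e1 ^ (k % 3) := pow_eq_pow_mod k b3
    have : x⁻¹ * j e1 ^ k * x = 1 := by
      rcases (by omega : k % 3 = 0 ∨ k % 3 = 1 ∨ k % 3 = 2) with d | d | d <;> rw [e, d] at m ⊢
      · simp
      · exact absurd (by simpa using m) n
      · refine absurd ?_ n
        rw [eq_inv_of_mul_eq_one_left ((pow_succ' _ 2).symm.trans b3)]
        simpa [mul_assoc] using inv_mem m
    rw [← map_one φ]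
    exact congrArg φ (Subtype.ext this)
  have t2 := prod3 (P := K) (fun g => by
      obtain ⟨v, e⟩ := (mK g).1 g.2
      exact ⟨1, Subtype.ext (by simpa [e] using J.j3 v)⟩) (by decide)
    (fun ω : G ⧸ normalizer (K : Set G) => tm φ (j e1) ω.out) (fun g hg x => by
      obtain ⟨v, rfl⟩ := (mK g).1 hg
      conv_lhs => rw [← QuotientGroup.out_eq' x]
      rw [MulAction.Quotient.smul_mk, tm_out, smul_eq_mul]
      have : (j v * x.out)⁻¹ * j e1 * (j v * x.out) = x.out⁻¹ * j e1 * x.out := by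
        rw [mul_assoc, ← mul_assoc (j e1), J.jc e1]; group
      by_cases m : x.out⁻¹ * j e1 * x.out ∈ normalizer (K : Set G)
      · rw [tm_pos φ m, tm_pos φ (this ▸ m)]
        exact congrArg φ (Subtype.ext this)
      · rw [tm_neg φ m, tm_neg φ (this ▸ m)]) (QuotientGroup.mk 1) fun x => by
      constructor
      · intro k
        have := wcl h0 A h1 h2 (g := x.out⁻¹) fun v => (nK _).1 (by simpa using fix_iff.1 (k _ (bK v)))
        rw [← x.out_eq', QuotientGroup.eq, mul_one]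
        exact (nK _).2 this
      · rintro rfl g hg
        rw [MulAction.Quotient.smul_mk, QuotientGroup.eq]
        simpa using le_normalizer hg
  have m : (1 : G)⁻¹ * j e1 * 1 ∈ normalizer (K : Set G) := by simpa using le_normalizer (bK e1)
  have t3 : φ ⟨_, m⟩ = Multiplicative.ofAdd 1 :=
    congrArg Multiplicative.ofAdd ((hf ⟨_, m⟩).uniq h0 A (k' := 1) ⟨1, one_mem _, 1, 1, one_mem _, by simp⟩)
  rw [t2, tm_out, tm_pos φ m, t3] at t1
  refine h.no3 (MonoidHom.transfer φ).ker inferInstance ?_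
  rw [index_ker, MonoidHom.range_eq_top.2 fun c => ?_]
  · simp
  · obtain ⟨n, hn⟩ := (by decide : ∀ c : Multiplicative F3, ∃ n : Fin 3, Multiplicative.ofAdd 1 ^ n.val = c) c
    exact ⟨j e1 ^ n.val, by rw [map_pow, t1, hn]⟩

end H29.S6
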