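import Cfsg.Agent.Lib.S6.Defs

/-! S6, package MDa (see blueprint/S6/README.md). -/

set_option autoImplicit false
set_option linter.unusedSectionVars false
set_option synthInstance.maxSize 4000

namespace H29.S6

open Subgroup Cfsg H29.F42
open H87.U6 (F3 V lin)
open H75.L7 (Nm T Ch2 Rk3)
open MD2 (A V6 P2 A_mul A_one A_add A_zero A_ne A_ext A_ext6 A_wv A_w0 A_w1 A_w2 A_tc A_om wf om3 o6 bs tc tvc sv
  mu cy sv_mul sv_inj syl wv_add wv0 Zc l3 Nw)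

variable {G : Type*} [Group G] [Finite G] {j ρ : V → G} {τ : G} {θ θ' : Sp →* G} {D : Subgroup G}

namespace MDa

/-- the action on coordinates -/
@[reducible] def act : MulAction Sp V6 where
  smul := A
  one_smul := A_one
  mul_smul := A_mul

theorem eqns_MDa : True := by
  have := @act.eq_1
  trivial

theorem fixv {X : Subgroup Sp} (hX : IsPGroup 2 X) (P : V6 → Prop) (h0 : P 0) (h2 : 2 ∣ Nat.card {v // P v})
    (hP : ∀ x ∈ X, ∀ v, P v → P (A x v)) : ∃ v, v ≠ 0 ∧ P v ∧ ∀ x ∈ X, A x v = v := by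
  letI : MulAction X {v // P v} :=
    { smul := fun x v => ⟨A x v, hP x x.2 v v.2⟩
      one_smul := fun v => Subtype.ext (A_one _)
      mul_smul := fun x y v => Subtype.ext (A_mul _ _ _) }
  obtain ⟨b, hb, e⟩ := hX.exists_fixed_point_of_prime_dvd_card_of_fixed_point {v // P v} h2 (a := ⟨0, h0⟩)
    fun x => Subtype.ext (A_zero _)
  exact ⟨b, fun e' => e (Subtype.ext e'.symm), b.2, fun x hx => congrArg Subtype.val (hb ⟨x, hx⟩)⟩

theorem tr (w : V6) (h : w ≠ 0) : ∃ g, A g ((1, 1), 0, 0) = w := by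
  have k : ∀ w : V6, w ≠ 0 → ∃ u u', tvc u (tvc u' ((1, 1), 0, 0)) = w := by decide +kernel
  obtain ⟨u, u', e⟩ := k w h
  exact ⟨tc u * tc u', by rw [A_mul, A_tc, A_tc, e]⟩

theorem sv0 (y : X3) : sv (y, 0) = wv y := by simp [sv]

theorem cy_cj : ∃ u y, u * cy * u⁻¹ = wv y :=
  ⟨tc ((0, 1), (0, 1), (1, 0)) * tc ((1, 1), (1, 1), (0, 1)), (1, 2, 0), mul_inv_eq_iff_eq_mul.2 (A_ext6 (by
    simp only [A_mul, A_tc, MD2.A_cy, A_wv]; decide +kernel))⟩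

theorem cmA {x g : Sp} (e : x * g = g * x) (v : V6) : A x (A g v) = A g (A x v) := by rw [← A_mul, e, A_mul]

end MDa

open MDa

theorem wv_inj {x y : X3} (e : wv x = wv y) : x = y :=
  congrArg Prod.fst (sv_inj (p := (x, 0)) (q := (y, 0)) (by rw [sv0, sv0, e]))

theorem no2 (X : Subgroup Sp) (hX : IsPGroup 2 X) (n : ∀ i, Nm (ww i) X) : X = ⊥ := by
  classical
  have fw : ∀ i v, (∀ x ∈ X, A x v = v) → ∀ x ∈ X, A x (A (ww i) v) = A (ww i) v := fun i v h x hx => by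
    have := h _ ((n i).inv x hx)
    rw [inv_inv, A_mul, A_mul] at this
    rw [← MD2.A_inv' (ww i) (A x _), this]
  have fa : ∀ u v, (∀ x ∈ X, A x u = u) → (∀ x ∈ X, A x v = v) → ∀ x ∈ X, A x (u + v) = u + v :=
    fun u v h h' x hx => by rw [A_add, h x hx, h' x hx]
  have pl : ∀ i v, (∀ x ∈ X, A x v = v) → ∀ u, u = 0 ∨ u = v + A (ww i) v ∨ u = v + A (ww i) (A (ww i) v) ∨
      u = A (ww i) v + A (ww i) (A (ww i) v) → ∀ x ∈ X, A x u = u := fun i v h u hu => by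
    rcases hu with rfl | rfl | rfl | rfl
    exacts [fun x _ => A_zero x, fa _ _ h (fw i _ h), fa _ _ h (fw i _ (fw i _ h)),
      fa _ _ (fw i _ h) (fw i _ (fw i _ h))]
  let F0 : Prop := ∀ p : P2, ∀ x ∈ X, A x (p, 0, 0) = (p, 0, 0)
  let F1 : Prop := ∀ p : P2, ∀ x ∈ X, A x (0, p, 0) = (0, p, 0)
  let F2 : Prop := ∀ p : P2, ∀ x ∈ X, A x (0, 0, p) = (0, 0, p)
  have key : F0 ∧ F1 ∧ F2 := by
    by_contra hn
    have ev : ∀ b0 b1 b2 : Bool, ¬ (b0 = true ∧ b1 = true ∧ b2 = true) → 2 ∣ Fintype.card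
        {v : V6 // (b0 = true → v.1 = 0) ∧ (b1 = true → v.2.1 = 0) ∧ (b2 = true → v.2.2 = 0)} := by
      decide +kernel
    have k0 : ∀ u v : V6, (∀ p, o6 u (p, 0, 0) = o6 v (p, 0, 0)) → v.1 = 0 → u.1 = 0 := by decide +kernel
    have k1 : ∀ u v : V6, (∀ p, o6 u (0, p, 0) = o6 v (0, p, 0)) → v.2.1 = 0 → u.2.1 = 0 := by decide +kernel
    have k2 : ∀ u v : V6, (∀ p, o6 u (0, 0, p) = o6 v (0, 0, p)) → v.2.2 = 0 → u.2.2 = 0 := by decide +kernel
    obtain ⟨v, v0, hv, fv⟩ := fixv hX (fun v => (decide F0 = true → v.1 = 0) ∧ (decide F1 = true → v.2.1 = 0) ∧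
        (decide F2 = true → v.2.2 = 0)) ⟨fun _ => rfl, fun _ => rfl, fun _ => rfl⟩
      (by rw [Nat.card_eq_fintype_card]; exact ev _ _ _ (by simpa using hn)) (fun x hx v hv =>
        ⟨fun f => k0 _ v (fun p => by rw [← A_om x v, of_decide_eq_true f p x hx]) (hv.1 f),
          fun f => k1 _ v (fun p => by rw [← A_om x v, of_decide_eq_true f p x hx]) (hv.2.1 f),
          fun f => k2 _ v (fun p => by rw [← A_om x v, of_decide_eq_true f p x hx]) (hv.2.2 f)⟩)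
    have z0 : v.1 = 0 := by
      by_contra e
      refine e (hv.1 (decide_eq_true fun p => pl 0 v fv _ ?_))
      simp only [A_w0]
      clear * - e; revert v p; decide +kernel
    have z1 : v.2.1 = 0 := by
      by_contra e
      refine e (hv.2.1 (decide_eq_true fun p => pl 1 v fv _ ?_))
      simp only [A_w1]
      clear * - e; revert v p; decide +kernel
    have z2 : v.2.2 = 0 := by
      by_contra e
      refine e (hv.2.2 (decide_eq_true fun p => pl 2 v fv _ ?_))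
      simp only [A_w2]
      clear * - e; revert v p; decide +kernel
    exact v0 (Prod.ext z0 (Prod.ext z1 z2))
  refine eq_bot_iff.2 fun x hx => mem_bot.2 (A_ext6 ?_)
  simp only [bs, List.forall_mem_cons, A_one, key.1 _ x hx, key.2.1 _ x hx, key.2.2 _ x hx, List.not_mem_nil,
    false_imp_iff, implies_true, and_self]

theorem ord3 (x : Sp) (h : x ^ 3 = 1) : ∃ g y, g * x * g⁻¹ = wv y := by
  obtain ⟨g, hg⟩ := syl (zpowers x) (H87.Mc.pgz (k := 1) (by simpa using h))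
  obtain ⟨p, hp⟩ := hg x (mem_zpowers x)
  have e3 : mu (mu p p) p = (0, 0) := sv_inj (by
    rw [← sv_mul, ← sv_mul, ← hp, sv0, wv0, ← pow_two, ← pow_succ, conj_pow, h]; group)
  have k : ∀ p : X3 × F3, mu (mu p p) p = (0, 0) → p.2 = 0 ∨ ∃ y : X3, mu (y, 0) p = mu (0, p.2) (y, 0) := by
    decide +kernel
  rcases k p e3 with e | ⟨y, e⟩
  · exact ⟨g, p.1, by rw [hp, ← sv0, ← e]⟩
  · obtain ⟨u, z, hu⟩ := cy_cj
    have e1 := congrArg sv e
    rw [← sv_mul, ← sv_mul, ← hp, show sv (0, p.2) = cy ^ p.2.val by rw [sv, wv0, one_mul]] at e1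
    have e2 : u * sv (y, 0) * g * x * (u * sv (y, 0) * g)⁻¹ = wv z ^ p.2.val := by
      rw [← hu, conj_pow, ← mul_inv_eq_iff_eq_mul.2 e1]; group
    refine ⟨u * sv (y, 0) * g, p.2 • z, e2.trans ?_⟩
    rcases H87.U6.f3_cases p.2 with f | f | f <;> rw [f]
    · rw [zero_smul, wv0]; exact pow_zero _
    · rw [one_smul]; exact pow_one _
    · rw [two_smul, wv_add]; exact pow_two _

theorem ab27 (B : Subgroup Sp) (c : ∀ a ∈ B, ∀ a' ∈ B, a * a' = a' * a) (e : ∀ a ∈ B, a ^ 3 = 1) :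
    Nat.card B ≤ 27 ∧ (Nat.card B = 27 → ∃ g, ∀ x, x ∈ B ↔ ∃ y, g * x * g⁻¹ = wv y) := by
  obtain ⟨g, hg⟩ := syl B (H87.Mc.pg3 (k := 1) (by simpa using e))
  choose p hp using fun x : B => hg x x.2
  have pi : Function.Injective p := fun x y f => Subtype.ext (by simpa [f, ← hp] using hp x)
  by_cases h0 : ∀ x, (p x).2 = 0
  · have i1 : Function.Injective fun x => (p x).1 := fun x y f => pi (Prod.ext f (by rw [h0, h0]))
    have e1 : ∀ x : B, g * x * g⁻¹ = wv (p x).1 := fun x => by rw [hp, ← sv0, ← h0 x]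
    refine ⟨by simpa using Nat.card_le_card_of_injective _ i1, fun h => ⟨g, fun x =>
      ⟨fun hx => ⟨_, e1 ⟨x, hx⟩⟩, fun ⟨y, hy⟩ => ?_⟩⟩⟩
    obtain ⟨z, hz⟩ := ((Nat.bijective_iff_injective_and_card _).2 ⟨i1, by simpa using h⟩).2 y
    have := e1 z
    rw [show (p z).1 = y from hz, ← hy] at this
    rw [← (by simpa using this : (z : Sp) = x)]
    exact z.2
  · obtain ⟨x, hx⟩ := not_forall.1 h0
    have key : ∀ p : X3 × F3, p.2 ≠ 0 → ∀ q, mu p q = mu q p → ∀ a b : F3,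
        mu p ((q.1.1, a, b), q.2) = mu ((q.1.1, a, b), q.2) p → q.1.2 = (a, b) := by decide +kernel
    have cm : ∀ y, mu (p x) (p y) = mu (p y) (p x) := fun y => sv_inj (by
      rw [← sv_mul, ← sv_mul, ← hp, ← hp, conj_mul, conj_mul, c _ x.2 _ y.2])
    have := Nat.card_le_card_of_injective (fun y => ((p y).1.1, (p y).2)) fun y y' f => pi (by
      simp only [Prod.mk.injEq] at f
      have := key _ hx _ (cm y) (p y').1.2.1 (p y').1.2.2 (by rw [f.1, f.2]; exact cm y')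
      exact Prod.ext (Prod.ext f.1 this) f.2)
    have h9 : Nat.card B ≤ 9 := by simpa using this
    exact ⟨by omega, fun h => by omega⟩

theorem nwv (x : Sp) (h : ∀ y, ∃ y', x * wv y * x⁻¹ = wv y') :
    ∃ N, W0 N ∧ ∀ y : X3, (N (0, y)).1 = 0 ∧ x * wv y * x⁻¹ = wv (N (0, y)).2 := by
  choose σ hσ using h
  have ad : ∀ y z, σ (y + z) = σ y + σ z := fun y z => wv_inj (by rw [wv_add, ← hσ, ← hσ, ← hσ, wv_add, conj_mul])
  have i0 : ∀ y, σ y = 0 → y = 0 := fun y e => wv_inj (by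
    have := hσ y
    rw [e, wv0] at this
    rw [wv0]; simpa using this)
  have z : σ 0 = 0 := by simpa using ad 0 0
  have ng : ∀ y, σ (-y) = -σ y := fun y => eq_neg_of_add_eq_zero_left (by rw [← ad, neg_add_cancel, z])
  have zc : ∀ y, Zc (σ y) → Zc y := fun y => by rw [← MD2.Fx_wv, ← hσ, MD2.Fx_cj, MD2.Fx_wv]; exact id
  have k : ∀ a b : X3, a ≠ 0 → b ≠ 0 → ∀ c : X3, c ≠ 0 → ¬ Zc (a + b + c) → ¬ Zc (a + b + -c) →
      ¬ Zc (a + -b + c) → ¬ Zc (a + -b + -c) → Sh (0, a) ∧ Sh (0, b) ∧ Sh (0, c) := by decide +kernel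
  refine ⟨fun v => (v.1, σ v.2), ⟨⟨fun u v => Prod.ext rfl (ad _ _), fun v e =>
    Prod.ext (congrArg Prod.fst e :) (i0 _ (congrArg Prod.snd e :))⟩, Prod.ext rfl z,
    k (σ (1, 0, 0)) (σ (0, 1, 0)) (fun e => absurd (i0 _ e) (by decide)) (fun e => absurd (i0 _ e) (by decide))
      (σ (0, 0, 1)) (fun e => absurd (i0 _ e) (by decide)) ?_ ?_ ?_ ?_⟩, fun y => ⟨rfl, hσ y⟩⟩ <;>
    simp only [← ng, ← ad] <;> exact fun e => absurd (zc _ e) (by decide)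

theorem w0x (N : V → V) (h : W0 N) :
    ∃ x : Sp, ∀ y : X3, (N (0, y)).1 = 0 ∧ x * wv y * x⁻¹ = wv (N (0, y)).2 := by
  obtain ⟨⟨ad, i0⟩, -, h2, h3, h4⟩ := h
  have l : ∀ y : X3, N (0, y) = lin (N e1) (N e2) (N e3) (N e4) (0, y) := fun y => H87.U6.add_lin ad _
  have l' : ∀ (d a b c : V) (y : X3), lin d a b c (0, y) =
      (y.1 * a.1 + y.2.1 * b.1 + y.2.2 * c.1, l3 a.2 b.2 c.2 y) := fun d a b c y => by
    show (0 * d.1 + _ + _ + _, 0 * d.2.1 + _ + _ + _, 0 * d.2.2.1 + _ + _ + _, 0 * d.2.2.2 + _ + _ + _) = _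
    simp only [zero_mul, zero_add]
    rfl
  have k : ∀ a : V, Sh a → ∀ b : V, Sh b → ∀ c : V, Sh c → (∀ y : X3, l3 a.2 b.2 c.2 y = 0 → y = 0) →
      ∃ e0 e1 e2 i j k : Fin 2, a.2 = Nw e0.1 e1.1 e2.1 i.1 j.1 k.1 (1, 0, 0) ∧
      b.2 = Nw e0.1 e1.1 e2.1 i.1 j.1 k.1 (0, 1, 0) ∧ c.2 = Nw e0.1 e1.1 e2.1 i.1 j.1 k.1 (0, 0, 1) := by
    decide +kernel
  have s1 : ∀ a : V, Sh a → a.1 = 0 := by decide +kernel
  have l0 : ∀ y : X3, N (0, y) = (0, l3 (N e2).2 (N e3).2 (N e4).2 y) := fun y => by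
    rw [l, l', s1 _ h2, s1 _ h3, s1 _ h4]; simp
  obtain ⟨e0, e1, e2, i, j, k, f1, f2, f3⟩ := k _ h2 _ h3 _ h4 fun y e =>
    congrArg Prod.snd (i0 (0, y) (by rw [l0, e]; rfl))
  obtain ⟨x, hx⟩ := MD2.rz_Nw e0.1 e1.1 e2.1 i.1 j.1 k.1
  exact ⟨x, fun y => by rw [l0, hx, MD2.Nw_lin, ← f1, ← f2, ← f3]; exact ⟨rfl, rfl⟩⟩

theorem cA (x : Sp) (h1 : x * (ww 0 * (ww 1)⁻¹) = ww 0 * (ww 1)⁻¹ * x)
    (h2 : x * (ww 1 * (ww 2)⁻¹) = ww 1 * (ww 2)⁻¹ * x) : ∃ y, x = wv y := by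
  rw [show ww 0 * (ww 1)⁻¹ = wv (1, 2, 0) from mul_inv_eq_iff_eq_mul.2 (A_ext6 (by
    simp only [A_mul, A_wv, A_w0, A_w1]; decide +kernel))] at h1
  rw [show ww 1 * (ww 2)⁻¹ = wv (0, 1, 2) from mul_inv_eq_iff_eq_mul.2 (A_ext6 (by
    simp only [A_mul, A_wv, A_w1, A_w2]; decide +kernel))] at h2
  have h3 := (H87.U6.cm_mul h1.symm h2.symm).symm
  have h4 := (H87.U6.cm_mul h3.symm h2.symm).symm
  rw [← wv_add] at h3
  rw [← wv_add, ← wv_add] at h4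
  have c1 := cmA h1
  have c2 := cmA h2
  have c3 := cmA h3
  have c4 := cmA h4
  simp only [A_wv] at c1 c2 c3 c4
  have k0 : ∀ u : V6, u ≠ 0 → u = wf (0, 1, 2) u → ∃ k : F3, u = (om3^[k.val] (1, 0), 0, 0) := by decide +kernel
  have k1 : ∀ u : V6, u ≠ 0 → u = wf ((1, 2, 0) + (0, 1, 2)) u → ∃ k : F3, u = (0, om3^[k.val] (1, 0), 0) := by
    decide +kernel
  have k2 : ∀ u : V6, u ≠ 0 → u = wf (1, 2, 0) u → ∃ k : F3, u = (0, 0, om3^[k.val] (1, 0)) := by decide +kernel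
  obtain ⟨a, ea⟩ := k0 _ (A_ne x (v := ((1, 0), 0, 0)) (by decide)) (c2 ((1, 0), 0, 0))
  obtain ⟨b, eb⟩ := k1 _ (A_ne x (v := (0, (1, 0), 0)) (by decide)) (c3 (0, (1, 0), 0))
  obtain ⟨c, ec⟩ := k2 _ (A_ne x (v := (0, 0, (1, 0))) (by decide)) (c1 (0, 0, (1, 0)))
  have fa : A x ((0, 1), 0, 0) = _ := c4 ((1, 0), 0, 0)
  have fb : A x (0, (0, 1), 0) = _ := c4 (0, (1, 0), 0)
  have fc : A x (0, 0, (0, 1)) = _ := c4 (0, 0, (1, 0))
  refine ⟨(a, b, c), A_ext6 ?_⟩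
  simp only [bs, List.forall_mem_cons, A_wv, fa, fb, fc, ea, eb, ec, List.not_mem_nil,
    false_imp_iff, implies_true]
  clear * -
  revert a b c
  decide +kernel

theorem noab9 (B : Subgroup Sp) (e : ∀ a ∈ B, a * a = 1) : Nat.card B ≠ 512 := fun c => by
  let S : Sylow 2 Sp := Sylow.ofCard B (by
    rw [c, sp_card, show 1451520 = 2 ^ 9 * 2835 from rfl, Nat.factorization_mul (by norm_num) (by norm_num),
      Nat.Prime.factorization_pow (by norm_num)]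
    simp [Nat.factorization_eq_zero_of_not_dvd (show ¬ 2 ∣ 2835 by norm_num)])
  let x : Sp := tc (0, 0, (0, 1)) * tc (0, 0, (1, 0)) * tc (0, (0, 1), (0, 1))
  have x4 : x ^ 2 ^ 2 = 1 := A_ext6 (by
    simp only [MD2.A_pow, x, funext (A_mul _ _), funext (A_tc _), A_one]; decide +kernel)
  obtain ⟨P, hP⟩ := (H87.Mc.pgz x4).exists_le_sylow
  obtain ⟨g, hg⟩ := MulAction.exists_smul_eq Sp P S
  have m : g * x * g⁻¹ ∈ (S : Subgroup Sp) := by
    rw [← hg]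
    exact smul_mem_pointwise_smul x (MulAut.conj g) _ (hP (mem_zpowers x))
  have x2 : x * x = 1 := by simpa [conj_mul] using e _ m
  have : ∀ v ∈ bs, A (x * x) v = A 1 v := fun v _ => by rw [x2]
  simp only [x, A_mul, A_tc, A_one] at this
  revert this
  decide +kernel

theorem no7 (x : Sp) (c : x * TT 0 = TT 0 * x) (e : x ^ 7 = 1) : x = 1 := by
  letI := act
  have o : MulAction.orbit Sp (((1, 1), 0, 0) : V6) = {v | v ≠ 0} := Set.ext fun v =>
    ⟨fun ⟨g, hg⟩ => hg ▸ A_ne g (by decide), fun h => tr v h⟩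
  have i := MulAction.index_stabilizer Sp (((1, 1), 0, 0) : V6)
  rw [o, show ({v | v ≠ 0} : Set V6).ncard = 63 by
    rw [Set.ncard_eq_toFinset_card']; decide +kernel] at i
  have h := (MulAction.stabilizer Sp (((1, 1), 0, 0) : V6)).card_mul_index
  rw [i, sp_card] at h
  have m : x ∈ MulAction.stabilizer Sp (((1, 1), 0, 0) : V6) := MD2.tc_inj (by
    rw [show TT 0 = tc ((1, 1), 0, 0) from A_ext (by simp only [MD2.A_t0, A_tc]; decide +kernel)] at c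
    exact (MD2.tc_cj x _).symm.trans (H87.U6.cm_cj.1 c))
  have d := orderOf_dvd_natCard _ m
  rw [show Nat.card (MulAction.stabilizer Sp (((1, 1), 0, 0) : V6)) = 23040 by omega] at d
  exact orderOf_eq_one_iff.1 (Nat.eq_one_of_dvd_coprimes (by norm_num) d (orderOf_dvd_of_pow_eq_one e))

theorem sp_tr (v w : W) (hv : v ≠ 0) (hw : w ≠ 0) : ∃ g, ac g v = w := by
  have n : ∀ {v : W}, v ≠ 0 → MD2.cw v ≠ 0 := fun {v} h e => h (by
    rw [← MD2.vec_cw v, e]; decide +kernel)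
  obtain ⟨g, hg⟩ := tr _ (n hv)
  obtain ⟨k, hk⟩ := tr _ (n hw)
  refine ⟨k * g⁻¹, ?_⟩
  rw [← MD2.vec_cw v, ← MD2.vec_A, A_mul, ← hg, MD2.A_inv, hk, MD2.vec_cw]

end H29.S6
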