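import Cfsg.Agent.Lib.S6.Defs

/-! S6, package MDb (see blueprint/S6/README.md). -/

set_option autoImplicit false
set_option linter.unusedSectionVars false
set_option synthInstance.maxSize 4000

namespace H29.S6

open Subgroup Cfsg H29.F42
open H87.U6 (F3 V lin)
open H75.L7 (Nm T Ch2 Rk3)

variable {G : Type*} [Group G] [Finite G] {j ρ : V → G} {τ : G} {θ θ' : Sp →* G} {D : Subgroup G}

namespace MDb

open MD1

theorem d0_df : CM.d0 = P12 * wd [36, 2, 38] * TT 1 * wd [36, 2, 38] := rfl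
theorem kk_df : kk = P12 * P01 := rfl
theorem u0_wd : u0 = wd [6, 48] := by
  rw [show u0 = tv (ff 1 + ff 2) * tv (gg 1 + gg 2) from rfl, tv_wd ff12, tv_wd gg12, ← wd_append]; rfl
theorem kk_wd : kk = wd [6, 48, 54, 3, 24, 27] := by rw [kk_df, P12_wd, P01_wd, ← wd_append]; rfl

local macro "wds" : tactic => `(tactic| simp only [d0_df, kk_wd, u0_wd, CM.gA_df, CM.gB_df, CM.gC_wd,
  a1_wd, b1_wd, a2_wd, b2_wd, a3_wd, b3_wd, ww0_wd, ww1_wd, ww2_wd, TT0_wd, TT1_wd, TT2_wd, P01_wd,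
  P12_wd, v0_wd, CM.one_wd, wd_inv, ← wd_append, pow_succ, pow_zero])

theorem memS {l : List ℕ} (h : (∀ w ∈ l, w < 64) ∧ wN l 1 = 1 ∧ wN l 8 = 8) : wd l ∈ S4 := by
  rw [mem_S4, ff0, gg0, (ac_wd h.1 (by decide)).2, (ac_wd h.1 (by decide)).2, h.2.1, h.2.2]
  exact ⟨rfl, rfl⟩

theorem wd2 (a b : ℕ) : wd [a, b] = tv (dc a) * tv (dc b) := by
  rw [tv_wd rfl, tv_wd rfl, ← wd_append]; rfl

theorem ne0 {g : Sp} {x y : ℕ} (hx : x < 64) (x0 : x ≠ 0) (e : ac g (dc x) = dc y) : y ≠ 0 := by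
  rintro rfl
  exact x0 (dc_inj hx (by decide) (ac_inj g (e.trans (ac_dc0 g).symm)))

/-- move the image of `x` back by two transvections -/
theorem red {K : Subgroup Sp} (L F : List ℕ) (x : ℕ) (hL : ∀ w ∈ L, tv (dc w) ∈ K)
    (tab : x < 64 ∧ x ≠ 0 ∧ (∀ w ∈ L, w < 64) ∧ (∀ f ∈ F, f < 64) ∧ ∀ y < 64, y ≠ 0 →
      (∀ f ∈ F, omN y f = omN x f) → ∃ a ∈ L, ∃ b ∈ L, wN [a, b] y = x ∧ ∀ f ∈ F, wN [a, b] f = f)
    (next : ∀ g, (∀ f ∈ x :: F, ac g (dc f) = dc f) → g ∈ K) :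
    ∀ g, (∀ f ∈ F, ac g (dc f) = dc f) → g ∈ K := fun g hg => by
  obtain ⟨hx, x0, l64, f64, tab⟩ := tab
  obtain ⟨y, hy, e⟩ := ex_dc g x
  obtain ⟨a, ha, b, hb, e1, e2⟩ := tab y hy (ne0 hx x0 e) fun f hf =>
    omN_eq hx (f64 f hf) hy (f64 f hf) e (hg f hf)
  have ab : ∀ w ∈ [a, b], w < 64 := by simp [l64 a ha, l64 b hb]
  have hm : wd [a, b] ∈ K := wd2 a b ▸ mul_mem (hL a ha) (hL b hb)
  refine (Subgroup.mul_mem_cancel_left K hm).1 (next _ fun f hf => ?_)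
  rcases List.mem_cons.1 hf with rfl | hf
  · rw [ac_mul, e, (ac_wd ab hy).2, e1]
  · rw [ac_mul, hg f hf, (ac_wd ab (f64 f hf)).2, e2 f hf]

def L4 : List ℕ := [0, 2, 4, 6, 16, 18, 20, 22, 32, 34, 36, 38, 48, 50, 52, 54]

theorem base {K : Subgroup Sp} (h : ∀ w ∈ L4, tv (dc w) ∈ K) : S4 ≤ K := fun g hg => by
  rw [mem_S4, ff0, gg0] at hg
  refine red L4 [1, 8] 2 h (by decide +kernel) (red L4 _ 16 h (by decide +kernel)
    (red L4 _ 4 h (by decide +kernel) (red L4 _ 32 h (by decide +kernel) fun g hg => ?_))) g (by simp [hg])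
  have : g = 1 := ac_ext6 fun x hx => by
    rw [ac_one]; exact hg x ((by decide : ∀ x ∈ [1, 2, 4, 8, 16, 32], x ∈ [32, 4, 16, 2, 1, 8]) x hx)
  rw [this]; exact one_mem _

/-- a straight line program for vectors of transvections -/
def run (Gs : List (List ℕ)) : List ℕ → List (ℕ × ℕ) → List ℕ
  | S, [] => S
  | S, c :: p => run Gs (wN (Gs.getD c.1 []) (S.getD c.2 0) :: S) p

theorem run_mem {K : Subgroup Sp} {Gs : List (List ℕ)} (hG : ∀ l ∈ Gs, wd l ∈ K)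
    (g64 : ∀ l ∈ Gs, ∀ w ∈ l, w < 64) : ∀ (p : List (ℕ × ℕ)) (S : List ℕ),
      (∀ w ∈ S, w < 64 ∧ tv (dc w) ∈ K) → ∀ w ∈ run Gs S p, w < 64 ∧ tv (dc w) ∈ K
  | [], _, h => h
  | c :: p, S, h => run_mem hG g64 p _ fun w hw => by
    rcases List.mem_cons.1 hw with rfl | hw
    · have h1 : wd (Gs.getD c.1 []) ∈ K ∧ ∀ w ∈ Gs.getD c.1 [], w < 64 := by
        rw [List.getD_eq_getElem?_getD]
        cases e : Gs[c.1]? with
        | none => exact ⟨one_mem _, by simp⟩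
        | some l => exact ⟨hG l (List.mem_of_getElem? e), g64 l (List.mem_of_getElem? e)⟩
      have h2 : S.getD c.2 0 < 64 ∧ tv (dc (S.getD c.2 0)) ∈ K := by
        rw [List.getD_eq_getElem?_getD]
        cases e : S[c.2]? with
        | none => exact ⟨by decide, by rw [Option.getD_none, dc_zero, tv_zero]; exact one_mem _⟩
        | some l => exact h l (List.mem_of_getElem? e)
      have h3 := ac_wd h1.2 h2.1
      exact ⟨h3.1, by rw [← h3.2, ← tv_cj]; exact mul_mem (mul_mem h1.1 h2.2) (inv_mem h1.1)⟩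
    · exact h w hw

theorem all_mem {K : Subgroup Sp} (Gs : List (List ℕ)) (S : List ℕ) (p : List (ℕ × ℕ)) {L : List ℕ}
    (hG : ∀ l ∈ Gs, wd l ∈ K) (hS : ∀ w ∈ S, wd [w] ∈ K)
    (c : (∀ l ∈ Gs, ∀ w ∈ l, w < 64) ∧ (∀ w ∈ S, w < 64) ∧ ∀ w ∈ L, w = 0 ∨ w ∈ run Gs S p) :
    ∀ w ∈ L, tv (dc w) ∈ K := fun w hw => by
  rcases c.2.2 w hw with rfl | e
  · rw [dc_zero, tv_zero]; exact one_mem _
  · exact (run_mem hG c.1 p S (fun w hw => ⟨c.2.1 w hw, tv_wd rfl ▸ hS w hw⟩) w e).2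

theorem basek {K : Subgroup Sp}
    (h : ∀ w ∈ [0, 1, 2, 3, 8, 9, 10, 11, 16, 17, 18, 19, 24, 25, 26, 27], tv (dc w) ∈ K) :
    ∀ x ∈ S4, kk * x * kk⁻¹ ∈ K := fun x hx =>
  base (K := K.comap (MulAut.conj kk).toMonoidHom) (fun w hw => by
    have t : ∀ w ∈ L4, w < 64 ∧ wN [6, 48, 54, 3, 24, 27] w ∈
      [0, 1, 2, 3, 8, 9, 10, 11, 16, 17, 18, 19, 24, 25, 26, 27] := by decide +kernel
    change kk * tv (dc w) * kk⁻¹ ∈ K
    rw [tv_cj, kk_wd, (ac_wd (by decide) (t w hw).1).2]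
    exact h _ (t w hw).2) hx

theorem cm {g : Sp} {l : List ℕ} (hl : ∀ w ∈ l, w < 64) (c : g * wd l = wd l * g) {x y : ℕ} (hx : x < 64)
    (hy : y < 64) (e : ac g (dc x) = dc y) : ac g (dc (wN l x)) = dc (wN l y) := by
  rw [← (ac_wd hl hx).2, ← ac_mul, c, ac_mul, e, (ac_wd hl hy).2]

/-- an involution commuting with `ww i` fixes plane `i` -/
theorem pl {g : Sp} (g2 : g * g = 1) (p q : ℕ) (c : g * wd [p, q] = wd [p, q] * g)
    (t : p < 64 ∧ q < 64 ∧ p ≠ 0 ∧ wN [p, q] p = q ∧ wN [p, q] q = p ^^^ q ∧ p ^^^ q ≠ p ∧ q ≠ p ∧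
      wN [p, q] (wN [p, q] (p ^^^ q)) = q ∧
      ∀ y < 64, y ≠ 0 → wN [p, q] (wN [p, q] y) = y ^^^ wN [p, q] y → y = p ∨ y = q ∨ y = p ^^^ q) :
    ac g (dc p) = dc p ∧ ac g (dc q) = dc q := by
  obtain ⟨hp, hq, p0, e1, e2, n1, n2, e3, t⟩ := t
  have hl : ∀ w ∈ [p, q], w < 64 := by simp [hp, hq]
  obtain ⟨y, hy, e⟩ := ex_dc g p
  have y1 := (ac_wd hl hy).1
  have a1 := cm hl c hp hy e
  rw [e1] at a1
  have a2 := cm hl c hq y1 a1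
  rw [e2] at a2
  have a3 : ac g (dc y) = dc p := by rw [← e, ← ac_mul, g2, ac_one]
  have s : wN [p, q] (wN [p, q] y) = y ^^^ wN [p, q] y :=
    dc_inj (ac_wd hl y1).1 (xor_lt hy y1) (by rw [← a2, dc_xor, dc_xor, ac_add, e, a1])
  rcases t y hy (ne0 hp p0 e) s with rfl | rfl | rfl
  · exact ⟨e, by rw [a1, e1]⟩
  · rw [e2, a3] at a1
    exact absurd (dc_inj hp (xor_lt hp hq) a1).symm n1
  · rw [e3, a3] at a2
    exact absurd (dc_inj hp hq a2).symm n2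

theorem eq_wd {g : Sp} {l B : List ℕ} (hl : ∀ w ∈ l, w < 64) (hB : ∀ x ∈ [1, 2, 4, 8, 16, 32], x ∈ B)
    (h : ∀ x ∈ B, ac g (dc x) = dc (wN l x)) : g = wd l :=
  ac_ext6 fun x hx => by
    rw [h x (hB x hx), (ac_wd hl ((by decide : ∀ x ∈ [1, 2, 4, 8, 16, 32], x < 64) x hx)).2]

/-- elements fixing two of the three planes -/
theorem six {g : Sp} (p q : ℕ) (F : List ℕ) (hF : ∀ f ∈ F, ac g (dc f) = dc f)
    (t : p < 64 ∧ q < 64 ∧ (∀ f ∈ F, f < 64) ∧ (∀ x ∈ [1, 2, 4, 8, 16, 32], x ∈ p :: q :: F) ∧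
      ∀ y < 64, (∀ f ∈ F, omN y f = omN p f) → ∀ z < 64, (∀ f ∈ F, omN z f = omN q f) →
        omN y z = omN p q → ∃ l ∈ [[], [p ^^^ q], [p ^^^ q, p, q], [p ^^^ q, p, q, p, q], [p, q], [p, q, p, q]],
          (∀ w ∈ l, w < 64) ∧ wN l p = y ∧ wN l q = z ∧ ∀ f ∈ F, wN l f = f) :
    ∃ l ∈ [[], [p ^^^ q], [p ^^^ q, p, q], [p ^^^ q, p, q, p, q], [p, q], [p, q, p, q]], g = wd l := by
  obtain ⟨hp, hq, f64, hB, t⟩ := t
  obtain ⟨y, hy, e⟩ := ex_dc g p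
  obtain ⟨z, hz, e'⟩ := ex_dc g q
  obtain ⟨l, hl, l64, e1, e2, e3⟩ := t y hy (fun f hf => omN_eq hp (f64 f hf) hy (f64 f hf) e (hF f hf))
    z hz (fun f hf => omN_eq hq (f64 f hf) hz (f64 f hf) e' (hF f hf)) (omN_eq hp hq hy hz e e')
  refine ⟨l, hl, eq_wd l64 hB fun x hx => ?_⟩
  simp only [List.mem_cons] at hx
  rcases hx with rfl | rfl | hx
  exacts [by rw [e, e1], by rw [e', e2], by rw [hF x hx, e3 x hx]]

theorem eqns : True := by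
  have := @L4.eq_1
  have := @run.eq_1
  have := @run.eq_2
  have := @run.eq_def
  trivial

end MDb

open MDb MD1

local macro "wds" : tactic => `(tactic| simp only [d0_df, kk_wd, u0_wd, CM.gA_df, CM.gB_df, CM.gC_wd,
  a1_wd, b1_wd, a2_wd, b2_wd, a3_wd, b3_wd, ww0_wd, ww1_wd, ww2_wd, TT0_wd, TT1_wd, TT2_wd, P01_wd,
  P12_wd, v0_wd, CM.one_wd, wd_inv, ← wd_append, pow_succ, pow_zero])

local macro "wde" : tactic => `(tactic| (wds; exact wd_eq (by decide +kernel)))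
local macro "wdn" : tactic => `(tactic| (wds; exact wd_ne (by decide +kernel)))
local macro "wdm" : tactic => `(tactic| (wds; exact memS (by decide +kernel)))

theorem S4_mem : ww 1 ∈ S4 ∧ ww 2 ∈ S4 ∧ TT 1 ∈ S4 ∧ TT 2 ∈ S4 ∧ P12 ∈ S4 ∧ gC ∈ S4 ∧ u0 ∈ S4 ∧
    a2 ∈ S4 ∧ b2 ∈ S4 ∧ a3 ∈ S4 ∧ b3 ∈ S4 ∧ CM.d0 ∈ S4 :=
  ⟨by wdm, by wdm, by wdm, by wdm, by wdm, by wdm, by wdm, by wdm, by wdm, by wdm, by wdm, by wdm⟩

theorem S4_inv {g : Sp} (g2 : g * g = 1) (c : g * ww 0 = ww 0 * g) : g ∈ S4 := by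
  rw [mem_S4, ff0, gg0]
  exact pl g2 1 8 (ww0_wd ▸ c) (by decide +kernel)

theorem S4_c {g : Sp} (hg : g ∈ S4) : g * ww 0 = ww 0 * g ∧ g * TT 0 = TT 0 * g :=
  ⟨(Commute.mul_right (tv_comm hg.1) (tv_comm hg.2)).eq,
    tv_comm (w := ff 0 + gg 0) (by rw [ac_add, hg.1, hg.2])⟩

theorem S4_gen (K : Subgroup Sp) (h1 : ww 1 ∈ K) (h2 : ww 2 ∈ K) (h3 : TT 1 ∈ K) (h4 : TT 2 ∈ K)
    (h5 : P12 ∈ K) (h6 : gC ∈ K ∨ u0 ∈ K) : S4 ≤ K := by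
  have h7 : wd [54] ∈ K := by
    rcases h6 with h | h
    · have : wd [54] = (ww 2) * gC * (ww 2)⁻¹ := by wde
      rw [this]; exact mul_mem (mul_mem h2 h) (inv_mem h2)
    · have : wd [54] = u0⁻¹ * P12 := by wde
      rw [this]; exact mul_mem (inv_mem h) h5
  rw [ww1_wd] at h1; rw [ww2_wd] at h2; rw [TT1_wd] at h3; rw [TT2_wd] at h4
  exact base (all_mem [[2, 16], [4, 32]] [18, 36, 54] 
    [(0, 0), (1, 2), (0, 4), (1, 5), (0, 0), (1, 1), (0, 3), (1, 5), (0, 7), (1, 2), (0, 4), (0, 0)]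
    (by simp [h1, h2]) (by simp [h3, h4, h7])
    (by decide +kernel))

theorem S4_geni (K : Subgroup Sp) (h : ∀ x ∈ S4, x * x = 1 → x ∈ K) : S4 ≤ K :=
  base fun w hw => h _ (by
    rw [tv_wd rfl]
    exact memS ((by decide +kernel : ∀ w ∈ L4, (∀ x ∈ [w], x < 64) ∧ wN [w] 1 = 1 ∧ wN [w] 8 = 8) w hw))
    (tv_sq _)

theorem S4_genab (K : Subgroup Sp) (h1 : a2 ∈ K) (h2 : b2 ∈ K) (h3 : a3 ∈ K) (h4 : b3 ∈ K) :
    S4 ≤ K := by
  rw [a2_wd] at h1; rw [b2_wd] at h2; rw [a3_wd] at h3; rw [b3_wd] at h4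
  exact base (all_mem [[2, 32, 34], [4, 16, 20], [4], [32]] [4] 
    [(0, 0), (3, 1), (0, 0), (1, 1), (2, 2), (1, 4), (1, 1), (0, 3), (3, 4), (1, 6), (2, 7), (1, 0), (0, 2), (0, 6)]
    (by simp [h1, h2, h3, h4])
    (by simp [h3]) (by decide +kernel))

theorem S4k_gen (K : Subgroup Sp) (h1 : ww 0 ∈ K) (h2 : ww 1 ∈ K) (h3 : TT 0 ∈ K) (h4 : TT 1 ∈ K)
    (h5 : P01 ∈ K) (h6 : v0 ∈ K) : ∀ x ∈ S4, kk * x * kk⁻¹ ∈ K := by
  have _ := h5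
  have h7 : wd [11] ∈ K := by
    have : wd [11] = ww 1 * TT 1 * (ww 1)⁻¹ * v0 := by wde
    rw [this]; exact mul_mem (mul_mem (mul_mem h2 h4) (inv_mem h2)) h6
  rw [ww0_wd] at h1; rw [ww1_wd] at h2; rw [TT0_wd] at h3; rw [TT1_wd] at h4
  exact basek (all_mem [[1, 8], [2, 16]] [9, 18, 11] 
    [(0, 0), (1, 2), (0, 4), (1, 5), (0, 0), (1, 1), (0, 3), (1, 5), (0, 7), (1, 2), (0, 4), (0, 0)]
    (by simp [h1, h2]) (by simp [h3, h4, h7])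
    (by decide +kernel))

theorem gen44 (K : Subgroup Sp) (h1 : S4 ≤ K) (h2 : ∀ x ∈ S4, kk * x * kk⁻¹ ∈ K) : K = ⊤ := by
  obtain ⟨-, -, -, -, -, -, -, m1, m2, m3, m4, -⟩ := S4_mem
  have e1 : kk * a2 * kk⁻¹ = a1 := by wde
  have e2 : kk * b2 * kk⁻¹ = b1 := by wde
  rw [eq_top_iff, ← sp_gen, closure_le]
  rintro x (rfl | rfl | rfl | rfl | rfl | rfl)
  exacts [e1 ▸ h2 _ m1, e2 ▸ h2 _ m2, h1 m1, h1 m2, h1 m3, h1 m4]

theorem gen2 (K : Subgroup Sp) (h1 : ∀ i, ww i ∈ K) (h2 : ∀ i, TT i ∈ K) (h3 : P01 ∈ K) (h4 : P12 ∈ K)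
    (h5 : gC ∈ K) : K = ⊤ := by
  have k := S4_gen K (h1 1) (h1 2) (h2 1) (h2 2) h4 (Or.inl h5)
  have m : kk ∈ K := kk_df ▸ mul_mem h4 h3
  exact gen44 K k fun x hx => mul_mem (mul_mem m (k hx)) (inv_mem m)

theorem stab_gen (K : Subgroup Sp) (h1 : S4 ≤ K)
    (h2 : ∀ x ∈ S4, ac x (ff 1) = ff 1 → kk * x * kk⁻¹ ∈ K) : ∀ g, ac g (ff 0) = ff 0 → g ∈ K := by
  have a : ∀ l : List ℕ, ((∀ w ∈ l, w < 64) ∧ wN l 1 = 1 ∧ wN l 8 = 8) ∧ wN l 2 = 2 →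
      kk * wd l * kk⁻¹ ∈ K := fun l h =>
    h2 _ (memS h.1) (by rw [ff1, (ac_wd h.1.1 (by decide)).2, h.2])
  have t1 : wd [1] ∈ K := by
    have : wd [1] = kk * wd [2] * kk⁻¹ := by wde
    rw [this]; exact a _ (by decide +kernel)
  have t3 : wd [3] ∈ K := by
    have : wd [3] = kk * wd [6] * kk⁻¹ := by wde
    rw [this]; exact a _ (by decide +kernel)
  have s : ∀ l ∈ [[2], [16], [4], [32], [6]], wd l ∈ K := fun l hl => h1 (memS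
    ((by decide +kernel : ∀ l ∈ [[2], [16], [4], [32], [6]],
      (∀ w ∈ l, w < 64) ∧ wN l 1 = 1 ∧ wN l 8 = 8) l hl))
  have := all_mem (K := K) [[2], [16], [4], [32], [6]] [1, 3] 
    [(1, 1), (0, 0), (4, 1), (0, 0), (3, 1), (0, 0), (2, 1), (1, 3), (3, 0), (0, 2), (1, 0), (4, 2), (2, 0), (3, 0)]
   
    (L := [0, 1, 3, 5, 7, 17, 19, 21, 23, 33, 35, 37, 39, 49, 51, 53, 55]) s (by simp [t1, t3])
    (by decide +kernel)
  intro g hg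
  refine red _ [1] 8 this (by decide +kernel) (fun g hg => h1 ?_) g (by simpa [ff0] using hg)
  rw [mem_S4, ff0, gg0]
  exact ⟨hg 1 (by simp), hg 8 (by simp)⟩

theorem c12 (i : Fin 3) {x : Sp} (x2 : x * x = 1) (c : ∀ k, k ≠ i → x * ww k = ww k * x) :
    x = 1 ∨ ∃ n : F3, x = TT i * ww i ^ n.val := by
  have v0 : (0 : F3).val = 0 := rfl
  have v1 : (1 : F3).val = 1 := rfl
  have v2 : (2 : F3).val = 2 := rfl
  have p0 := fun h => pl x2 1 8 (ww0_wd ▸ c 0 h) (by decide +kernel)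
  have p1 := fun h => pl x2 2 16 (ww1_wd ▸ c 1 h) (by decide +kernel)
  have p2 := fun h => pl x2 4 32 (ww2_wd ▸ c 2 h) (by decide +kernel)
  rcases (by decide : ∀ i : Fin 3, i = 0 ∨ i = 1 ∨ i = 2) i with rfl | rfl | rfl
  · obtain ⟨l, hl, rfl⟩ := six (g := x) 1 8 [2, 16, 4, 32]
      (by simp [p1 (by decide), p2 (by decide)]) (by decide +kernel)
    simp only [List.mem_cons, List.not_mem_nil, or_false] at hl
    rcases hl with rfl | rfl | rfl | rfl | rfl | rfl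
    exacts [Or.inl rfl, Or.inr ⟨0, by rw [v0]; wde⟩, Or.inr ⟨1, by rw [v1]; wde⟩,
      Or.inr ⟨2, by rw [v2]; wde⟩, absurd x2 (by wdn), absurd x2 (by wdn)]
  · obtain ⟨l, hl, rfl⟩ := six (g := x) 2 16 [1, 8, 4, 32]
      (by simp [p0 (by decide), p2 (by decide)]) (by decide +kernel)
    simp only [List.mem_cons, List.not_mem_nil, or_false] at hl
    rcases hl with rfl | rfl | rfl | rfl | rfl | rfl
    exacts [Or.inl rfl, Or.inr ⟨0, by rw [v0]; wde⟩, Or.inr ⟨1, by rw [v1]; wde⟩,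
      Or.inr ⟨2, by rw [v2]; wde⟩, absurd x2 (by wdn), absurd x2 (by wdn)]
  · obtain ⟨l, hl, rfl⟩ := six (g := x) 4 32 [1, 8, 2, 16]
      (by simp [p0 (by decide), p1 (by decide)]) (by decide +kernel)
    simp only [List.mem_cons, List.not_mem_nil, or_false] at hl
    rcases hl with rfl | rfl | rfl | rfl | rfl | rfl
    exacts [Or.inl rfl, Or.inr ⟨0, by rw [v0]; wde⟩, Or.inr ⟨1, by rw [v1]; wde⟩,
      Or.inr ⟨2, by rw [v2]; wde⟩, absurd x2 (by wdn), absurd x2 (by wdn)]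

theorem MDb.tab0 : ∀ y < 64, omN y 1 = omN 2 1 ∧ omN y 8 = omN 2 8 ∧
    omN y (wN [2, 16, 4, 32] y) = omN 2 16 → ∀ u < 64, (omN u 1 = omN 4 1 ∧ omN u 8 = omN 4 8 ∧
    omN u (wN [2, 16, 4, 32] u) = omN 4 32 ∧ omN y u = omN 2 4 ∧ omN y (wN [2, 16, 4, 32] u) = omN 2 32) ∧
    l6 1 y u 8 (wN [2, 16, 4, 32] y) (wN [2, 16, 4, 32] u) y = 2 ∧
    l6 1 y u 8 (wN [2, 16, 4, 32] y) (wN [2, 16, 4, 32] u) u = 4 →
    ∃ l ∈ [[], [6, 48, 54], [6, 48, 54, 2, 16, 32, 4], [6, 48, 54, 2, 16, 32, 4, 2, 16, 32, 4]],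
      (∀ w ∈ l, w < 64) ∧ wN l 1 = 1 ∧ wN l 8 = 8 ∧ wN l 2 = y ∧ wN l 4 = u ∧
        wN l 16 = wN [2, 16, 4, 32] y ∧ wN l 32 = wN [2, 16, 4, 32] u := by decide +kernel

theorem c0w {x : Sp} (x2 : x * x = 1) (c0 : x * ww 0 = ww 0 * x)
    (c1 : x * (ww 1 * ww 2) = ww 1 * ww 2 * x) :
    x = 1 ∨ ∃ n : F3, x = P12 * (ww 1 * (ww 2)⁻¹) ^ n.val := by
  have v0 : (0 : F3).val = 0 := rfl
  have v1 : (1 : F3).val = 1 := rfl
  have v2 : (2 : F3).val = 2 := rfl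
  obtain ⟨f1, f8⟩ := pl x2 1 8 (ww0_wd ▸ c0) (by decide +kernel)
  rw [show ww 1 * ww 2 = wd [2, 16, 4, 32] by wde] at c1
  obtain ⟨y, hy, e2⟩ := ex_dc x 2
  obtain ⟨u, hu, e4⟩ := ex_dc x 4
  have hl : ∀ w ∈ [2, 16, 4, 32], w < 64 := by decide
  have e16 := cm hl c1 (by decide) hy e2
  have e32 := cm hl c1 (by decide) hu e4
  rw [show wN [2, 16, 4, 32] 2 = 16 by decide +kernel] at e16
  rw [show wN [2, 16, 4, 32] 4 = 32 by decide +kernel] at e32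
  have y' := (ac_wd hl hy).1
  have u' := (ac_wd hl hu).1
  have t := fun h => tab0 y hy ⟨omN_eq (by decide) (by decide) hy (by decide) e2 f1,
    omN_eq (by decide) (by decide) hy (by decide) e2 f8, omN_eq (by decide) (by decide) hy y' e2 e16⟩
    u hu ⟨⟨omN_eq (by decide) (by decide) hu (by decide) e4 f1,
    omN_eq (by decide) (by decide) hu (by decide) e4 f8, omN_eq (by decide) (by decide) hu u' e4 e32,
    omN_eq (by decide) (by decide) hy hu e2 e4, omN_eq (by decide) (by decide) hy u' e2 e32⟩, h⟩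
  generalize wN [2, 16, 4, 32] y = y1 at *
  generalize wN [2, 16, 4, 32] u = u1 at *
  have lin : ∀ z < 64, ac x (dc z) = dc (l6 1 y u 8 y1 u1 z) := fun z hz => by
    rw [← ac_l6 f1 e2 e4 f8 e16 e32 z, l6_id z hz]
  have lt := l6_lt (by decide : 1 < 64) hy hu (by decide : 8 < 64) y' u'
  obtain ⟨l, hl', l64, a1, a8, a2, a4, a16, a32⟩ := t
    ⟨dc_inj (lt y) (by decide) (by rw [← lin y hy, ← e2, ← ac_mul, x2, ac_one]),
    dc_inj (lt u) (by decide) (by rw [← lin u hu, ← e4, ← ac_mul, x2, ac_one])⟩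
  obtain rfl : x = wd l := eq_wd (B := [1, 2, 4, 8, 16, 32]) l64 (fun _ h => h) (by
    simp only [List.forall_mem_cons, a1, a8, a2, a4, a16, a32]
    exact ⟨f1, e2, e4, f8, e16, e32, by simp⟩)
  simp only [List.mem_cons, List.not_mem_nil, or_false] at hl'
  rcases hl' with rfl | rfl | rfl | rfl
  exacts [Or.inl rfl, Or.inr ⟨0, by rw [v0]; wde⟩, Or.inr ⟨1, by rw [v1]; wde⟩,
    Or.inr ⟨2, by rw [v2]; wde⟩]

theorem kk_cj : kk * ww 0 * kk⁻¹ = ww 2 ∧ kk * ww 1 * kk⁻¹ = ww 0 ∧ kk * ww 2 * kk⁻¹ = ww 1 ∧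
    kk * TT 0 * kk⁻¹ = TT 2 ∧ kk * TT 1 * kk⁻¹ = TT 0 ∧ kk * TT 2 * kk⁻¹ = TT 1 ∧
    kk * P12 * kk⁻¹ = P01 :=
  ⟨by wde, by wde, by wde, by wde, by wde, by wde, by wde⟩

theorem MDb.all3 {p : Fin 3 → Prop} (h0 : p 0) (h1 : p 1) (h2 : p 2) : ∀ i, p i := by
  intro i
  rcases (by decide : ∀ i : Fin 3, i = 0 ∨ i = 1 ∨ i = 2) i with rfl | rfl | rfl <;> assumption

theorem sp_rel : (∀ i, ww i ^ 3 = 1) ∧ (∀ i k, ww i * ww k = ww k * ww i) ∧ (∀ i, TT i * TT i = 1) ∧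
    (∀ i k, TT i * TT k = TT k * TT i) ∧ (∀ i, TT i * ww i * (TT i)⁻¹ = (ww i)⁻¹) ∧
    (∀ i k, i ≠ k → TT i * ww k = ww k * TT i) ∧ P01 * P01 = 1 ∧ P12 * P12 = 1 ∧
    P01 * ww 0 * P01⁻¹ = ww 1 ∧ P01 * ww 2 = ww 2 * P01 ∧ P01 * TT 0 * P01⁻¹ = TT 1 ∧
    P01 * TT 2 = TT 2 * P01 ∧ P12 * ww 1 * P12⁻¹ = ww 2 ∧ P12 * ww 0 = ww 0 * P12 ∧
    P12 * TT 1 * P12⁻¹ = TT 2 ∧ P12 * TT 0 = TT 0 * P12 ∧ (∀ i, TT i ≠ 1) ∧ P12 ≠ 1 ∧
    gC * gC = 1 ∧ gC * ww 0 = ww 0 * gC ∧ gC * gA = gA * gC ∧ gC * gB = gB * gC ∧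
    (gC * TT 2) ^ 3 = 1 :=
  ⟨all3 (by wde) (by wde) (by wde),
    all3 (all3 rfl (by wde) (by wde)) (all3 (by wde) rfl (by wde)) (all3 (by wde) (by wde) rfl),
    all3 (by wde) (by wde) (by wde),
    all3 (all3 rfl (by wde) (by wde)) (all3 (by wde) rfl (by wde)) (all3 (by wde) (by wde) rfl),
    all3 (by wde) (by wde) (by wde),
    all3 (all3 (absurd rfl) (fun _ => by wde) fun _ => by wde)
      (all3 (fun _ => by wde) (absurd rfl) fun _ => by wde)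
      (all3 (fun _ => by wde) (fun _ => by wde) (absurd rfl)),
    by wde, by wde, by wde, by wde, by wde, by wde, by wde, by wde, by wde, by wde,
    all3 (by wdn) (by wdn) (by wdn), by wdn, by wde, by wde, by wde, by wde, by wde⟩

end H29.S6
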