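import Cfsg.Agent.Lib.S6.Bas1
import Cfsg.Agent.Lib.S6.MDa
import Cfsg.Agent.Lib.S6.MDb

/-! S6, package Bas: calculus in `J = 3⁴` and in the charts (see blueprint/S6/README.md). -/

set_option autoImplicit false
set_option linter.unusedSectionVars false

namespace H29.S6

open Subgroup Cfsg H29.F42
open H87.U6 (F3 V lin add_lin f3_cases cm_cj cm_mul cm_inv cm_pow cm_conj mC)
open H75.L7 (Nm T Ch2 Rk3)

variable {G : Type*} [Group G] [Finite G] {j ρ : V → G} {τ : G} {θ θ' : Sp →* G} {D : Subgroup G}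

/-- `j` is an injective homomorphism -/
structure Jm (j : V → G) : Prop where
  add : ∀ u v, j (u + v) = j u * j v
  inj : ∀ v, j v = 1 → v = 0

theorem vsp : ∀ v : V, v = v.1 • e1 + (0, v.2) := by decide +kernel
theorem vsp' : ∀ v : V, v = (v.1, 0, 0, 0) + (0, v.2) := by decide +kernel

theorem Ch0.jm (h : Ch0 j θ D) : Jm j := ⟨h.add, h.inj⟩
theorem F1.jm (h : F1 j τ ρ) : Jm j := ⟨h.add, h.inj⟩
theorem Jm.j0 (h : Jm j) : j 0 = 1 := by simpa using h.add 0 0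
theorem Jm.jneg (h : Jm j) (v : V) : j (-v) = (j v)⁻¹ :=
  eq_inv_of_mul_eq_one_left (by rw [← h.add, neg_add_cancel, h.j0])
theorem Jm.j3 (h : Jm j) (v : V) : j v ^ 3 = 1 := by
  rw [pow_succ, pow_two, ← h.add, ← h.add, three_smul, h.j0]
theorem Jm.jpow (h : Jm j) (v : V) (k : F3) : j v ^ k.val = j (k • v) := by
  rcases f3_cases k with rfl | rfl | rfl
  · rw [zero_smul, h.j0]; exact pow_zero _
  · rw [one_smul]; exact pow_one _
  · rw [two_smul, h.add]; exact pow_two _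
theorem Jm.jc (h : Jm j) (u v : V) : j u * j v = j v * j u := by rw [← h.add, add_comm, h.add]
theorem Jm.jinj (h : Jm j) {u v : V} (e : j u = j v) : u = v :=
  sub_eq_zero.1 (h.inj _ (by rw [sub_eq_add_neg, h.add, h.jneg, e, mul_inv_cancel]))
theorem Jm.jne (h : Jm j) {v : V} (hv : v ≠ 0) : j v ≠ 1 := fun e => hv (h.inj v e)
theorem Jm.mem_zp (h : Jm j) {v : V} {g : G} : g ∈ zpowers (j v) ↔ ∃ k : F3, g = j (k • v) := by
  rw [H87.U6.mem_zp (h.j3 v)]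
  simp only [h.jpow]

theorem Jm.exJ (h : Jm j) : ∃ J : Subgroup G, (∀ g, g ∈ J ↔ ∃ v, g = j v) ∧ Nat.card J = 81 ∧
    ∀ g, g ∈ normalizer (J : Set G) ↔ NJ j g := by
  let φ : Multiplicative V →* G := MonoidHom.mk' (fun v => j v.toAdd) fun u v => h.add _ _
  have m : ∀ g, g ∈ φ.range ↔ ∃ v, g = j v := fun g =>
    ⟨fun ⟨v, e⟩ => ⟨_, e.symm⟩, fun ⟨v, e⟩ => ⟨Multiplicative.ofAdd v, e.symm⟩⟩
  refine ⟨φ.range, m, ?_, fun g => ⟨fun hg v => (m _).1 (H87.U6.cjn hg ((m _).2 ⟨v, rfl⟩)), fun hg =>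
    H87.U6.nrm fun x hx => ?_⟩⟩
  · rw [← Nat.card_congr (MonoidHom.ofInjective (f := φ) fun u v e => h.jinj e).toEquiv]
    simp [Nat.card_eq_fintype_card]
  · obtain ⟨v, rfl⟩ := (m _).1 hx
    exact (m _).2 (hg v)

theorem Jm.cm2 (h : Jm j) {g : G} {u v : V} (w : V) (c1 : g * j u = j u * g) (c2 : g * j v = j v * g)
    (e : ∃ k l : F3, w = k • u + l • v) : g * j w = j w * g := by
  obtain ⟨k, l, rfl⟩ := e
  rw [h.add, ← h.jpow, ← h.jpow]
  exact (cm_mul (cm_pow c1.symm _) (cm_pow c2.symm _)).symm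

theorem Jm.cm3 (h : Jm j) {g : G} {u v x : V} (w : V) (c1 : g * j u = j u * g) (c2 : g * j v = j v * g)
    (c3 : g * j x = j x * g) (e : ∃ k l m : F3, w = k • u + l • v + m • x) : g * j w = j w * g := by
  obtain ⟨k, l, m, rfl⟩ := e
  rw [h.add, h.add, ← h.jpow, ← h.jpow, ← h.jpow]
  exact (cm_mul (cm_mul (cm_pow c1.symm _) (cm_pow c2.symm _)) (cm_pow c3.symm _)).symm

theorem Jm.nm3 (h : Jm j) {X : Subgroup G} (n2 : Nm (j e2) X) (n3 : Nm (j e3) X)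
    (n4 : Nm (j e4) X) (y : X3) : Nm (j (0, y)) X := by
  rw [show ((0, y) : V) = y.1 • e2 + y.2.1 • e3 + y.2.2 • e4 by simp, h.add, h.add, ← h.jpow, ← h.jpow,
    ← h.jpow]
  exact ((n2.pow _).mul (n3.pow _)).mul (n4.pow _)

theorem Jm.nm4 (h : Jm j) {X : Subgroup G} (n1 : Nm (j e1) X) (n2 : Nm (j e2) X) (n3 : Nm (j e3) X)
    (n4 : Nm (j e4) X) (v : V) : Nm (j v) X := by
  rw [vsp v, h.add, ← h.jpow]
  exact (n1.pow _).mul (h.nm3 n2 n3 n4 _)

theorem Jm.rk (h : Jm j) (H : Rk3 G) {X : Subgroup G} (hX : IsPGroup 2 X) (n : ∀ v, Nm (j v) X) :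
    X = ⊥ := by
  obtain ⟨J, m, c, -⟩ := h.exJ
  by_contra e
  have := H X J hX e (fun a ha => by obtain ⟨v, rfl⟩ := (m a).1 ha; exact n v)
    (fun a ha a' ha' => by
      obtain ⟨v, rfl⟩ := (m a).1 ha
      obtain ⟨w, rfl⟩ := (m a').1 ha'
      exact h.jc v w) fun a ha => by obtain ⟨v, rfl⟩ := (m a).1 ha; exact h.j3 v
  omega

theorem Jm.nj_ac (_h : Jm j) {n : G} (hn : NJ j n) : ∃ N, Ac j n N := by
  choose N e using hn
  exact ⟨N, e⟩

theorem Jm.lin (h : Jm j) {n : G} {N : V → V} (a : Ac j n N) : Lin N :=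
  ⟨fun u v => h.jinj (by rw [h.add, ← a, ← a, ← a, h.add, conj_mul]), fun v e => h.inj _ (by
    have := a v
    rwa [e, h.j0, conj_eq_one_iff] at this)⟩

theorem Lin.zero {N : V → V} (h : Lin N) : N 0 = 0 := by simpa using h.1 0 0

theorem Lin.neg {N : V → V} (h : Lin N) (v : V) : N (-v) = -N v :=
  eq_neg_of_add_eq_zero_left (by rw [← h.1, neg_add_cancel, h.zero])

theorem Lin.smul {N : V → V} (h : Lin N) (k : F3) (v : V) : N (k • v) = k • N v := by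
  rcases f3_cases k with rfl | rfl | rfl
  · rw [zero_smul, zero_smul, h.zero]
  · rw [one_smul, one_smul]
  · rw [two_smul, two_smul, h.1]

theorem Lin.inj {N : V → V} (h : Lin N) : Function.Injective N := fun u v e =>
  sub_eq_zero.1 (h.2 _ (by rw [sub_eq_add_neg, h.1, h.neg, e, add_neg_cancel]))

theorem Lin.inv {N : V → V} (h : Lin N) : ∃ M : V → V, (∀ v, M (N v) = v) ∧ ∀ v, N (M v) = v :=
  Function.bijective_iff_has_inverse.1 (Finite.injective_iff_bijective.1 h.inj)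

theorem Jm.ac_inv (h : Jm j) {n : G} {N : V → V} (a : Ac j n N) :
    ∃ M, Ac j n⁻¹ M ∧ (∀ v, M (N v) = v) ∧ ∀ v, N (M v) = v := by
  obtain ⟨M, h1, h2⟩ := (h.lin a).inv
  exact ⟨M, fun v => by rw [← h2 v, ← a, h1]; group, h1, h2⟩

theorem Ac.nj {n : G} {N : V → V} (a : Ac j n N) : NJ j n := fun v => ⟨_, a v⟩

theorem Jm.nj_inv (h : Jm j) {n : G} (hn : NJ j n) : NJ j n⁻¹ := by
  obtain ⟨N, a⟩ := h.nj_ac hn
  obtain ⟨M, a', -⟩ := h.ac_inv a
  exact a'.nj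

theorem Jm.comp (h : Jm j) {N : V → V} (hN : Lin N) : Jm fun v => j (N v) :=
  ⟨fun u v => by rw [hN.1, h.add], fun v e => hN.2 v (h.inj _ e)⟩

/-- `n` acts as `lin a b c d` as soon as it does so on the basis -/
theorem Jm.ac_lin (h : Jm j) {n : G} {a c d e : V} (h1 : n * j e1 * n⁻¹ = j a) (h2 : n * j e2 * n⁻¹ = j c)
    (h3 : n * j e3 * n⁻¹ = j d) (h4 : n * j e4 * n⁻¹ = j e) : Ac j n (H87.U6.lin a c d e) := fun v => by
  have e1' : v = v.1 • e1 + v.2.1 • e2 + v.2.2.1 • e3 + v.2.2.2 • e4 := by simp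
  have e2' : H87.U6.lin a c d e v = v.1 • a + v.2.1 • c + v.2.2.1 • d + v.2.2.2 • e := rfl
  rw [e2']
  conv_lhs => rw [e1']
  simp only [h.add, ← h.jpow, ← h1, ← h2, ← h3, ← h4, conj_pow, conj_mul]

theorem Ac.mul {m n : G} {M N : V → V} (a : Ac j m M) (c : Ac j n N) :
    Ac j (m * n) fun v => M (N v) := fun v => by rw [← a, ← c]; group

theorem Ac.congr {n : G} {M N : V → V} (a : Ac j n M) (e : ∀ v, M v = N v) : Ac j n N :=
  fun v => by rw [a, e]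

theorem Ac.cm {n : G} {N : V → V} (a : Ac j n N) {v : V} (e : N v = v) : n * j v = j v * n :=
  cm_cj.2 (by rw [a, e])

theorem Lin.eq {N : V → V} (h : Lin N) (v : V) : N v = lin (N e1) (N e2) (N e3) (N e4) v :=
  add_lin h.1 v

theorem Ch0.wv (h : Ch0 j θ D) (y : X3) : θ (wv y) = j (0, y) := by
  rw [F42.wv, map_mul, map_mul, map_pow, map_pow, map_pow, h.w0, h.w1, h.w2, h.jm.jpow, h.jm.jpow,
    h.jm.jpow, ← h.add, ← h.add]
  congr 1
  simp

theorem Ch0.w (h : Ch0 j θ D) (i : Fin 3) : θ (ww i) = j (E3 i) := by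
  fin_cases i
  exacts [h.w0, h.w1, h.w2]

theorem Ch0.split (h : Ch0 j θ D) (v : V) : j v = j (v.1, 0, 0, 0) * θ (F42.wv v.2) := by
  rw [h.wv, ← h.add, ← vsp']

theorem Ch0.ck (h : Ch0 j θ D) {g : G} (c : g * j e1 = j e1 * g) (k : F3) :
    g * j (k, 0, 0, 0) = j (k, 0, 0, 0) * g := h.jm.cm2 _ c c ⟨k, 0, by simp⟩

theorem Ch0.Dj (h : Ch0 j θ D) {d : G} (hd : d ∈ D) (v : V) : d * j v = j v * d := by
  rw [h.split]
  exact (cm_mul (h.ck (h.Dy d hd) _).symm (h.Dθ d hd _).symm).symm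

theorem Ch0.cj_dec (h : Ch0 j θ D) (k : F3) (x : Sp) {d : G} (hd : d ∈ D) (v : V) :
    j (k, 0, 0, 0) * θ x * d * j v * (j (k, 0, 0, 0) * θ x * d)⁻¹ = θ x * j v * (θ x)⁻¹ := by
  calc _ = j (k, 0, 0, 0) * θ x * (d * j v * d⁻¹) * (θ x)⁻¹ * (j (k, 0, 0, 0))⁻¹ := by group
    _ = θ x * (j (k, 0, 0, 0) * j v * (j (k, 0, 0, 0))⁻¹) * (θ x)⁻¹ := by
      rw [cm_cj.1 (h.Dj hd v), ← h.ck (h.cy x), mul_assoc _ (θ x)⁻¹, ← mul_inv_rev, ← h.ck (h.cy x)]
      group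
    _ = _ := by rw [cm_cj.1 (h.jm.jc _ _)]

theorem Ch0.cJ (h : Ch0 j θ D) {g : G} (c : ∀ v, g * j v = j v * g) : ∃ v, ∃ d ∈ D, g = j v * d := by
  obtain ⟨k, x, d, hd, rfl⟩ := h.dec g (c _)
  have a : ∀ i, x * ww i = ww i * x := fun i => h.θi (by
    rw [map_mul, map_mul, h.w]
    exact cm_cj.2 ((h.cj_dec k x hd _).symm.trans (cm_cj.1 (c _))))
  obtain ⟨y, rfl⟩ := MD2.cwv x (a 0) (a 1) (a 2)
  exact ⟨(k, y), d, hd, by rw [h.split (k, y)]⟩

theorem Ch0.cJ3 (h : Ch0 j θ D) {g : G} (c : ∀ v, g * j v = j v * g) {k : ℕ} (e : g ^ 3 ^ k = 1) :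
    ∃ v, g = j v := by
  obtain ⟨v, d, hd, rfl⟩ := h.cJ c
  have : (j v * d) ^ 3 ^ (k + 1) = 1 := by rw [pow_succ, pow_mul, e, one_pow]
  rw [Commute.mul_pow (h.Dj hd v).symm, pow_succ', pow_mul, h.jm.j3, one_pow, one_mul, ← pow_succ'] at this
  exact ⟨v, by rw [H87.U6.eq_one_of_cop h.cop hd this, mul_one]⟩

theorem Ch0.nD (h : Ch0 j θ D) {n : G} (hn : NJ j n) : Nm n D := fun d hd => by
  obtain ⟨v, d', hd', e⟩ := h.cJ (g := n * d * n⁻¹) fun v => by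
    obtain ⟨w, hw⟩ := h.jm.nj_inv hn v
    have : j v = n * j w * n⁻¹ := by rw [← hw]; group
    rw [this]
    exact cm_conj (h.Dj hd w) n
  have p : ∀ x ∈ D, x ^ Nat.card D = 1 := fun x hx => congrArg Subtype.val (pow_card_eq_one' (x := (⟨x, hx⟩ : D)))
  have : j v ^ Nat.card D = 1 := by
    have := congrArg (· ^ Nat.card D) e
    simp only [conj_pow, p d hd, Commute.mul_pow (h.Dj hd' v).symm, p d' hd'] at this
    simpa using this.symm
  rw [e, orderOf_eq_one_iff.1 (Nat.eq_one_of_dvd_coprimes h.cop (orderOf_dvd_of_pow_eq_one this)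
    (orderOf_dvd_of_pow_eq_one (h.jm.j3 v))), one_mul]
  exact hd'

theorem Ch0.acx (h : Ch0 j θ D) {x : Sp} {v : V} {y : X3} (e : x * F42.wv v.2 * x⁻¹ = F42.wv y) :
    θ x * j v * (θ x)⁻¹ = j (v.1, y) := by
  rw [h.split v, h.split (v.1, y), ← e, ← mul_assoc, h.ck (h.cy x), map_mul, map_mul, map_inv]
  group

theorem Ch0.acT (h : Ch0 j θ D) (i : Fin 3) : Ac j (θ (TT i)) (rf (E3 i)) := fun v => by
  fin_cases i
  · exact (h.acx (MD2.c_t0 _)).trans (congrArg j (by revert v; decide +kernel))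
  · exact (h.acx (MD2.c_t1 _)).trans (congrArg j (by revert v; decide +kernel))
  · exact (h.acx (MD2.c_t2 _)).trans (congrArg j (by revert v; decide +kernel))

theorem Ch0.ac01 (h : Ch0 j θ D) : Ac j (θ P01) (rf (0, 1, -1, 0)) := fun v =>
  (h.acx (MD2.rz_of (σ := MD2.s01) P01 (by simp only [MD2.A_p01]; decide +kernel) _)).trans
    (congrArg j (by revert v; decide +kernel))

theorem Ch0.ac12 (h : Ch0 j θ D) : Ac j (θ P12) (rf (0, 0, 1, -1)) := fun v =>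
  (h.acx (MD2.rz_of (σ := MD2.s12) P12 (by simp only [MD2.A_p12]; decide +kernel) _)).trans
    (congrArg j (by revert v; decide +kernel))

theorem Ch0.acW (h : Ch0 j θ D) {N : V → V} (hN : W0 N) : ∃ x, Ac j (θ x) N := by
  obtain ⟨x, e⟩ := w0x N hN
  refine ⟨x, fun v => (h.acx (e v.2).2).trans (congrArg j ?_)⟩
  conv_rhs => rw [vsp v, hN.1.1, hN.1.smul, hN.2.1]
  exact Prod.ext (by simp [(e v.2).1]) (by simp)

theorem Ch0.jθ (h : Ch0 j θ D) {k : F3} {x : Sp} (e : j (k, 0, 0, 0) = θ x) : k = 0 := by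
  have c : ∀ y, x * y = y * x := fun y => h.θi (by rw [map_mul, map_mul, ← e, h.ck (h.cy y)])
  rw [mod2 x (c _) (c _) (c _) (c _), map_one] at e
  exact congrArg Prod.fst (h.inj _ e)

theorem Ch0.ws (h : Ch0 j θ D) : WS {N | ∃ n, Ac j n N} := by
  refine ⟨fun N ⟨n, a⟩ => h.jm.lin a, fun M ⟨m, a⟩ N ⟨n, c⟩ => ⟨_, a.mul c⟩, fun N ⟨n, a⟩ => ?_,
    fun N hN => (h.acW hN).elim fun x a => ⟨_, a⟩, fun N ⟨n, a⟩ e => ?_⟩
  · obtain ⟨M, a', e⟩ := h.jm.ac_inv a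
    exact ⟨M, ⟨_, a'⟩, e⟩
  obtain ⟨k, x, d, hd, rfl⟩ := h.dec n (a.cm e)
  have a1 : ∀ y : X3, θ (x * F42.wv y * x⁻¹) = j (N (0, y)) := fun y => by
    rw [← a, h.cj_dec k x hd, map_mul, map_mul, map_inv, h.wv]
  obtain ⟨N', hN', e'⟩ := nwv x fun y => ⟨(N (0, y)).2, h.θi (by
    have := (a1 y).trans (h.split _)
    rw [← mul_inv_eq_iff_eq_mul, ← map_inv, ← map_mul] at this
    rw [a1, h.wv]
    exact congrArg j (Prod.ext (h.jθ this.symm) rfl))⟩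
  have k : ∀ y : X3, N (0, y) = N' (0, y) := fun y => h.jm.jinj (by
    rw [← a1, (e' y).2, h.wv]
    exact congrArg j (Prod.ext (e' y).1.symm rfl))
  exact ⟨h.jm.lin a, e, (k (1, 0, 0)).symm ▸ hN'.2.2.1, (k (0, 1, 0)).symm ▸ hN'.2.2.2.1,
    (k (0, 0, 1)).symm ▸ hN'.2.2.2.2⟩

theorem Ch0.cj (h : Ch0 j θ D) {n : G} {N : V → V} (a : Ac j n N) :
    Ch0 (fun v => j (N v)) (θc n θ) D := by
  have m := h.jm.comp (h.jm.lin a)
  refine ⟨m.add, m.inj, (MulAut.conj n).injective.comp h.θi, fun x => ?_, ?_, ?_, ?_, h.cop,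
    fun d hd x => ?_, fun d hd => h.Dj hd _, fun g c => ?_⟩
  · rw [θc_apply, ← a]; exact cm_conj (h.cy x) n
  · rw [θc_apply, ← a, h.w0]
  · rw [θc_apply, ← a, h.w1]
  · rw [θc_apply, ← a, h.w2]
  · have := cm_conj (h.Dθ _ ((h.nD a.nj).inv d hd) x) n
    rwa [show n * (n⁻¹ * d * n⁻¹⁻¹) * n⁻¹ = d by group] at this
  · obtain ⟨k, x, d, hd, e⟩ := h.dec (n⁻¹ * g * n) (by
      have := cm_conj c n⁻¹
      rwa [← a, show n⁻¹ * (n * j e1 * n⁻¹) * n⁻¹⁻¹ = j e1 by group, inv_inv] at this)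
    exact ⟨k, x, _, h.nD a.nj d hd, by rw [θc_apply, ← a, conj_mul, conj_mul, ← e]; group⟩

theorem Ch.cj (h : Ch j θ D) {n : G} {N : V → V} (a : Ac j n N) :
    Ch (fun v => j (N v)) (θc n θ) D := ⟨h.toCh0.cj a, h.odd⟩

theorem Ch.mem2 (h : Ch j θ D) {g : G} (c : g * j e1 = j e1 * g) {k : ℕ} (e : g ^ 2 ^ k = 1) :
    ∃ x, g = θ x := by
  obtain ⟨l, x, d, hd, e'⟩ := h.dec g c
  have p : d ^ Nat.card D = 1 := congrArg Subtype.val (pow_card_eq_one' (x := (⟨d, hd⟩ : D)))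
  have m : g ^ (3 * Nat.card D) ∈ θ.range := ⟨x ^ (3 * Nat.card D), by
    rw [e', Commute.mul_pow (cm_mul (h.toCh0.Dj hd _).symm (h.Dθ d hd x).symm),
      Commute.mul_pow (h.toCh0.ck (h.cy x) l).symm, pow_mul (j _), h.toCh0.jm.j3, mul_comm 3, pow_mul d, p,
      map_pow]
    simp⟩
  have : g ∈ zpowers (g ^ (3 * Nat.card D)) := mem_zpowers_pow_iff.2 (Nat.Coprime.coprime_dvd_right
    (orderOf_dvd_of_pow_eq_one e) (Nat.Coprime.pow_right k
      (Nat.Coprime.mul_left (by decide) (Nat.coprime_two_right.2 h.odd))))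
  obtain ⟨y, hy⟩ := zpowers_le.2 m this
  exact ⟨y, hy.symm⟩

theorem inv_gen (K : Subgroup Sp) (h : ∀ x, x * x = 1 → x ∈ K) (x : Sp) : x ∈ K := by
  have a : ∀ y ∈ S4, y ∈ K.comap (MulAut.conj kk).toMonoidHom :=
    S4_geni _ fun y _ y2 => h (kk * y * kk⁻¹) (by rw [conj_mul, y2, mul_one, mul_inv_cancel])
  rw [gen44 K (S4_geni _ fun y _ y2 => h y y2) a]
  trivial

theorem Ch.cL (h : Ch j θ D) {r : G} (r2 : r * r = 1) (a : Ac j r (rf e1)) (x : Sp) :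
    r * θ x = θ x * r := by
  obtain ⟨-, -, t2, -, tw, tw', -⟩ := sp_rel
  have i2 : ∀ y : Sp, y * y = 1 → r * θ y * r⁻¹ ∈ θ.range := fun y y2 => by
    obtain ⟨z, hz⟩ := h.mem2 (g := r * θ y * r⁻¹) (k := 1) (by
      have := cm_inv (cm_conj (h.cy y) r).symm
      rw [a, ← h.toCh0.jm.jneg, show -rf e1 e1 = e1 by decide] at this
      exact this.symm) (by rw [pow_one, pow_two, conj_mul, ← map_mul, y2, map_one]; group)
    exact ⟨z, hz.symm⟩
  have al : ∀ y, θc r θ y ∈ θ.range := inv_gen (θ.range.comap (θc r θ)) i2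
  let α : Sp →* Sp := (MonoidHom.ofInjective h.θi).symm.toMonoidHom.comp ((θc r θ).codRestrict _ al)
  have hα : ∀ y, θ (α y) = r * θ y * r⁻¹ := fun y => MonoidHom.apply_ofInjective_symm h.θi _
  have hw : ∀ i, α (ww i) = ww i := fun i => h.θi (by
    rw [hα, h.toCh0.w, a]; exact congrArg j (by revert i; decide))
  have αα : ∀ y, α (α y) = y := fun y => h.θi (by
    rw [hα, hα, inv_eq_of_mul_eq_one_right r2]
    calc _ = r * r * θ y * (r * r) := by group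
      _ = _ := by rw [r2]; group)
  refine cm_cj.2 ((hα x).symm.trans (congrArg θ (mod3 α hw (fun i => ?_) x)))
  rcases c12 i (x := α (TT i)) (by rw [← map_mul, t2, map_one])
    (fun k hk => by rw [← hw k, ← map_mul, tw' i k hk.symm, map_mul]) with e | ⟨n, e⟩
  · have := αα (TT i)
    rw [e, map_one] at this
    rw [e, ← this]
  · have := αα (TT i)
    rw [e, map_mul, map_pow, hw, e, mul_assoc, mul_eq_left, ← pow_add] at this
    have w3 : θ (ww i) ^ (n.val + n.val) = 1 := by rw [← map_pow, this, map_one]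
    rw [h.toCh0.w, pow_add, h.toCh0.jm.jpow, ← h.add] at w3
    have : n = 0 := (by decide : ∀ (n : F3) (i : Fin 3), n • E3 i + n • E3 i = 0 → n = 0) n i (h.inj _ w3)
    rw [e, this]
    exact mul_one _

/-- an element centralizing the monomial generators of `θ(S4)` centralizes `θ(S4)` -/
theorem lemP (i : Function.Injective θ) {p : G} (h1 : p * θ (ww 1) = θ (ww 1) * p)
    (h2 : p * θ (ww 2) = θ (ww 2) * p) (h3 : p * θ (TT 1) = θ (TT 1) * p)
    (h4 : p * θ (TT 2) = θ (TT 2) * p) (h5 : p * θ P12 = θ P12 * p) {c : Sp}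
    (hc : p * θ gC * p⁻¹ = θ c) (c0 : c * ww 0 = ww 0 * c) : ∀ x ∈ S4, p * θ x = θ x * p := by
  obtain ⟨-, -, -, -, -, -, -, -, -, -, -, -, -, -, -, -, -, -, g2, -, gA', gB', gT⟩ := sp_rel
  let K := (centralizer {p}).comap θ
  have m : ∀ {x}, x ∈ K ↔ p * θ x = θ x * p := fun {x} => mC.trans eq_comm
  have t : ∀ x ∈ K, gC * x = x * gC → c * x = x * c := fun x hx e => i (by
    have := cm_conj (congrArg θ e |> fun e => (map_mul θ _ _).symm.trans (e.trans (map_mul θ _ _))) p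
    rwa [hc, cm_cj.1 (m.1 hx), ← map_mul, ← map_mul] at this)
  have e : c = gC := mod4 c c0 (i (by rw [map_mul, ← hc, conj_mul, ← map_mul, g2, map_one]; group))
    (t _ (mul_mem (mul_mem (mul_mem (mul_mem (m.2 h3) (m.2 h5)) (m.2 h3)) (m.2 h1)) (m.2 h2)) gA')
    (t _ (mul_mem (mul_mem (m.2 h1) (inv_mem (m.2 h2))) (m.2 h5)) gB') (i (by
      rw [map_pow, map_mul, ← hc, ← cm_cj.1 h4, conj_mul, conj_pow, ← map_mul, ← map_pow, gT, map_one]
      group))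
  exact fun x hx => m.1 (S4_gen K (m.2 h1) (m.2 h2) (m.2 h3) (m.2 h4) (m.2 h5)
    (Or.inl (m.2 (cm_cj.2 (e ▸ hc)))) hx)

/-- the involution of case `O1` -/
theorem om0 (h : Ch j θ D) {a : G} (ha : Ac j a O1) : Ac j (θc a θ P12) (rf e1) := fun v => by
  obtain ⟨w, rfl, e⟩ := (by decide +kernel : ∀ v, ∃ w, O1 w = v ∧ O1 (rf (0, 0, 1, -1) w) = rf e1 v) v
  rw [← e]
  exact (h.cj ha).toCh0.ac12 w

end H29.S6
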