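import Cfsg.Agent.Lib.S6.Defs

/-! S6: the calculus of `H29.F42.F0` without control of fusion. -/

set_option autoImplicit false
set_option linter.unusedSectionVars false

namespace H29.S6

open Subgroup Cfsg H29.F42 H29.F42.CM
open H87.U6 (F3 V lin add_lin f3_cases pw_add pw_two)
open H75.L7 (Nm T Ch2 Rk3)

variable {G : Type*} [Group G] [Finite G] {j ρ : V → G} {τ : G}

theorem F1.j0 (h : F1 j τ ρ) : j 0 = 1 := by simpa using h.add 0 0

theorem F1.jneg (h : F1 j τ ρ) (v : V) : j (-v) = (j v)⁻¹ :=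
  eq_inv_of_mul_eq_one_left (by rw [← h.add, neg_add_cancel, h.j0])

theorem F1.j3 (h : F1 j τ ρ) (v : V) : j v ^ 3 = 1 := by
  rw [pow_succ, pow_two, ← h.add, ← h.add, three_smul, h.j0]

theorem F1.jpow (h : F1 j τ ρ) (v : V) (k : F3) : j v ^ k.val = j (k • v) := by
  rcases f3_cases k with rfl | rfl | rfl
  · rw [zero_smul, h.j0]; exact pow_zero _
  · rw [one_smul]; exact pow_one _
  · rw [two_smul, h.add]; exact pow_two _

theorem F1.jc (h : F1 j τ ρ) (u v : V) : j u * j v = j v * j u := by rw [← h.add, add_comm, h.add]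

theorem F1.jinj (h : F1 j τ ρ) {u v : V} (e : j u = j v) : u = v :=
  sub_eq_zero.1 (h.inj _ (by rw [sub_eq_add_neg, h.add, h.jneg, e, mul_inv_cancel]))

theorem F1.jne (h : F1 j τ ρ) {v : V} (hv : v ≠ 0) : j v ≠ 1 := fun e => hv (h.inj v e)

theorem F1.mem_zp (h : F1 j τ ρ) {v : V} {g : G} : g ∈ zpowers (j v) ↔ ∃ k : F3, g = j (k • v) := by
  rw [H87.U6.mem_zp (h.j3 v)]
  simp only [h.jpow]

theorem F1.nj_inv (h : F1 j τ ρ) {g : G} (hg : NJ j g) : NJ j g⁻¹ := fun v => by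
  obtain ⟨N, hN, e⟩ := h.sim g hg
  obtain ⟨M, -, -, h2⟩ := hN.inv
  exact ⟨M v, by rw [← h2 v, ← e, h2]; group⟩

theorem F1.nj_j (h : F1 j τ ρ) (v : V) : NJ j (j v) := fun w => ⟨w, by rw [h.jc]; group⟩

theorem F1.nj_ρ (h : F1 j τ ρ) {a : V} (ha : q a ≠ 0) : NJ j (ρ a) := fun w => ⟨_, h.ρj a ha w⟩

theorem F1.nj_τ (h : F1 j τ ρ) : NJ j τ := fun w => ⟨_, h.τj w⟩

theorem F1.exJ (h : F1 j τ ρ) : ∃ J : Subgroup G, (∀ g, g ∈ J ↔ ∃ v, g = j v) ∧ Nat.card J = 81 ∧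
    ∀ g, g ∈ normalizer (J : Set G) ↔ NJ j g := by
  let φ : Multiplicative V →* G := MonoidHom.mk' (fun v => j v.toAdd) fun u v => h.add _ _
  have m : ∀ g, g ∈ φ.range ↔ ∃ v, g = j v := fun g =>
    ⟨fun ⟨v, e⟩ => ⟨_, e.symm⟩, fun ⟨v, e⟩ => ⟨Multiplicative.ofAdd v, e.symm⟩⟩
  refine ⟨φ.range, m, ?_, fun g => ⟨fun hg v => (m _).1 (H87.U6.cjn hg ((m _).2 ⟨v, rfl⟩)), fun hg =>
    H87.U6.nrm fun x hx => ?_⟩⟩
  · rw [← Nat.card_congr (MonoidHom.ofInjective (f := φ) fun u v e => h.jinj e).toEquiv]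
    simp [Nat.card_eq_fintype_card]
  · obtain ⟨v, rfl⟩ := (m _).1 hx
    exact (m _).2 (hg v)

theorem F1.jτ (h : F1 j τ ρ) {v : V} (e : j v * τ = τ * j v) : v = 0 := by
  have := h.τj v
  rw [← e, mul_inv_cancel_right] at this
  exact (by decide +kernel : ∀ v : V, v = -v → v = 0) v (h.jinj this)

theorem F1.uq (h : F1 j τ ρ) {g k : G} (hg : g * τ = τ * g) (hk : k * τ = τ * k)
    (e : ∀ v, g * j v * g⁻¹ = k * j v * k⁻¹) : g = k := by
  obtain ⟨w, hw⟩ := h.cJ (k⁻¹ * g) fun v => by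
    calc k⁻¹ * g * j v = k⁻¹ * (g * j v * g⁻¹) * g := by group
      _ = _ := by rw [e]; group
  have := h.jτ (v := w) (hw ▸ H87.U6.cm_mul (H87.U6.cm_inv hk) hg)
  rw [this, h.j0] at hw
  exact (inv_mul_eq_one.1 hw).symm

theorem F1.exτ (h : F1 j τ ρ) {n : G} (hn : NJ j n) : ∃ w, j w * n * τ = τ * (j w * n) := by
  obtain ⟨N, hN, e⟩ := h.sim n hn
  obtain ⟨x, hx⟩ := h.cJ (τ * n * τ⁻¹ * n⁻¹) fun v => by
    obtain ⟨M, -, -, h2⟩ := hN.inv
    have a : τ⁻¹ * j (M v) * τ = j (-M v) := by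
      rw [← h.τj, inv_eq_of_mul_eq_one_right h.τ2]
    calc τ * n * τ⁻¹ * n⁻¹ * j v = τ * n * (τ⁻¹ * (n⁻¹ * j (N (M v)) * n) * τ) * τ⁻¹ * n⁻¹ := by
          rw [h2]; group
      _ = τ * (n * j (-M v) * n⁻¹) * τ⁻¹ * (τ * n * τ⁻¹ * n⁻¹) := by
          rw [← e, ← a]; group
      _ = _ := by rw [e, h.τj, hN.neg, neg_neg, h2]
  refine ⟨-x, ?_⟩
  have a : τ * n = j x * n * τ := by rw [← hx]; group
  calc j (-x) * n * τ = j (- -x) * j x * n * τ := by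
        rw [← h.add, (by decide +kernel : ∀ x : V, - -x + x = -x)]
    _ = τ * j (-x) * τ⁻¹ * (τ * n) := by rw [h.τj, a]; group
    _ = _ := by group

theorem F1.ρcj (h : F1 j τ ρ) {n : G} {N : V → V} (hN : Sim N) (hn : n * τ = τ * n)
    (e : ∀ v, n * j v * n⁻¹ = j (N v)) {a : V} (ha : q a ≠ 0) : n * ρ a * n⁻¹ = ρ (N a) := by
  have ha' := (hN.q0 a).not.2 ha
  refine h.uq (H87.U6.cm_mul (H87.U6.cm_mul hn (h.ρτ a ha)) (H87.U6.cm_inv hn)) (h.ρτ _ ha') fun v => ?_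
  obtain ⟨M, -, -, h2⟩ := hN.inv
  rw [← h2 v, h.ρj _ ha', ← hN.rf, ← e, ← e, ← h.ρj a ha]
  group

theorem F1.ρρ (h : F1 j τ ρ) {a c : V} (ha : q a ≠ 0) (hc : q c ≠ 0) :
    ρ a * ρ c * (ρ a)⁻¹ = ρ (rf a c) := h.ρcj (sim_rf a) (h.ρτ a ha) (h.ρj a ha) hc

theorem F1.ρneg (h : F1 j τ ρ) {a : V} (ha : q a ≠ 0) : ρ (-a) = ρ a :=
  h.uq (h.ρτ _ (by rwa [q_neg])) (h.ρτ a ha) fun v => by
    rw [h.ρj _ (by rwa [q_neg]), h.ρj a ha, rf_neg]

theorem F1.ρc (h : F1 j τ ρ) {a v : V} (ha : q a ≠ 0) (e : b a v = 0) : ρ a * j v = j v * ρ a :=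
  H87.U6.cm_cj.2 (by rw [h.ρj a ha, rf_of a v e])

theorem F1.ρcρ (h : F1 j τ ρ) {a c : V} (ha : q a ≠ 0) (hc : q c ≠ 0) (e : b a c = 0) :
    ρ a * ρ c = ρ c * ρ a := H87.U6.cm_cj.2 (by rw [h.ρρ ha hc, rf_of a c e])

theorem F1.ρinv (h : F1 j τ ρ) {a : V} (ha : q a ≠ 0) : (ρ a)⁻¹ = ρ a :=
  inv_eq_of_mul_eq_one_right (h.ρ2 a ha)

theorem F1.ρ1 (h : F1 j τ ρ) {a : V} (ha : q a ≠ 0) : ρ a ≠ 1 := fun e => by
  have := h.ρj a ha a
  rw [e, one_mul, inv_one, mul_one, rf_self a ha] at this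
  exact ha ((by decide +kernel : ∀ v : V, v = -v → q v = 0) a (h.jinj this))

theorem F1.nj_cent (h : F1 j τ ρ) {K : Subgroup G} (hK : (Nat.card K).Coprime 3) {k : G} (hk : k ∈ K)
    (hn : NJ j k) {v : V} (e : j v * k * (j v)⁻¹ ∈ K) : k * j v = j v * k := by
  obtain ⟨w, hw⟩ := hn (-v)
  have a : j v * k * (j v)⁻¹ * k⁻¹ = j (v + w) := by rw [h.add, ← hw, h.jneg]; group
  have := H87.U6.eq_one_of_cop hK (n := 1) (mul_mem e (inv_mem hk)) (by rw [a, pow_one, h.j3])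
  rw [mul_inv_eq_one, mul_inv_eq_iff_eq_mul] at this
  exact this.symm

theorem F1.comp (h : F1 j τ ρ) {N : V → V} (hN : Sim N) :
    F1 (fun v => j (N v)) τ (fun v => ρ (N v)) := by
  obtain ⟨M, hM, h1, h2⟩ := hN.inv
  have nj : ∀ n, NJ (fun v => j (N v)) n ↔ NJ j n := fun n =>
    ⟨fun hn v => (hn (M v)).elim fun w e => ⟨_, by simpa only [h2] using e⟩,
      fun hn v => (hn (N v)).elim fun w e => ⟨M w, by simpa only [h2] using e⟩⟩
  refine ⟨fun u v => by rw [hN.1, h.add], fun v e => hN.inj ((h.inj _ e).trans hN.zero.symm),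
    fun g hg => ?_, h.τ2, fun v => by rw [h.τj, hN.neg], fun a ha => h.ρ2 _ ((hN.q0 a).not.2 ha),
    fun a ha => h.ρτ _ ((hN.q0 a).not.2 ha), fun a ha v => by rw [h.ρj _ ((hN.q0 a).not.2 ha), hN.rf],
    fun n hn => ?_⟩
  · obtain ⟨v, e⟩ := h.cJ g fun v => by simpa only [h2] using hg (M v)
    exact ⟨M v, by rw [h2, e]⟩
  · obtain ⟨L, hL, e⟩ := h.sim n ((nj n).1 hn)
    exact ⟨_, hM.comp (hL.comp hN), fun v => by rw [e, h2]⟩

theorem F1.smem {θ : Sp →* G} (h : F1 j τ ρ) (s : Std j ρ θ) {g : G} (c : g * j e1 = j e1 * g) {n : ℕ}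
    (hn : n.Coprime 3) (e : g ^ n = 1) : ∃ x, g = θ x := by
  obtain ⟨k, x, rfl⟩ := s.dec g c
  have a : ((k, 0, 0, 0) : V) = k • e1 := by simp
  have cm : Commute (j (k, 0, 0, 0)) (θ x) := by
    rw [a, ← h.jpow]; exact (show Commute (θ x) (j e1) from s.cy x).symm.pow_left _
  have r : ρ e1 * j (k, 0, 0, 0) * (ρ e1)⁻¹ = (j (k, 0, 0, 0))⁻¹ := by
    rw [h.ρj _ (by decide), ← h.jneg, (by decide +kernel : ∀ k : F3, rf e1 (k, 0, 0, 0) = -(k, 0, 0, 0))]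
  rw [cm.mul_pow] at e
  have e' : (j (k, 0, 0, 0))⁻¹ ^ n * θ x ^ n = 1 := by
    rw [← r, ← H87.U6.cm_cj.1 (s.cρ x).symm, conj_pow, conj_pow]
    calc _ = ρ e1 * (j (k, 0, 0, 0) ^ n * θ x ^ n) * (ρ e1)⁻¹ := by group
      _ = 1 := by rw [e]; group
  have o : j (k, 0, 0, 0) ^ (2 * n) = 1 := by
    have := mul_right_cancel (e.trans e'.symm)
    rw [inv_pow] at this
    rw [two_mul, pow_add]
    exact mul_eq_one_iff_eq_inv.2 this
  have := orderOf_dvd_of_pow_eq_one o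
  have o3 := orderOf_dvd_of_pow_eq_one (h.j3 (k, 0, 0, 0))
  rw [orderOf_eq_one_iff.1 (Nat.eq_one_of_dvd_coprimes (Nat.Coprime.mul_left (by decide) hn) this o3), one_mul]
  exact ⟨x, rfl⟩

theorem F1.swv {θ : Sp →* G} (h : F1 j τ ρ) (s : Std j ρ θ) (x : F3 × F3 × F3) :
    θ (wv x) = j (0, x.1, x.2.1, x.2.2) := by
  rw [F42.wv, map_mul, map_mul, map_pow, map_pow, map_pow, s.w0, s.w1, s.w2, h.jpow, h.jpow, h.jpow,
    ← h.add, ← h.add]
  simp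

theorem F1.sgcomp {N : V → V} (hN : Sim N) {a a' : V} {F : Subgroup G} (f : F1 j τ ρ)
    (h : SG (fun v => j (N v)) (fun v => ρ (N v)) a F) (e : q a' ≠ 0 ∧ (N a = a' ∨ N a = -a')) :
    SG j ρ a' F := by
  obtain ⟨M, hM, h1, h2⟩ := hN.inv
  have r : ρ (N a) = ρ a' := e.2.elim (congrArg ρ) fun e' => by rw [e', f.ρneg e.1]
  refine ⟨h.cop, fun k hk => r ▸ h.c k hk, fun v hv => ?_⟩
  have := h.n (M v) ((hN.b0 _ _).1 (by
    rw [h2]
    rcases e.2 with e' | e' <;> rw [e']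
    · exact hv
    · rw [b_comm, ← neg_one_smul F3 a', b_smul, b_comm, hv, mul_zero]))
  simpa only [h2] using this

theorem Fm.comp (h : Fm j τ ρ) {N : V → V} (hN : Sim N) (e : ∀ v, q (N v) = q v) :
    Fm (fun v => j (N v)) τ (fun v => ρ (N v)) :=
  ⟨h.toF1.comp hN, h.ch, h.rk, fun M hM k => h.all _ (hN.comp hM) ((e _).trans k),
    fun g v w k c => (h.fusb g _ _ ((e v).trans k) c).imp fun n a => ⟨(hN.nj n).2 a.1, a.2⟩⟩

/-- a chart at a long vector: an element of order prime to three commuting with `j (N e1)` -/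
theorem F1.mem' (f : F1 j τ ρ) {N : V → V} (hN : Sim N) {θ : Sp →* G}
    (s : Std (fun v => j (N v)) (fun v => ρ (N v)) θ) {g : G} {n : ℕ} (hn : n.Coprime 3) (e : g ^ n = 1)
    {a : V} (c : g * j a = j a * g) (ea : N e1 = a) : ∃ x, g = θ x :=
  (f.comp hN).smem s (by rwa [ea]) hn e

theorem F1.cm2 (f : F1 j τ ρ) {g : G} {u v : V} (w : V) (c1 : g * j u = j u * g)
    (c2 : g * j v = j v * g) (e : ∃ k l : F3, w = k • u + l • v) : g * j w = j w * g := by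
  obtain ⟨k, l, rfl⟩ := e
  rw [f.add, ← f.jpow, ← f.jpow]
  exact (H87.U6.cm_mul (H87.U6.cm_pow c1.symm _) (H87.U6.cm_pow c2.symm _)).symm

theorem F1.rel (f : F1 j τ ρ) : Rel (ρ e1) (fun i => j (E3 i)) (fun i => ρ (E3 i)) (ρ (0, 1, -1, 0))
    (ρ (0, 0, 1, -1)) := by
  have q3 : ∀ i, q (E3 i) ≠ 0 := by decide
  refine ⟨f.ρ2 _ (by decide), f.ρ1 (by decide), fun i => (f.ρc (by decide) (by revert i; decide)).symm,
    fun i => f.ρcρ (q3 i) (by decide) (by revert i; decide), f.ρcρ (by decide) (by decide) (by decide),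
    f.ρcρ (by decide) (by decide) (by decide), fun i => f.j3 _, fun i k => f.jc _ _,
    fun i => f.ρ2 _ (q3 i), fun i => by rw [f.ρj _ (q3 i), rf_self _ (q3 i), f.jneg],
    fun i k h => f.ρc (q3 i) (by revert i k; decide), f.ρ2 _ (by decide), f.ρ2 _ (by decide),
    (f.ρj _ (by decide) _).trans (congrArg j (by decide)), f.ρc (by decide) (by decide),
    (f.ρρ (by decide) (by decide)).trans (congrArg ρ (by decide)),
    (f.ρj _ (by decide) _).trans (congrArg j (by decide)), f.ρc (by decide) (by decide),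
    (f.ρρ (by decide) (by decide)).trans (congrArg ρ (by decide))⟩

end H29.S6
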