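import Cfsg.Agent.Lib.S6.Bas
import Cfsg.Agent.Lib.S6.WC

/-! S6, package CF (see blueprint/S6/README.md). -/

set_option autoImplicit false
set_option linter.unusedSectionVars false

namespace H29.S6

open Subgroup Cfsg H29.F42
open H87.U6 (F3 V lin)
open H75.L7 (Nm T Ch2 Rk3)

variable {G : Type*} [Group G] [Finite G] {j ρ : V → G} {τ : G} {θ θ' : Sp →* G} {D : Subgroup G}

namespace CF

open H87.U6 (cm_cj cm_mul cm_inv cm_pow)

theorem mp {f : Sp →* G} {x y : Sp} (e : x * y = y * x) : f x * f y = f y * f x := by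
  rw [← map_mul, e, map_mul]

theorem mi {f : Sp →* G} (i : Function.Injective f) {x y : Sp} (e : f x * f y = f y * f x) :
    x * y = y * x := i (by rw [map_mul, e, map_mul])

theorem cjt {X : Type*} [Group X] {t w : X} (h : t * w * t⁻¹ = w⁻¹) (h3 : w ^ 3 = 1) (n : ℕ) :
    (w ^ n)⁻¹ * (t * w ^ n) * w ^ n = t := by
  have e : (w ^ n)⁻¹ * t = t * w ^ n := by
    rw [← inv_pow, ← h, conj_pow, inv_mul_cancel_right]
  have e3 : w ^ n * w ^ n * w ^ n = 1 := by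
    rw [← pow_add, ← pow_add, show n + n + n = 3 * n by ring, pow_mul, h3, one_pow]
  rw [← mul_assoc, e, mul_assoc, mul_assoc, ← mul_assoc (w ^ n), e3, mul_one]

variable (h : Ch j θ D) (c : Ch (fun v => j (sw v)) θ' D)
include h c

theorem w0 : θ' (ww 0) = j e1 := c.w0.trans (congrArg j (by decide))
theorem w1 : θ' (ww 1) = θ (ww 1) := (c.w1.trans (congrArg j (by decide))).trans h.w1.symm
theorem w2 : θ' (ww 2) = θ (ww 2) := (c.w2.trans (congrArg j (by decide))).trans h.w2.symm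

theorem cy (x : Sp) : θ' x * θ (ww 0) = θ (ww 0) * θ' x := by
  rw [h.w0, ← (by decide : sw e1 = e2)]
  exact c.cy x

/-- an involution of the second chart that commutes with `j e1` -/
theorem tr {x : Sp} (x2 : x * x = 1) (x0 : x * ww 0 = ww 0 * x) :
    ∃ y, θ' x = θ y ∧ y * y = 1 ∧ y * ww 0 = ww 0 * y := by
  have e : θ' x * θ' x = 1 := by rw [← map_mul, x2, map_one]
  obtain ⟨y, hy⟩ := h.mem2 (g := θ' x) (k := 1) (by rw [← w0 h c]; exact mp x0)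
    (by rw [pow_one, pow_two, e])
  exact ⟨y, hy, h.θi (by rw [map_mul, ← hy, e, map_one]), mi h.θi (hy ▸ cy h c x)⟩

theorem t1 : ∃ n : ℕ, θ' (TT 1) = θ (TT 1 * ww 1 ^ n) := by
  obtain ⟨-, -, r3, -, -, r6, -, -, -, -, -, -, -, -, -, -, r17, -⟩ := sp_rel
  obtain ⟨y, e, y2, y0⟩ := tr h c (r3 1) (r6 1 0 (by decide))
  have y1 : y * ww 2 = ww 2 * y := mi h.θi (by rw [← e, ← w2 h c]; exact mp (r6 1 2 (by decide)))
  rcases c12 1 y2 (fun k hk => by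
    fin_cases k
    exacts [y0, absurd rfl hk, y1]) with rfl | ⟨n, rfl⟩
  · exact absurd (c.θi (e.trans (by rw [map_one, map_one]))) (r17 1)
  · exact ⟨_, e⟩

theorem t2 : ∃ n : ℕ, θ' (TT 2) = θ (TT 2 * ww 2 ^ n) := by
  obtain ⟨-, -, r3, -, -, r6, -, -, -, -, -, -, -, -, -, -, r17, -⟩ := sp_rel
  obtain ⟨y, e, y2, y0⟩ := tr h c (r3 2) (r6 2 0 (by decide))
  have y1 : y * ww 1 = ww 1 * y := mi h.θi (by rw [← e, ← w1 h c]; exact mp (r6 2 1 (by decide)))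
  rcases c12 2 y2 (fun k hk => by
    fin_cases k
    exacts [y0, y1, absurd rfl hk]) with rfl | ⟨n, rfl⟩
  · exact absurd (c.θi (e.trans (by rw [map_one, map_one]))) (r17 2)
  · exact ⟨_, e⟩

theorem p12 (e1' : θ' (TT 1) = θ (TT 1)) (e2' : θ' (TT 2) = θ (TT 2)) : θ' P12 = θ P12 := by
  obtain ⟨-, -, -, -, -, -, -, r8, -, -, -, -, r13, r14, r15, r16, -⟩ := sp_rel
  obtain ⟨y, e, y2, y0⟩ := tr h c r8 r14
  have pi : P12⁻¹ = P12 := inv_eq_of_mul_eq_one_right r8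
  have sw' : ∀ {a b : Sp}, P12 * a * P12⁻¹ = b → P12 * b * P12⁻¹ = a := fun {a b} e => by
    rw [← e, pi, ← mul_assoc, ← mul_assoc, r8, one_mul, mul_assoc, r8, mul_one]
  have key : ∀ {a b : Sp}, θ' a = θ a → θ' b = θ b → P12 * a * P12⁻¹ = b →
      y * P12 * a = a * (y * P12) := fun {a b} ha hb e' => by
    have : y * b * y⁻¹ = a := h.θi (by
      rw [map_mul, map_mul, map_inv, ← e, ← hb, ← ha, ← map_inv, ← map_mul, ← map_mul, sw' e'])
    calc y * P12 * a = y * (P12 * a * P12⁻¹) * y⁻¹ * (y * P12) := by group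
      _ = _ := by rw [e', this]
  have := mod2 (y * P12) (cm_mul y0 r14) (key (w1 h c) (w2 h c) r13)
    (key (w2 h c) (w1 h c) (sw' r13))
    (cm_mul (cm_mul (cm_mul (S4_c (S4_inv y2 y0)).2 r16).symm (key e1' e2' r15).symm)
      (key e2' e1' (sw' r15)).symm).symm
  rw [e, eq_inv_of_mul_eq_one_left this, pi]

end CF

open CF H87.U6 in
theorem cf (h : Hy j θ D) (m : ∀ n N, Ac j n N → Mon N) : ∃ θ', Cf j θ θ' D := by
  have jm := h.toCh0.jm
  obtain ⟨g, v, e, v1, v2⟩ := h.mv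
  obtain ⟨n, hn, e'⟩ := h.fusb g v e
  obtain ⟨N, a⟩ := jm.nj_ac hn
  have e0 : N e1 = v := jm.jinj ((a e1).symm.trans e')
  obtain ⟨n', a'⟩ := wc_sw h.toCh0.ws ⟨n, a⟩ (m n N a) (e0 ▸ v1) (e0 ▸ v2)
  have c := h.toCh.cj a'
  obtain ⟨n1, f1⟩ := t1 h.toCh c
  obtain ⟨n2, f2⟩ := t2 h.toCh c
  obtain ⟨r1, r2, -, -, r5, r6, -⟩ := sp_rel
  have ax : Ac (fun v => j (sw v)) (θ (ww 1 ^ n1 * ww 2 ^ n2)⁻¹) fun v => v := fun v => by
    rw [← cm_cj, map_inv, map_mul, map_pow, map_pow, h.w1, h.w2]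
    exact cm_inv (cm_mul (cm_pow (jm.jc _ _) _) (cm_pow (jm.jc _ _) _))
  have c' : Ch (fun v => j (sw v)) (θc (θ (ww 1 ^ n1 * ww 2 ^ n2)⁻¹) (θc n' θ)) D := c.cj ax
  have w12 : ww 1 ^ n1 * ww 2 ^ n2 = ww 2 ^ n2 * ww 1 ^ n1 :=
    cm_pow (cm_pow (r2 2 1) _).symm _
  have g1 : θc (θ (ww 1 ^ n1 * ww 2 ^ n2)⁻¹) (θc n' θ) (TT 1) = θ (TT 1) := by
    rw [θc_apply, f1, ← map_inv, ← map_mul, ← map_mul, inv_inv]
    congr 1
    calc _ = (ww 2 ^ n2)⁻¹ * ((ww 1 ^ n1)⁻¹ * (TT 1 * ww 1 ^ n1) * ww 1 ^ n1) * ww 2 ^ n2 := by group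
      _ = TT 1 := by
        rw [cjt (r5 1) (r1 1), mul_assoc, ← cm_pow (r6 1 2 (by decide)).symm, inv_mul_cancel_left]
  have g2 : θc (θ (ww 1 ^ n1 * ww 2 ^ n2)⁻¹) (θc n' θ) (TT 2) = θ (TT 2) := by
    rw [θc_apply, f2, ← map_inv, ← map_mul, ← map_mul, inv_inv, w12]
    congr 1
    calc _ = (ww 1 ^ n1)⁻¹ * ((ww 2 ^ n2)⁻¹ * (TT 2 * ww 2 ^ n2) * ww 2 ^ n2) * ww 1 ^ n1 := by group
      _ = TT 2 := by
        rw [cjt (r5 2) (r1 2), mul_assoc, ← cm_pow (r6 2 1 (by decide)).symm, inv_mul_cancel_left]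
  exact ⟨_, h, m, c', g1, g2, p12 h.toCh c' g1 g2⟩

theorem Cf.ra (h : Cf j θ θ' D) : Ac j (θ' (TT 0)) (rf e1) := fun v => by
  have := h.c'.toCh0.acT 0 (sw v)
  simp only [(by decide +kernel : ∀ v, sw (sw v) = v),
    (by decide +kernel : ∀ v, sw (rf (E3 0) (sw v)) = rf e1 v)] at this
  exact this

theorem Cf.rc (h : Cf j θ θ' D) (x : Sp) : θ' (TT 0) * θ x = θ x * θ' (TT 0) :=
  h.toCh.cL (by rw [← map_mul, sp_rel.2.2.1 0, map_one]) h.ra x

theorem Cf.rel (h : Cf j θ θ' D) :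
    Rel (θ' (TT 0)) (fun i => j (E3 i)) (fun i => θ (TT i)) (θ P01) (θ P12) := by
  have jm := h.toCh0.jm
  have c := h.toCh0
  obtain ⟨-, -, r3, -, -, -, r7, r8, -, -, r11, -, -, -, r15, -, r17, -⟩ := sp_rel
  refine ⟨by rw [← map_mul, r3, map_one], fun e => r17 0 (h.c'.θi (e.trans (map_one _).symm)),
    fun i => (h.ra.cm (by revert i; decide)).symm, fun i => (h.rc _).symm, (h.rc _).symm,
    (h.rc _).symm, fun i => jm.j3 _, fun i k => jm.jc _ _, fun i => by rw [← map_mul, r3, map_one],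
    fun i => (c.acT i _).trans ((congrArg j (by revert i; decide)).trans (jm.jneg _)),
    fun i k e => (c.acT i).cm (by revert i k; decide), by rw [← map_mul, r7, map_one],
    by rw [← map_mul, r8, map_one], (c.ac01 _).trans (congrArg j (by decide)), c.ac01.cm (by decide),
    by rw [← map_inv, ← map_mul, ← map_mul, r11], (c.ac12 _).trans (congrArg j (by decide)),
    c.ac12.cm (by decide), by rw [← map_inv, ← map_mul, ← map_mul, r15]⟩

open CF in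
theorem Cf.ag (h : Cf j θ θ' D) : ∀ x ∈ S4, θ' x = θ x := by
  have a1 := w1 h.toCh h.c'
  have a2 := w2 h.toCh h.c'
  obtain ⟨-, -, -, -, -, -, -, -, -, -, -, -, -, -, -, -, -, -, r19, r20, r21, r22, r23⟩ := sp_rel
  obtain ⟨y, e, y2, y0⟩ := tr h.toCh h.c' r19 r20
  have hA : θ' gA = θ gA := by
    rw [CM.gA_df]; simp only [map_mul, a1, a2, h.t1, h.p12]
  have hB : θ' gB = θ gB := by
    rw [CM.gB_df]; simp only [map_mul, map_inv, a1, a2, h.p12]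
  have hy : y = gC := mod4 y y0 y2 (mi h.θi (by rw [← e, ← hA]; exact mp r21))
    (mi h.θi (by rw [← e, ← hB]; exact mp r22))
    (h.θi (by rw [map_pow, map_mul, ← e, ← h.t2, ← map_mul, ← map_pow, r23, map_one, map_one]))
  exact S4_gen (θ'.eqLocus θ) a1 a2 h.t1 h.t2 h.p12 (Or.inl (hy ▸ e))

theorem Cf.a01 (h : Cf j θ θ' D) : Ac j (θ' P01) (rf (1, 0, -1, 0)) := fun v => by
  have := h.c'.toCh0.ac01 (sw v)
  simp only [(by decide +kernel : ∀ v, sw (sw v) = v),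
    (by decide +kernel : ∀ v, sw (rf (0, 1, -1, 0) (sw v)) = rf (1, 0, -1, 0) v)] at this
  exact this

open CF H87.U6 in
theorem Cf.c4 (h : Cf j θ θ' D) (g : G) (c1 : ∀ x, g * θ x = θ x * g)
    (c2 : ∀ x, g * θ4 θ θ' x = θ4 θ θ' x * g) : g ∈ D := by
  have jm := h.toCh0.jm
  have c := h.toCh0
  have k1 : θ4 θ θ' (ww 0) = j e1 := by
    rw [show θ4 θ θ' (ww 0) = θ kk * θ' (ww 0) * (θ kk)⁻¹ from rfl, w0 h.toCh h.c']
    exact cm_cj.1 (c.cy kk)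
  have k2 : θ4 θ θ' (TT 0) = θ' (TT 0) := cm_cj.1 (h.rc kk).symm
  obtain ⟨v, d, hd, rfl⟩ := c.cJ (g := g) fun v => by
    obtain ⟨k, e⟩ := (by decide +kernel : ∀ v : V, ∃ k : F3, v = k • e1 + (0, v.2)) v
    rw [e, jm.add, ← jm.jpow, ← c.wv]
    exact (cm_mul (cm_pow (k1 ▸ c2 (ww 0)).symm _) (c1 _).symm).symm
  have fx : ∀ {t : G} {N : V → V}, Ac j t N → j v * d * t = t * (j v * d) → d * t = t * d →
      N v = v := fun {t N} a e e' => jm.jinj (by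
    rw [← a v, ← cm_cj]
    exact mul_right_cancel (b := d) (by rw [mul_assoc, ← e, mul_assoc, mul_assoc, e']))
  have hv : v = 0 := (by decide +kernel : ∀ v : V, rf e1 v = v → rf (E3 0) v = v → rf (E3 1) v = v →
      rf (E3 2) v = v → v = 0) v (fx h.ra (k2 ▸ c2 (TT 0)) (h.c'.Dθ d hd _))
    (fx (c.acT 0) (c1 _) (c.Dθ d hd _)) (fx (c.acT 1) (c1 _) (c.Dθ d hd _))
    (fx (c.acT 2) (c1 _) (c.Dθ d hd _))
  rwa [hv, jm.j0, one_mul]

end H29.S6
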