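import Cfsg.Agent.Lib.S6.Defs

/-! S6, package CH (see blueprint/S6/README.md). -/

set_option autoImplicit false
set_option linter.unusedSectionVars false

namespace H29.S6

open Subgroup Cfsg H29.F42
open H87.U6 (F3 V lin)
open H75.L7 (Nm T Ch2 Rk3)

variable {G : Type*} [Group G] [Finite G] {j ρ : V → G} {τ : G} {θ θ' : Sp →* G} {D : Subgroup G}

variable {s p p' : G} {A : Subgroup G} {w t : Fin 3 → G}

namespace CH

open Matrix

theorem crd_of {c : W → G} (s2 : s * s = 1) (add : ∀ x y, c (x + y) = c x * c y)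
    (mem : ∀ x, c x ∈ A) (cs : ∀ x, c x * s = s * c x)
    (sur : ∀ a ∈ A, ∃ x, a = c x ∨ a = c x * s) (inj : ∀ x, c x = 1 ∨ c x = s → x = 0)
    (nm : ∀ g, g * s = s * g → Nm g A) :
    ∃ π : centralizer ({s} : Set G) →* GL Ix (ZMod 2), Crd s A c π ∧
      ∀ (g : centralizer ({s} : Set G)) (m : Sp),
        (∀ k, (g : G) * c (ff k) * (g : G)⁻¹ = c (ac m (ff k)) ∧
          (g : G) * c (gg k) * (g : G)⁻¹ = c (ac m (gg k))) → π g = ι m := by
  have c0 : c 0 = 1 := by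
    have := add 0 0
    rw [add_zero] at this
    exact left_eq_mul.1 this
  have xx : ∀ x : W, x + x = 0 := fun x => funext fun a => CharTwo.add_self_eq_zero _
  have uq : ∀ {a x y}, (a = c x ∨ a = c x * s) → (a = c y ∨ a = c y * s) → x = y := by
    intro a x y h1 h2
    have cx : c x * c x = 1 := by rw [← add, xx, c0]
    have : x + y = 0 := inj _ (by
      rw [add]
      rcases h1 with h1 | h1 <;> rcases h2 with h2 | h2
      · exact .inl (by rw [← h2, h1, cx])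
      · refine .inr ?_
        have : c y = c x * s := by rw [← h1, h2, mul_assoc, s2, mul_one]
        rw [this, ← mul_assoc, cx, one_mul]
      · exact .inr (by rw [← h2, h1, ← mul_assoc, cx, one_mul])
      · exact .inl (by rw [← mul_right_cancel (h1.symm.trans h2), cx]))
    rw [← add_zero x, ← xx y, ← add_assoc, this, zero_add]
  have gs : ∀ g : centralizer ({s} : Set G), (g : G) * s = s * g := fun g =>
    (mem_centralizer_singleton_iff.1 g.2)
  have cj : ∀ (g : centralizer ({s} : Set G)) a, (g : G) * (a * s) * (g : G)⁻¹ =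
      g * a * (g : G)⁻¹ * s := fun g a => by
    rw [mul_assoc _ _ s, ← (Commute.inv_left (gs g)).eq.symm, ← mul_assoc, ← mul_assoc]
  choose f hf using fun (g : centralizer ({s} : Set G)) x => sur _ (nm g (gs g) _ (mem x))
  have fa : ∀ g x y, f g (x + y) = f g x + f g y := fun g x y => uq (hf g (x + y)) (by
    rw [add, add, ← conj_mul]
    rcases hf g x with h1 | h1 <;> rcases hf g y with h2 | h2 <;> rw [h1, h2]
    · exact .inl rfl
    · exact .inr (mul_assoc _ _ _).symm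
    · exact .inr (by rw [mul_assoc, ← cs, mul_assoc])
    · exact .inl (by rw [mul_assoc, cs, ← mul_assoc s, s2, one_mul]))
  let M : centralizer ({s} : Set G) → Matrix Ix Ix (ZMod 2) := fun g =>
    LinearMap.toMatrix' ((AddMonoidHom.mk' (f g) (fa g)).toZModLinearMap 2)
  have hM : ∀ g x, M g *ᵥ x = f g x := fun g x => LinearMap.toMatrix'_mulVec _ _
  let π0 : centralizer ({s} : Set G) →* Matrix Ix Ix (ZMod 2) :=
    { toFun := M
      map_one' := ext_of_mulVec_single fun a => by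
        rw [hM, one_mulVec]
        exact uq (hf 1 _) (.inl (by simp))
      map_mul' := fun g g' => ext_of_mulVec_single fun a => by
        rw [← mulVec_mulVec, hM, hM, hM]
        refine uq (hf _ _) ?_
        have e : ∀ x : G, ((g * g' : centralizer ({s} : Set G)) : G) * x *
            ((g * g' : centralizer ({s} : Set G)) : G)⁻¹ =
            g * (g' * x * (g' : G)⁻¹) * (g : G)⁻¹ := fun x => by
          rw [coe_mul]; group
        rw [e]
        rcases hf g' (Pi.single a 1) with h1 | h1 <;> rw [h1]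
        · exact hf g _
        · rw [cj]
          rcases hf g (f g' (Pi.single a 1)) with h2 | h2 <;> rw [h2]
          · exact .inr rfl
          · exact .inl (by rw [mul_assoc, s2, mul_one]) }
  have hπ : ∀ g x, (π0.toHomUnits g).1 *ᵥ x = f g x := hM
  refine ⟨π0.toHomUnits, ⟨sur, c0, fun g x => by rw [hπ]; exact hf g x, fun g => ⟨?_, ?_⟩⟩, ?_⟩
  · intro e a ha
    obtain ⟨x, hx⟩ := sur a ha
    have := hf g x
    rw [← hπ, e, Units.val_one, one_mulVec] at this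
    rcases hx with rfl | rfl
    · exact this
    · rw [cj]
      rcases this with h2 | h2 <;> rw [h2]
      · exact .inl rfl
      · exact .inr rfl
  · intro e
    refine Units.ext (ext_of_mulVec_single fun a => ?_)
    rw [hπ, Units.val_one, one_mulVec]
    exact uq (hf g _) (e _ (mem _))
  · intro g m e
    refine Units.ext (ext_of_mulVec_single fun a => ?_)
    rw [hπ, ι_val]
    refine uq (hf g _) (.inl ?_)
    have b1 : ∀ k, (Pi.single (Sum.inl k) 1 : W) = ff k ∧ (Pi.single (Sum.inr k) 1 : W) = gg k := by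
      decide
    rcases a with k | k
    · rw [(b1 k).1]; exact (e k).1
    · rw [(b1 k).2]; exact (e k).2

theorem wA (h : Tri s A w t p p') (i : Fin 3) {a : G} (ha : a ∈ A) :
    w i * a * (w i)⁻¹ ∈ A ∧ (w i)⁻¹ * a * w i ∈ A :=
  ⟨h.nm _ (h.ws i) a ha, by
    simpa using h.nm (w i)⁻¹ (Commute.inv_left (h.ws i)).eq a ha⟩

theorem nr_mul (h : Tri s A w t p p') (i : Fin 3) {a b : G} (ha : a ∈ A) (hb : b ∈ A) :
    a * b * (w i * (a * b) * (w i)⁻¹) * ((w i)⁻¹ * (a * b) * w i) =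
      a * (w i * a * (w i)⁻¹) * ((w i)⁻¹ * a * w i) *
        (b * (w i * b * (w i)⁻¹) * ((w i)⁻¹ * b * w i)) := by
  have e : (w i)⁻¹ * (a * b) * w i = (w i)⁻¹ * a * w i * ((w i)⁻¹ * b * w i) := by group
  rw [← conj_mul, e, Commute.mul_mul_mul_comm (h.comm b hb _ (wA h i ha).1),
    Commute.mul_mul_mul_comm (h.comm _ (mul_mem hb (wA h i hb).1) _ (wA h i ha).2)]

theorem nr_fix (h : Tri s A w t p p') (i : Fin 3) {a : G} (ha : a ∈ A) (c : a * w i = w i * a) :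
    a * (w i * a * (w i)⁻¹) * ((w i)⁻¹ * a * w i) = a := by
  rw [← c, mul_inv_cancel_right, h.sq a ha, one_mul, mul_assoc, c, inv_mul_cancel_left]

theorem VV_one (i : Fin 3) : (1 : G) ∈ VV A w i :=
  ⟨one_mem _, fun _ _ => by simp, by simp⟩

theorem VV_mul (h : Tri s A w t p p') {i : Fin 3} {a b : G} (ha : a ∈ VV A w i)
    (hb : b ∈ VV A w i) : a * b ∈ VV A w i :=
  ⟨mul_mem ha.1 hb.1, fun k hk => (Commute.mul_left (ha.2.1 k hk) (hb.2.1 k hk)).eq,
    by rw [nr_mul h i ha.1 hb.1, ha.2.2, hb.2.2, one_mul]⟩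

theorem dec (h : Tri s A w t p p') {a : G} (ha : a ∈ A) : ∃ (b : Fin 3 → G) (e : G),
    (∀ i, b i ∈ VV A w i) ∧ (e = 1 ∨ e = s) ∧ a = b 0 * b 1 * b 2 * e := by
  let B : Subgroup G := sgOf
    { carrier := {a | ∃ (b : Fin 3 → G) (e : G),
        (∀ i, b i ∈ VV A w i) ∧ (e = 1 ∨ e = s) ∧ a = b 0 * b 1 * b 2 * e}
      one_mem' := ⟨fun _ => 1, 1, VV_one, .inl rfl, by simp⟩
      mul_mem' := by
        rintro _ _ ⟨b, e, hb, he, rfl⟩ ⟨b', e', hb', he', rfl⟩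
        have eA : e ∈ A := by rcases he with rfl | rfl; exacts [one_mem _, h.sA]
        refine ⟨fun i => b i * b' i, e * e', fun i => VV_mul h (hb i) (hb' i), ?_, ?_⟩
        · rcases he with rfl | rfl <;> rcases he' with rfl | rfl <;> simp [h.s2]
        · rw [Commute.mul_mul_mul_comm
            (h.comm _ eA _ (mul_mem (mul_mem (hb' 0).1 (hb' 1).1) (hb' 2).1)),
            Commute.mul_mul_mul_comm (h.comm _ (hb 2).1 _ (mul_mem (hb' 0).1 (hb' 1).1)),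
            Commute.mul_mul_mul_comm (h.comm _ (hb 1).1 _ (hb' 0).1)] }
  refine (show Subgroup.closure _ ≤ B from (closure_le _).2 ?_) (h.gen ha)
  have up : ∀ i, ∀ a ∈ VV A w i, ∀ k, Function.update (fun _ : Fin 3 => (1 : G)) i a k ∈ VV A w k :=
    fun i a ha k => by
      by_cases e : k = i
      · subst e; simpa using ha
      · rw [Function.update_of_ne e]; exact VV_one k
  rintro a (((rfl | ha) | ha) | ha)
  · exact ⟨fun _ => 1, _, VV_one, .inr rfl, by simp⟩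
  · exact ⟨_, 1, up 0 a ha, .inl rfl, by simp⟩
  · exact ⟨_, 1, up 1 a ha, .inl rfl, by simp⟩
  · exact ⟨_, 1, up 2 a ha, .inl rfl, by simp⟩

theorem key (h : Tri s A w t p p') (i : Fin 3) {a e : G} {b : Fin 3 → G}
    (hb : ∀ i, b i ∈ VV A w i) (he : e = 1 ∨ e = s) (ha : a = b 0 * b 1 * b 2 * e) :
    a * (a * (w i * a * (w i)⁻¹) * ((w i)⁻¹ * a * w i)) = b i := by
  have eA : e ∈ A := by rcases he with rfl | rfl; exacts [one_mem _, h.sA]
  have ew : e * w i = w i * e := by rcases he with rfl | rfl; exacts [by simp, (h.ws i).symm]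
  obtain ⟨d, dA, dw, e1⟩ : ∃ d ∈ A, d * w i = w i * d ∧ a = b i * d := by
    have c : ∀ k, k ≠ i → Commute (b k) (w i) := fun k hk => (hb k).2.1 i hk.symm
    obtain rfl | rfl | rfl : i = 0 ∨ i = 1 ∨ i = 2 := by omega
    · exact ⟨b 1 * b 2 * e, mul_mem (mul_mem (hb 1).1 (hb 2).1) eA,
        (((c 1 (by decide)).mul_left (c 2 (by decide))).mul_left ew).eq, by rw [ha]; group⟩
    · exact ⟨b 0 * b 2 * e, mul_mem (mul_mem (hb 0).1 (hb 2).1) eA,
        (((c 0 (by decide)).mul_left (c 2 (by decide))).mul_left ew).eq, by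
          rw [ha, h.comm _ (hb 0).1 _ (hb 1).1]; group⟩
    · exact ⟨b 0 * b 1 * e, mul_mem (mul_mem (hb 0).1 (hb 1).1) eA,
        (((c 0 (by decide)).mul_left (c 1 (by decide))).mul_left ew).eq, by
          rw [ha, h.comm _ (mul_mem (hb 0).1 (hb 1).1) _ (hb 2).1]; group⟩
  rw [e1, nr_mul h i (hb i).1 dA, (hb i).2.2, nr_fix h i dA dw, one_mul, mul_assoc, h.sq d dA,
    mul_one]

theorem VV_of (h : Tri s A w t p p') (i : Fin 3) {a : G} (ha : a ∈ A)
    (n : a * (w i * a * (w i)⁻¹) * ((w i)⁻¹ * a * w i) = 1) : a ∈ VV A w i := by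
  obtain ⟨b, e, hb, he, e1⟩ := dec h ha
  have := key h i hb he e1
  rw [n, mul_one] at this
  rw [this]; exact hb i

theorem VV_cj (h : Tri s A w t p p') {i k : Fin 3} {a g : G} (ha : a ∈ VV A w i)
    (gs : g * s = s * g) (gw : g * w i * g⁻¹ = w k ∨ g * w i * g⁻¹ = (w k)⁻¹) :
    g * a * g⁻¹ ∈ VV A w k := by
  have m := h.nm g gs a ha.1
  refine VV_of h k m ?_
  have e : g * (a * (w i * a * (w i)⁻¹) * ((w i)⁻¹ * a * w i)) * g⁻¹ = 1 := by
    rw [ha.2.2]; group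
  rcases gw with e1 | e1
  · rw [← e1, ← e]; group
  · rw [mul_assoc (g * a * g⁻¹), h.comm _ (wA h k m).1 _ (wA h k m).2, ← inv_inv (w k), ← e1, ← e]
    group

theorem ntr (h : Tri s A w t p p') {i : Fin 3} {a : G} (ha : a ∈ VV A w i) (a1 : a ≠ 1) :
    w i * a * (w i)⁻¹ ≠ a ∧ w i * a * (w i)⁻¹ ≠ a * s := by
  refine ⟨fun e => a1 ?_, fun e => a1 ?_⟩
  · rw [← nr_fix h i ha.1 (mul_inv_eq_iff_eq_mul.1 e).symm, ha.2.2]
  · have e' : (w i)⁻¹ * a * w i = a * s := by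
      have : a = w i * (a * s) * (w i)⁻¹ := by
        rw [← mul_assoc, mul_assoc _ s, (Commute.inv_left (h.ws i)).eq.symm, ← mul_assoc, e,
          mul_assoc, h.s2, mul_one]
      conv_lhs => rw [this]
      group
    have := ha.2.2
    rwa [e, e', mul_assoc, h.sq _ (mul_mem ha.1 h.sA), mul_one] at this

theorem four_cj (h : Tri s A w t p p') {i k : Fin 3} {g v : G} (g2 : g * g = 1)
    (gs : g * s = s * g) (gw : g * w i * g⁻¹ = w k)
    (hv : ∀ a ∈ VV A w i, a = 1 ∨ a = v ∨ a = w i * v * (w i)⁻¹ ∨ a = (w i)⁻¹ * v * w i) :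
    ∀ a ∈ VV A w k, a = 1 ∨ a = g * v * g⁻¹ ∨ a = w k * (g * v * g⁻¹) * (w k)⁻¹ ∨
      a = (w k)⁻¹ * (g * v * g⁻¹) * w k := by
  intro a ha
  have gi : g⁻¹ = g := inv_eq_of_mul_eq_one_left g2
  have e : ∀ x, g * (g * x * g⁻¹) * g⁻¹ = x := fun x => by
    rw [← mul_assoc, ← mul_assoc, g2, gi, mul_assoc, g2]; simp
  have := hv _ (VV_cj h ha gs (.inl (by rw [← gw, e])))
  rw [← e a, ← gw]
  rcases this with e1 | e1 | e1 | e1 <;> rw [e1]
  · exact .inl (by group)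
  · exact .inr (.inl rfl)
  · exact .inr (.inr (.inl (by group)))
  · exact .inr (.inr (.inr (by group)))

theorem c3 {u : G} (u3 : u ^ 3 = 1) (x : G) : u * (u * x * u⁻¹) * u⁻¹ = u⁻¹ * x * u ∧
    u⁻¹ * (u⁻¹ * x * u) * u = u * x * u⁻¹ := by
  have a : u * u = u⁻¹ := by rw [eq_inv_iff_mul_eq_one, ← u3, pow_three']
  have b : u⁻¹ * u⁻¹ = u := by rw [← _root_.mul_inv_rev, a, inv_inv]
  constructor
  · calc _ = u * u * x * (u⁻¹ * u⁻¹) := by group
      _ = _ := by rw [a, b]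
  · calc _ = u⁻¹ * u⁻¹ * x * (u * u) := by group
      _ = _ := by rw [a, b]

theorem ex0 (h : Tri s A w t p p') : ∃ v, v ≠ 1 ∧ v ∈ VV A w 0 ∧
    t 0 * v * (t 0)⁻¹ = w 0 * v * (w 0)⁻¹ ∧
    ∀ a ∈ VV A w 0, a = 1 ∨ a = v ∨ a = w 0 * v * (w 0)⁻¹ ∨ a = (w 0)⁻¹ * v * w 0 := by
  obtain ⟨v, v1, hv, h4⟩ := h.four
  have tw := h.tw 0
  obtain ⟨c1, c2⟩ := c3 (h.w3 0) v
  have ne : ∀ g : G, g * v * g⁻¹ ≠ 1 := fun g e => v1 (by simpa using e)
  rcases h4 _ (VV_cj h hv (h.ts 0) (.inr tw)) with e | e | e | e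
  · exact absurd e (ne _)
  · refine ⟨_, ne (w 0), VV_cj h hv (h.ws 0) (.inl (by group)), ?_, fun a ha => ?_⟩
    · rw [c1]
      calc _ = t 0 * w 0 * (t 0)⁻¹ * (t 0 * v * (t 0)⁻¹) * (t 0 * w 0 * (t 0)⁻¹)⁻¹ := by group
        _ = _ := by rw [tw, e, inv_inv]
    · rw [c1, show (w 0)⁻¹ * (w 0 * v * (w 0)⁻¹) * w 0 = v by group]
      have := h4 a ha
      tauto
  · exact ⟨v, v1, hv, e, h4⟩
  · have e0 : w 0 * ((w 0)⁻¹ * v * w 0) * (w 0)⁻¹ = v := by group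
    refine ⟨(w 0)⁻¹ * v * w 0, by simpa using ne (w 0)⁻¹, ?_, ?_, fun a ha => ?_⟩
    · simpa using VV_cj h (k := 0) hv (Commute.inv_left (h.ws 0)).eq (.inl (by group))
    · rw [e0]
      calc _ = (t 0 * w 0 * (t 0)⁻¹)⁻¹ * (t 0 * v * (t 0)⁻¹) * (t 0 * w 0 * (t 0)⁻¹) := by group
        _ = _ := by rw [tw, e]; group
    · rw [e0, c2]
      have := h4 a ha
      tauto

theorem exv (h : Tri s A w t p p') : ∃ v : Fin 3 → G, (∀ i, v i ≠ 1 ∧ v i ∈ VV A w i ∧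
    t i * v i * (t i)⁻¹ = w i * v i * (w i)⁻¹ ∧
    ∀ a ∈ VV A w i, a = 1 ∨ a = v i ∨ a = w i * v i * (w i)⁻¹ ∨ a = (w i)⁻¹ * v i * w i) ∧
    p * v 0 * p⁻¹ = v 1 ∧ p' * v 1 * p'⁻¹ = v 2 := by
  obtain ⟨v, v1, hv, ht, h4⟩ := ex0 h
  have m1 := VV_cj h hv h.ps (.inl h.p0)
  have f1 := four_cj h h.p2 h.ps h.p0 h4
  have t1 : t 1 * (p * v * p⁻¹) * (t 1)⁻¹ = w 1 * (p * v * p⁻¹) * (w 1)⁻¹ := by
    rw [← h.pt, ← h.p0]
    calc _ = p * (t 0 * v * (t 0)⁻¹) * p⁻¹ := by group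
      _ = _ := by rw [ht]; group
  refine ⟨![v, p * v * p⁻¹, p' * (p * v * p⁻¹) * p'⁻¹], fun i => ?_, rfl, rfl⟩
  obtain rfl | rfl | rfl : i = 0 ∨ i = 1 ∨ i = 2 := by omega
  · exact ⟨v1, hv, ht, h4⟩
  · exact ⟨fun e => v1 (by simpa using e), m1, t1, f1⟩
  · refine ⟨fun e => v1 (by simpa using e), VV_cj h m1 h.ps' (.inl h.p1), ?_,
      four_cj h h.p2' h.ps' h.p1 f1⟩
    change t 2 * (p' * (p * v * p⁻¹) * p'⁻¹) * (t 2)⁻¹ = w 2 * (p' * (p * v * p⁻¹) * p'⁻¹) * (w 2)⁻¹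
    rw [← h.pt', ← h.p1]
    calc _ = p' * (t 1 * (p * v * p⁻¹) * (t 1)⁻¹) * p'⁻¹ := by group
      _ = _ := by rw [t1]; group

theorem inv_VV (h : Tri s A w t p p') {i : Fin 3} {a g : G} (ha : a ∈ VV A w i) (g2 : g * g = 1)
    (gs : g * s = s * g) (gw : g * w i = w i * g) : g * a * g⁻¹ = a := by
  obtain ⟨v, hv, -⟩ := exv h
  obtain ⟨v1, hv, -, h4⟩ := hv i
  have gw' : g * w i * g⁻¹ = w i := by rw [gw, mul_inv_cancel_right]
  have gi : g⁻¹ = g := inv_eq_of_mul_eq_one_left g2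
  have e2 : ∀ x, g * (g * x * g⁻¹) * g⁻¹ = x := fun x => by
    rw [← mul_assoc, ← mul_assoc, g2, gi, mul_assoc, g2]; simp
  have a1 : ∀ x, g * (w i * x * (w i)⁻¹) * g⁻¹ = w i * (g * x * g⁻¹) * (w i)⁻¹ := fun x => by
    conv_rhs => rw [← gw']
    group
  have a2 : ∀ x, g * ((w i)⁻¹ * x * w i) * g⁻¹ = (w i)⁻¹ * (g * x * g⁻¹) * w i := fun x => by
    conv_rhs => rw [← gw']
    group
  obtain ⟨c1, c2⟩ := c3 (h.w3 i) (v i)
  have n := (ntr h hv v1).1
  have gv : g * v i * g⁻¹ = v i := by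
    rcases h4 _ (VV_cj h hv gs (.inl gw')) with e | e | e | e
    · exact absurd (by simpa using e) v1
    · exact e
    · have := e2 (v i)
      rw [e, a1, e, c1] at this
      exact absurd (by conv_lhs => rw [← this]
                       group) n
    · have := e2 (v i)
      rw [e, a2, e, c2] at this
      exact absurd this n
  rcases h4 a ha with rfl | rfl | rfl | rfl
  · group
  · exact gv
  · rw [a1, gv]
  · rw [a2, gv]

theorem pw_add {x : G} (x2 : x * x = 1) (a b : ZMod 2) : x ^ (a + b).val = x ^ a.val * x ^ b.val := by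
  have z : ∀ a : ZMod 2, a = 0 ∨ a = 1 := by decide
  have v1 : (1 : ZMod 2).val = 1 := rfl
  have v2 : (1 + 1 : ZMod 2).val = 0 := rfl
  rcases z a with rfl | rfl <;> rcases z b with rfl | rfl <;> simp [v1, v2, x2]

theorem facts : (∀ i, ac (ww i) (ff i) = gg i ∧ ac (ww i) (gg i) = ff i + gg i ∧
      ac (TT i) (ff i) = gg i ∧ ac (TT i) (gg i) = ff i) ∧
    (∀ i k, k ≠ i → ac (ww i) (ff k) = ff k ∧ ac (ww i) (gg k) = gg k ∧
      ac (TT i) (ff k) = ff k ∧ ac (TT i) (gg k) = gg k) ∧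
    (ac P01 (ff 0) = ff 1 ∧ ac P01 (gg 0) = gg 1 ∧ ac P01 (ff 1) = ff 0 ∧ ac P01 (gg 1) = gg 0 ∧
      ac P01 (ff 2) = ff 2 ∧ ac P01 (gg 2) = gg 2) ∧
    (ac P12 (ff 0) = ff 0 ∧ ac P12 (gg 0) = gg 0 ∧ ac P12 (ff 1) = ff 2 ∧ ac P12 (gg 1) = gg 2 ∧
      ac P12 (ff 2) = ff 1 ∧ ac P12 (gg 2) = gg 1) := by
  refine ⟨?_, ?_, ?_, ?_⟩ <;> decide +kernel

theorem exc (h : Tri s A w t p p') {v : Fin 3 → G} (hv : ∀ i, v i ≠ 1 ∧ v i ∈ VV A w i ∧
    ∀ a ∈ VV A w i, a = 1 ∨ a = v i ∨ a = w i * v i * (w i)⁻¹ ∨ a = (w i)⁻¹ * v i * w i) :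
    ∃ c : W → G, (∀ x y, c (x + y) = c x * c y) ∧ (∀ x, c x ∈ A) ∧
      (∀ a ∈ A, ∃ x, a = c x ∨ a = c x * s) ∧ (∀ x, c x = 1 ∨ c x = s → x = 0) ∧
      ∀ k, c (ff k) = v k ∧ c (gg k) = w k * v k * (w k)⁻¹ := by
  let β : Fin 3 → ZMod 2 → ZMod 2 → G := fun i a b =>
    v i ^ a.val * (w i * v i * (w i)⁻¹) ^ b.val
  have z : ∀ a : ZMod 2, a = 0 ∨ a = 1 := by decide
  have v1 : (1 : ZMod 2).val = 1 := rfl
  have m : ∀ i, w i * v i * (w i)⁻¹ ∈ VV A w i := fun i =>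
    VV_cj h (hv i).2.1 (h.ws i) (.inl (by group))
  have b00 : ∀ i, β i 0 0 = 1 := fun i => by simp [β]
  have b10 : ∀ i, β i 1 0 = v i := fun i => by simp [β, v1]
  have b01 : ∀ i, β i 0 1 = w i * v i * (w i)⁻¹ := fun i => by
    simp only [β, v1, ZMod.val_zero, pow_zero, pow_one, one_mul]
  have b11 : ∀ i, β i 1 1 = (w i)⁻¹ * v i * w i := fun i => by
    simp only [β, v1, pow_one]
    rw [eq_inv_of_mul_eq_one_left (hv i).2.1.2.2]
    exact inv_eq_of_mul_eq_one_left (h.sq _ (wA h i (hv i).2.1.1).2)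
  have βV : ∀ i a b, β i a b ∈ VV A w i := fun i a b => by
    rcases z a with rfl | rfl <;> rcases z b with rfl | rfl
    · rw [b00]; exact VV_one i
    · rw [b01]; exact m i
    · rw [b10]; exact (hv i).2.1
    · simp only [β, v1, pow_one]; exact VV_mul h (hv i).2.1 (m i)
  have βa : ∀ i a b a' b', β i (a + a') (b + b') = β i a b * β i a' b' := fun i a b a' b' => by
    simp only [β]
    rw [pw_add (h.sq _ (hv i).2.1.1), pw_add (h.sq _ (m i).1), Commute.mul_mul_mul_comm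
      (h.comm _ (pow_mem (hv i).2.1.1 _) _ (pow_mem (m i).1 _))]
  have βs : ∀ i, ∀ a ∈ VV A w i, ∃ x y, a = β i x y := fun i a ha => by
    rcases (hv i).2.2 a ha with e | e | e | e
    exacts [⟨0, 0, e.trans (b00 i).symm⟩, ⟨1, 0, e.trans (b10 i).symm⟩,
      ⟨0, 1, e.trans (b01 i).symm⟩, ⟨1, 1, e.trans (b11 i).symm⟩]
  have βi : ∀ i a b, β i a b = 1 → a = 0 ∧ b = 0 := fun i a b e => by
    rcases z a with rfl | rfl <;> rcases z b with rfl | rfl
    · exact ⟨rfl, rfl⟩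
    · rw [b01] at e; exact absurd (by simpa using e) (hv i).1
    · rw [b10] at e; exact absurd e (hv i).1
    · rw [b11] at e
      exact absurd (by rw [← mul_inv_cancel_left (w i) (v i), eq_inv_of_mul_eq_one_left e]; simp)
        (hv i).1
  refine ⟨fun x => β 0 (x (.inl 0)) (x (.inr 0)) * β 1 (x (.inl 1)) (x (.inr 1)) *
    β 2 (x (.inl 2)) (x (.inr 2)), fun x y => ?_,
    fun x => mul_mem (mul_mem (βV _ _ _).1 (βV _ _ _).1) (βV _ _ _).1, fun a ha => ?_,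
    fun x hx => ?_, fun k => ?_⟩
  · simp only [Pi.add_apply, βa]
    rw [Commute.mul_mul_mul_comm (h.comm _ (βV 2 _ _).1 _ (mul_mem (βV 0 _ _).1 (βV 1 _ _).1)),
      Commute.mul_mul_mul_comm (h.comm _ (βV 1 (x _) _).1 _ (βV 0 (y _) _).1)]
  · obtain ⟨b, e, hb, he, rfl⟩ := dec h ha
    choose x y hxy using fun i => βs i _ (hb i)
    refine ⟨Sum.elim x y, ?_⟩
    simp only [Sum.elim_inl, Sum.elim_inr, ← hxy]
    rcases he with rfl | rfl
    exacts [.inl (mul_one _), .inr rfl]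
  · have : ∀ i, β i (x (.inl i)) (x (.inr i)) = 1 := fun i => by
      obtain ⟨e, he, e1⟩ : ∃ e, (e = 1 ∨ e = s) ∧ (1 : G) = β 0 (x (.inl 0)) (x (.inr 0)) *
          β 1 (x (.inl 1)) (x (.inr 1)) * β 2 (x (.inl 2)) (x (.inr 2)) * e := by
        rcases hx with hx | hx
        · exact ⟨1, .inl rfl, by rw [mul_one]; exact hx.symm⟩
        · exact ⟨s, .inr rfl, by rw [← h.s2]; exact congrArg (· * s) hx.symm⟩
      have := key h i (b := fun i => β i (x (.inl i)) (x (.inr i))) (fun i => βV i _ _) he e1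
      simpa using this.symm
    funext a
    rcases a with i | i
    exacts [(βi i _ _ (this i)).1, (βi i _ _ (this i)).2]
  · obtain rfl | rfl | rfl : k = 0 ∨ k = 1 ∨ k = 2 := by omega
    all_goals simp [ff, gg, b00, b10, b01]

end CH

open CH

theorem Tri.ntr (h : Tri s A w t p p') (i : Fin 3) :
    ∃ a ∈ VV A w i, w i * a * (w i)⁻¹ ≠ a ∧ w i * a * (w i)⁻¹ ≠ a * s := by
  obtain ⟨v, hv, -⟩ := exv h
  exact ⟨v i, (hv i).2.1, CH.ntr h (hv i).2.1 (hv i).1⟩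

theorem Tri.inv (h : Tri s A w t p p') (i : Fin 3) {a g : G} (ha : a ∈ A)
    (ca : ∀ k, k ≠ i → a * w k = w k * a) (g2 : g * g = 1) (gs : g * s = s * g)
    (gw : g * w i = w i * g) : g * a = a * g := by
  obtain ⟨b, e, hb, he, e1⟩ := dec h ha
  have b1 : ∀ k, k ≠ i → b k = 1 := fun k hk => by
    rw [← key h k hb he e1, nr_fix h k ha (ca k hk), h.sq a ha]
  have e2 : a = b i * e := by
    rw [e1]
    obtain rfl | rfl | rfl : i = 0 ∨ i = 1 ∨ i = 2 := by omega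
    · simp [b1 1, b1 2]
    · simp [b1 0, b1 2]
    · simp [b1 0, b1 1]
  have c1 : Commute g (b i) := mul_inv_eq_iff_eq_mul.1 (inv_VV h (hb i) g2 gs gw)
  have c2 : Commute g e := by rcases he with rfl | rfl; exacts [Commute.one_right _, gs]
  rw [e2]; exact (c1.mul_right c2).eq

theorem Tri.ch (h : Tri s A w t p p') :
    ∃ (c : W → G) (π : centralizer ({s} : Set G) →* GL Ix (ZMod 2)), Crd s A c π ∧
      c (ff 0) * w 2 = w 2 * c (ff 0) ∧ ∀ g : centralizer ({s} : Set G),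
        (∀ i, (g : G) = w i → π g = ι (ww i)) ∧ (∀ i, (g : G) = t i → π g = ι (TT i)) ∧
        ((g : G) = p → π g = ι P01) ∧ ((g : G) = p' → π g = ι P12) := by
  obtain ⟨v, hv, p0, p1⟩ := exv h
  obtain ⟨c, add, mem, sur, inj, hc⟩ := exc h fun i => ⟨(hv i).1, (hv i).2.1, (hv i).2.2.2⟩
  obtain ⟨π, hπ, val⟩ := crd_of h.s2 add mem (fun x => h.comm _ (mem x) _ h.sA) sur inj h.nm
  obtain ⟨f1, f2, f3, f4⟩ := facts
  have cf := fun k => (hc k).1
  have cg := fun k => (hc k).2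
  have m : ∀ i, w i * v i * (w i)⁻¹ ∈ VV A w i := fun i =>
    VV_cj h (hv i).2.1 (h.ws i) (.inl (by group))
  have e2 : ∀ {g : G}, g * g = 1 → ∀ {x y}, g * x * g⁻¹ = y → g * y * g⁻¹ = x := fun {g} g2 x y e => by
    rw [← e, ← mul_assoc, ← mul_assoc, g2, inv_eq_of_mul_eq_one_left g2, mul_assoc, g2]; simp
  have tr : ∀ {g : G} {i k}, g * w i * g⁻¹ = w k → g * v i * g⁻¹ = v k →
      g * (w i * v i * (w i)⁻¹) * g⁻¹ = w k * v k * (w k)⁻¹ := fun e e' => by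
    rw [← e, ← e']; group
  refine ⟨c, π, hπ, by rw [cf]; exact (hv 0).2.1.2.1 2 (by decide), fun g => ⟨?_, ?_, ?_, ?_⟩⟩
  · refine fun i e => val g _ fun k => ?_
    rw [e]
    by_cases hk : k = i
    · subst hk
      rw [(f1 k).1, (f1 k).2.1, add, cf, cg, (c3 (h.w3 k) _).1]
      refine ⟨rfl, ?_⟩
      rw [eq_inv_of_mul_eq_one_left (hv k).2.1.2.2]
      exact (inv_eq_of_mul_eq_one_left (h.sq _ (wA h k (hv k).2.1.1).2)).symm
    · rw [(f2 i k hk).1, (f2 i k hk).2.1, cf, cg, ← (hv k).2.1.2.1 i (Ne.symm hk),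
        ← (m k).2.1 i (Ne.symm hk)]
      simp
  · refine fun i e => val g _ fun k => ?_
    rw [e]
    by_cases hk : k = i
    · subst hk
      rw [(f1 k).2.2.1, (f1 k).2.2.2, cf, cg]
      exact ⟨(hv k).2.2.1, e2 (h.t2 k) (hv k).2.2.1⟩
    · rw [(f2 i k hk).2.2.1, (f2 i k hk).2.2.2, cf, cg]
      exact ⟨inv_VV h (hv k).2.1 (h.t2 i) (h.ts i) (h.tw' i k (Ne.symm hk)),
        inv_VV h (m k) (h.t2 i) (h.ts i) (h.tw' i k (Ne.symm hk))⟩
  · refine fun e => val g _ fun k => ?_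
    rw [e]
    obtain ⟨a1, a2, a3, a4, a5, a6⟩ := f3
    obtain rfl | rfl | rfl : k = 0 ∨ k = 1 ∨ k = 2 := by omega
    · rw [a1, a2, cf, cf, cg, cg]; exact ⟨p0, tr h.p0 p0⟩
    · rw [a3, a4, cf, cf, cg, cg]; exact ⟨e2 h.p2 p0, tr (e2 h.p2 h.p0) (e2 h.p2 p0)⟩
    · rw [a5, a6, cf, cg]
      exact ⟨inv_VV h (hv 2).2.1 h.p2 h.ps h.pw, inv_VV h (m 2) h.p2 h.ps h.pw⟩
  · refine fun e => val g _ fun k => ?_
    rw [e]
    obtain ⟨a1, a2, a3, a4, a5, a6⟩ := f4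
    obtain rfl | rfl | rfl : k = 0 ∨ k = 1 ∨ k = 2 := by omega
    · rw [a1, a2, cf, cg]
      exact ⟨inv_VV h (hv 0).2.1 h.p2' h.ps' h.pw', inv_VV h (m 0) h.p2' h.ps' h.pw'⟩
    · rw [a3, a4, cf, cf, cg, cg]; exact ⟨p1, tr h.p1 p1⟩
    · rw [a5, a6, cf, cf, cg, cg]; exact ⟨e2 h.p2' p1, tr (e2 h.p2' h.p1) (e2 h.p2' p1)⟩

end H29.S6
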