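import Cfsg.Agent.Lib.S6.LP

/-! S6, package CMp: the Curtis–Tits system of type `F₄` (see blueprint/S6/README.md). -/

set_option autoImplicit false
set_option linter.unusedSectionVars false

namespace H29.S6

open Subgroup Cfsg H29.F42 H29.F42.CM
open H87.U6 (F3 V lin cm_cj cm_mul cm_inv cm_conj cjn nrm mC)
open H75.L7 (Nm T Ch2 Rk3)

variable {G : Type*} [Group G] [Finite G] {j ρ : V → G} {τ : G}

namespace CMp

/-- a chart without the decomposition of the centralizer -/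
structure Wk (j ρ : V → G) (θ : Sp →* G) : Prop where
  inj : Function.Injective θ
  cy : ∀ x, θ x * j e1 = j e1 * θ x
  cρ : ∀ x, θ x * ρ e1 = ρ e1 * θ x
  w0 : θ (ww 0) = j e2
  w1 : θ (ww 1) = j e3
  w2 : θ (ww 2) = j e4
  t0 : θ (TT 0) = ρ e2
  t1 : θ (TT 1) = ρ e3
  t2 : θ (TT 2) = ρ e4
  p01 : θ P01 = ρ (0, 1, -1, 0)
  p12 : θ P12 = ρ (0, 0, 1, -1)

theorem wk {θ : Sp →* G} (s : Std j ρ θ) : Wk j ρ θ :=
  ⟨s.inj, s.cy, s.cρ, s.w0, s.w1, s.w2, s.t0, s.t1, s.t2, s.p01, s.p12⟩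

theorem val (f : F1 j τ ρ) {θ1 θ3 : Sp →* G} (s1 : Std (fun v => j (N1 v)) (fun v => ρ (N1 v)) θ1)
    (s3 : Std (fun v => j (N3 v)) (fun v => ρ (N3 v)) θ3) : Val j ρ θ1 θ3 where
  y1 := (by decide : N1 e1 = (1, 1, 0, 0)) ▸ s1.cy
  w10 := s1.w0.trans (congrArg j (by decide))
  w11 := s1.w1.trans (congrArg j (by decide))
  w12 := s1.w2.trans (congrArg j (by decide))
  t10 := s1.t0.trans (congrArg ρ (by decide))
  t11 := s1.t1.trans (congrArg ρ (by decide))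
  t12 := s1.t2.trans (congrArg ρ (by decide))
  p1 := s1.p12.trans ((congrArg ρ (by decide)).trans (f.ρneg (by decide)))
  y3 := (by decide : N3 e1 = (0, 0, 1, -1)) ▸ s3.cy
  w30 := s3.w0.trans (congrArg j (by decide))
  w32 := s3.w2.trans (congrArg j (by decide))
  w3 := by rw [map_mul, map_inv, s3.w1, s3.w2, ← f.jneg, ← f.add]; exact congrArg j (by decide)
  t31 := s3.t1.trans (congrArg ρ (by decide))
  t32 := s3.t2.trans (congrArg ρ (by decide))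
  p3 := s3.p12.trans ((congrArg ρ (by decide)).trans (f.ρneg (by decide)))

theorem sg_of (f : F1 j τ ρ) {θ : Sp →* G} (s : Wk j ρ θ) {F : Subgroup Sp} (hF : IsPGroup 2 F) {a : V}
    {t x y : Sp} {u v : V} (ht : θ t = ρ a) (c : ∀ g ∈ F, g * t = t * g) (hx : θ x = j u) (hy : θ y = j v)
    (nx : ∀ g ∈ F, x * g * x⁻¹ ∈ F) (ny : ∀ g ∈ F, y * g * y⁻¹ ∈ F)
    (sp : ∀ w, b a w = 0 → ∃ k l m : F3, w = k • e1 + l • u + m • v) : SG j ρ a (F.map θ) := by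
  have nn : ∀ {x : Sp}, (∀ g ∈ F, x * g * x⁻¹ ∈ F) → θ x ∈ normalizer (F.map θ : Set G) := fun nx =>
    nrm (by rintro _ ⟨g, hg, rfl⟩; exact ⟨_, nx g hg, by simp⟩)
  have n1 : j e1 ∈ normalizer (F.map θ : Set G) :=
    nrm (by rintro _ ⟨g, hg, rfl⟩; exact ⟨g, hg, (cm_cj.1 (s.cy g).symm).symm⟩)
  refine ⟨?_, ?_, fun w hw k hk => cjn ?_ hk⟩
  · obtain ⟨n, e⟩ := (hF.map θ).exists_card_eq
    rw [e]
    exact Nat.Coprime.pow_left n (by decide)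
  · rintro _ ⟨g, hg, rfl⟩
    rw [← ht, ← map_mul, c g hg, map_mul]
  · obtain ⟨k, l, m, rfl⟩ := sp w hw
    rw [f.add, f.add, ← f.jpow, ← f.jpow, ← f.jpow, ← hx, ← hy]
    exact mul_mem (mul_mem (pow_mem n1 _) (pow_mem (nn nx) _)) (pow_mem (nn ny) _)

theorem sgO (f : F1 j τ ρ) {θ : Sp →* G} (s : Wk j ρ θ) : SG j ρ (0, 0, 1, -1) (O0.map θ) :=
  sg_of f s O0_two s.p12 O0_cP s.w0 (y := ww 1 * ww 2) (v := e3 + e4) (by rw [map_mul, s.w1, s.w2, f.add])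
    (O0_norm _ fb.2.2.2.2.2.2.1.symm) (O0_norm _ fw.2.2.2.1) (by decide +kernel)

theorem sgE0 (f : F1 j τ ρ) {θ : Sp →* G} (s : Wk j ρ θ) : SG j ρ e2 (E0.map θ) :=
  sg_of f s (two_of E0_sq) s.t0 (fun g hg => E0_comm g hg _ E0_v0.2.1) s.w1 s.w2
    (E0_norm _ fw.2.1) (E0_norm _ fw.2.2.1) (by decide +kernel)

theorem sgE2 (f : F1 j τ ρ) {θ : Sp →* G} (s : Wk j ρ θ) {x : Sp} (h0 : ww 0 * x = x * ww 0)
    (h1 : ww 1 * x = x * ww 1) : SG j ρ e4 ((E2 ⊓ centralizer {x}).map θ) :=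
  sg_of (F := E2 ⊓ centralizer {x}) f s (two_of fun _ hg => E2_sq hg.1) s.t2
    (fun _ hg => MD1.tv_comm (MD1.fg2 ▸ hg.1.1)) s.w0 s.w1
    (fun _ hg => ⟨E2_norm fw.2.2.2.2.1 hg.1, mC.2 (cm_mul (cm_mul h0 (mC.1 hg.2)) (cm_inv h0))⟩)
    (fun _ hg => ⟨E2_norm fw.2.2.2.2.2 hg.1, mC.2 (cm_mul (cm_mul h1 (mC.1 hg.2)) (cm_inv h1))⟩)
    (by decide +kernel)

theorem tau (f : F1 j τ ρ) {θ : Sp →* G} (s : Wk j ρ θ) (x : Sp) :
    τ * θ x * τ⁻¹ = θ (CM.W0 * x * CM.W0⁻¹) := by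
  have e : τ = ρ e1 * θ CM.W0 := by
    rw [CM.W0, map_mul, map_mul, s.t0, s.t1, s.t2]
    refine f.uq rfl (cm_mul (f.ρτ _ (by decide)) (cm_mul (cm_mul (f.ρτ _ (by decide))
      (f.ρτ _ (by decide))) (f.ρτ _ (by decide)))) fun v => ?_
    rw [f.τj, (by decide +kernel : ∀ v : V, -v = rf e1 (rf e2 (rf e3 (rf e4 v)))) v,
      ← f.ρj _ (by decide), ← f.ρj _ (by decide), ← f.ρj _ (by decide), ← f.ρj _ (by decide)]
    group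
  rw [e, ← cm_cj.1 (s.cρ (CM.W0 * x * CM.W0⁻¹)).symm, map_mul, map_mul, map_inv]
  group

variable {θ0 θ1 θ3 : Sp →* G} (h : Fm j τ ρ) (s0 : Wk j ρ θ0)
  (s1 : Std (fun v => j (N1 v)) (fun v => ρ (N1 v)) θ1)
  (s3 : Std (fun v => j (N3 v)) (fun v => ρ (N3 v)) θ3)

include h s0 s1 s3 in
theorem gam (hc : θ0 gC = θ1 a2) : θ1 b2 = θ0 (TT 2 * gC * TT 2) ∧
    θ1 a3 = θ0 (P12 * (ww 1 * (ww 2)⁻¹)) ∧ θ1 b3 = θ0 gB := by
  have f := h.toF1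
  have v := val f s1 s3
  obtain ⟨k1, k2, k3, k4, k5, k6, k7, k8⟩ := fa
  have w : θ0 (ww 1 * (ww 2)⁻¹) = θ1 (ww 2) := by
    rw [map_mul, map_inv, s0.w1, s0.w2, v.w12, ← f.jneg, ← f.add]; exact congrArg j (by decide)
  refine ⟨?_, ?_, by rw [k7, gB_df, map_mul, map_mul θ0, w, v.t12, s0.p12]⟩
  · rw [k5, map_mul, map_mul, map_mul, map_mul, hc, s0.t2, v.p1]
  · rw [k6, map_mul, map_mul θ0, w, v.t12, s0.p12]

include h s1 s3 in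
theorem dc1 {x : Sp} (hx : x ∈ S4) : θ3 d0 * θ1 x * (θ3 d0)⁻¹ = θ1 x :=
  cm_cj.1 (c34 h s1 s3 x hx d0 S4_mem.2.2.2.2.2.2.2.2.2.2.2).symm

include h s1 s3 in
theorem cm_m : θ1 m0 * θ3 a2 = θ3 a2 * θ1 m0 := by
  have f := h.toF1
  have v := val f s1 s3
  obtain ⟨-, ww', -, -, -, tw', -⟩ := sp_rel
  obtain ⟨-, -, -, -, -, -, k7, -, k9, k10, -⟩ := f2
  let F := ((E0 ⊓ centralizer {ww 2}).map θ1).comap θ3
  have hF : F ≤ E2 := by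
    refine E2_max F ?_ ?_ ?_ ?_
    · obtain ⟨n, e⟩ := (two_of (F := F) fun g ⟨x, hx, e⟩ => s3.inj (by
        rw [map_mul, ← e, ← map_mul, E0_sq x hx.1, map_one, map_one])).exists_card_eq
      rw [e]
      exact Nat.Coprime.pow_left n (by decide)
    · rintro g ⟨x, hx, e⟩
      exact s3.inj (by
        rw [map_mul, map_mul, ← e, v.t32, ← v.t10, ← map_mul, E0_comm x hx.1 _ E0_v0.2.1, map_mul])
    · rintro g ⟨x, hx, e⟩
      exact ⟨ww 1 * x * (ww 1)⁻¹, ⟨E0_norm _ fw.2.1 x hx.1,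
        mC.2 (cm_mul (cm_mul (ww' 1 2) (mC.1 hx.2)) (cm_inv (ww' 1 2)))⟩, by
          simp only [map_mul, map_inv, e, v.w11, v.w30]⟩
    · rintro g ⟨x, hx, e⟩
      refine ⟨x, hx, ?_⟩
      rw [map_mul, map_mul, map_inv, ← e, s3.w1, show N3 e3 = (1, 1, 0, 0) by decide,
        cm_cj.1 (v.y1 x).symm]
  have c : ww 0 * m0 * (ww 0)⁻¹ * ww 2 = ww 2 * (ww 0 * m0 * (ww 0)⁻¹) :=
    cm_mul (cm_mul (ww' 0 2) k7) (cm_inv (ww' 0 2))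
  obtain ⟨m, hm⟩ := f.mem' sim_N3 s3 (g := θ1 (ww 0 * m0 * (ww 0)⁻¹)) (n := 2) (by decide)
    (by rw [← map_pow, pow_two, E0_sq _ k9, map_one]) (a := (0, 0, 1, -1))
    (by rw [← v.w12, ← map_mul, c, map_mul θ1 (ww 2)]) (by decide)
  have := congrArg θ3 (E2_comm m (hF ⟨_, ⟨k9, mC.2 c⟩, hm⟩) _ k10)
  rw [map_mul, map_mul θ3 _ m, ← hm] at this
  simp only [map_mul, map_inv, v.w10, v.w32] at this
  exact cm_of_cj _ this

include h s0 s1 s3 in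
theorem cm_ba : θ1 b1 * (θ3 d0 * θ0 (hh⁻¹ * a1 * hh) * (θ3 d0)⁻¹) =
    θ3 d0 * θ0 (hh⁻¹ * a1 * hh) * (θ3 d0)⁻¹ * θ1 b1 := by
  have f := h.toF1
  have v := val f s1 s3
  obtain ⟨k1, k2, k3, k4, k5, k6, k7, k8, -⟩ := f2
  obtain ⟨m, hm⟩ := f.mem' sim_N3 s3 (g := θ1 m0) (n := 2) (by decide)
    (by rw [← map_pow, pow_two, k6, map_one])
    (a := (0, 0, 1, -1)) (by rw [← v.w12, ← map_mul, k7, map_mul]) (by decide)
  have mO : gd⁻¹ * m * gd ∈ O0 := by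
    refine O0_of _ ?_ ?_ ?_
    · have : m * a2 = a2 * m := s3.inj (by rw [map_mul, map_mul, ← hm, cm_m h s1 s3])
      have := cm_conj this gd⁻¹
      rwa [← k1, inv_inv, show gd⁻¹ * (gd * P12 * gd⁻¹) * gd = P12 by group] at this
    · have : m * m = 1 := s3.inj (by rw [map_mul, ← hm, ← map_mul, k6, map_one, map_one])
      calc _ = gd⁻¹ * (m * m) * gd := by group
        _ = 1 := by rw [this]; group
    · have : m * (ww 0 * m * (ww 0)⁻¹) * ((ww 0)⁻¹ * m * ww 0) = 1 := s3.inj (by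
        have := congrArg θ1 k8
        simp only [map_mul, map_inv, map_one, v.w11, hm] at this
        simp only [map_mul, map_inv, map_one, v.w30, this])
      have e : ww 0 = gd⁻¹ * ww 0 * gd := by rw [mul_assoc, ← k2, inv_mul_cancel_left]
      calc _ = gd⁻¹ * m * gd * ((gd⁻¹ * ww 0 * gd) * (gd⁻¹ * m * gd) * (gd⁻¹ * ww 0 * gd)⁻¹) *
            ((gd⁻¹ * ww 0 * gd)⁻¹ * (gd⁻¹ * m * gd) * (gd⁻¹ * ww 0 * gd)) := by rw [← e]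
        _ = gd⁻¹ * (m * (ww 0 * m * (ww 0)⁻¹) * ((ww 0)⁻¹ * m * ww 0)) * gd := by group
        _ = 1 := by rw [this]; group
  have S := (f.sgcomp sim_N3 (sgO (f.comp sim_N3) (wk s3)) (a' := e2) (by decide)).sig sim_Nc (by decide)
  have S' := (sgE0 f s0).sig sim_Nc (by decide)
  have := qa_sga (h.comp sim_Nc (by decide +kernel)) S S' (by
      rintro _ ⟨x, -, rfl⟩
      rw [show Nc e2 = e1 by decide, s0.cy])
    (d := 1) (by simp) _ ⟨_, mul_mem k3 mO, rfl⟩ _ ⟨_, k4, rfl⟩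
  have b : θ1 b1 = θ3 b3 * θ3 m := by
    rw [k5, fa.2.2.2.2.2.2.1, map_mul, map_mul, map_mul, hm, v.w10, v.t10, v.w32, v.t32]
  have g : θ3 gd = θ3 d0 * θ0 (ww 0) := by rw [gd, map_mul, v.w3, s0.w0]
  refine cm_of_cj (θ3 gd)⁻¹ ?_
  convert this using 2
  · rw [b]; simp only [map_mul, map_inv]; group
  · rw [g]; simp only [map_mul θ0 _ (ww 0), map_mul θ0 (ww 0)⁻¹, map_inv]; group
  · rw [g]; simp only [map_mul θ0 _ (ww 0), map_mul θ0 (ww 0)⁻¹, map_inv]; group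
  · rw [b]; simp only [map_mul, map_inv]; group

end CMp

open CMp

theorem cm' (h : Fm j τ ρ) {θ0 θ1 : Sp →* G} (c : F4c j ρ θ0 θ1) :
    ∃ (θ2 : Sp →* G) (d : G), CTd θ1 θ2 ∧ d ∈ θ1.range ⊔ θ2.range ∧
      d * j (0, 0, 1, -1) = j (0, 0, 1, -1) * d ∧ ∀ g, g ∈ θ2.range ↔ d⁻¹ * g * d ∈ θ0.range := by
  have f := h.toF1
  have s0 : Wk j ρ θ0 := ⟨c.c0.inj, c.c0.cy, c.c0.cs, c.c0.w 0, c.c0.w 1, c.c0.w 2, c.t 0, c.t 1, c.t 2,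
    c.p01, c.p12⟩
  have s1 := c.s1
  obtain ⟨θ3, s3⟩ := h.all _ sim_N3 (by decide)
  have v := CMp.val f s1 s3
  obtain ⟨θ2, h2⟩ : ∃ θ2 : Sp →* G, ∀ x, θ2 x = θ3 d0 * θ0 (hh⁻¹ * x * hh) * (θ3 d0)⁻¹ :=
    ⟨(MulAut.conj (θ3 d0)).toMonoidHom.comp (θ0.comp (MulAut.conj hh⁻¹).toMonoidHom), fun x => by simp⟩
  obtain ⟨g2, g3, g4⟩ := CMp.gam h s0 s1 s3 c.γ
  obtain ⟨-, -, -, -, m5, -, -, m8, m9, m10, m11, -⟩ := S4_mem
  have ra2 : θ1 a2 = θ2 a3 := by rw [h2, fh.1, c.γ, CMp.dc1 h s1 s3 m8]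
  have rb2 : θ1 b2 = θ2 b3 := by rw [h2, fh.2.1, ← g2, CMp.dc1 h s1 s3 m9]
  have ra3 : θ1 a3 = θ2 a2 := by rw [h2, fh.2.2.1, ← g3, CMp.dc1 h s1 s3 m10]
  have rb3 : θ1 b3 = θ2 b2 := by rw [h2, fh.2.2.2, ← g4, CMp.dc1 h s1 s3 m11]
  have aa : θ1 a1 * θ2 a1 = θ2 a1 * θ1 a1 := by
    have S := (f.sgcomp sim_N1 (CMp.sgO (f.comp sim_N1) (wk s1)) (a' := e4) (by decide)).sig sim_Na
      (by decide)
    have S' := (CMp.sgE2 f s0 fw.1 rfl).sig sim_Na (by decide)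
    have := qa_sga (h.comp sim_Na (by decide +kernel)) S S' (by
        rintro _ ⟨x, hx, rfl⟩
        rw [show Na e2 = e3 by decide, ← s0.w1, ← map_mul, mC.1 hx.2, map_mul])
      (d := θ3 d0) (by
        rw [show Na e1 = e4 by decide, ← v.p1]
        exact cm_cj.2 (CMp.dc1 h s1 s3 m5)) _ ⟨_, f1.1, rfl⟩ _ ⟨_, ⟨f1.2.1, mC.2 f1.2.2⟩, rfl⟩
    rw [← h2] at this
    refine cm_of_cj (θ1 (a3 * a2 * b3))⁻¹ ?_
    simpa only [map_mul, map_inv, inv_inv, ← ra2, ← ra3, ← rb3] using this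
  have ba : θ1 b1 * θ2 a1 = θ2 a1 * θ1 b1 := by rw [h2]; exact CMp.cm_ba h s0 s1 s3
  have t1 := CMp.tau (f.comp sim_N1) (wk s1)
  have t2 : τ * θ2 a1 * τ⁻¹ = θ2 b1 := by
    have := CMp.tau (f.comp sim_N3) (wk s3) d0
    rw [fd.2.2.1] at this
    rw [h2, h2, ← fW.2.2, ← CMp.tau f s0, ← conj_mul, ← conj_mul, ← conj_inv, this]
  have r : ∀ g, g ∈ θ2.range ↔ (θ3 d0)⁻¹ * g * θ3 d0 ∈ θ0.range := fun g =>
    ⟨fun ⟨x, e⟩ => ⟨hh⁻¹ * x * hh, by rw [← e, h2]; group⟩,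
      fun ⟨x, e⟩ => ⟨hh * x * hh⁻¹, by
        rw [h2, show hh⁻¹ * (hh * x * hh⁻¹) * hh = x by group, e]; group⟩⟩
  refine ⟨θ2, θ3 d0, ⟨ra2, rb2, ra3, rb3, aa, ?_, ba, ?_⟩, ?_, v.y3 _, r⟩
  · have := cm_conj ba τ
    rwa [t1, t2, fW.2.1] at this
  · have := cm_conj aa τ
    rwa [t1, t2, fW.1] at this
  · have m1 : θ3 a2 ∈ θ1.range ⊔ θ2.range := mem_sup_right ((r _).2 ⟨TT 0 * ww 0, by
      rw [fd.2.2.2.1, map_mul θ3, map_mul θ3, map_mul θ3, v.p3, v.w3, map_mul, s0.t0, s0.w0, map_inv]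
      group⟩)
    have m2 : θ3 b2 ∈ θ1.range ⊔ θ2.range := mem_sup_right ((r _).2 ⟨ww 0 * TT 0, by
      rw [fd.2.2.2.2.1, map_mul θ3, map_mul θ3, map_mul θ3, v.p3, v.w3, map_mul, s0.t0, s0.w0, map_inv]
      group⟩)
    have m3 : θ3 a3 ∈ θ1.range ⊔ θ2.range := mem_sup_left ⟨TT 0 * ww 0, by
      rw [fa.2.2.2.2.2.1, map_mul, map_mul, v.t10, v.w10, v.t32, v.w32]⟩
    have m4 : θ3 b3 ∈ θ1.range ⊔ θ2.range := mem_sup_left ⟨ww 0 * TT 0, by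
      rw [fa.2.2.2.2.2.2.1, map_mul, map_mul, v.t10, v.w10, v.t32, v.w32]⟩
    rw [fd.1, map_mul, map_mul, map_mul, map_mul, map_mul]
    exact mul_mem (mul_mem (mul_mem (mul_mem (mul_mem m1 m3) m1) m2) m4) m2

end H29.S6
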