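import Cfsg.Agent.Lib.S6.Defs

/-! S6, package GEN (see blueprint/S6/README.md). -/

set_option autoImplicit false
set_option linter.unusedSectionVars false

namespace H29.S6

open Subgroup Cfsg H29.F42
open H87.U6 (F3 V lin)
open H75.L7 (Nm T Ch2 Rk3)

variable {G : Type*} [Group G] [Finite G] {j ρ : V → G} {τ : G} {θ θ' : Sp →* G} {D : Subgroup G}

namespace GEN

/-- the plane spanned by `x0` and `y` contains the kernel of a non-zero form -/
def Pl (x0 y : X3) : Prop := ∃ φ : X3, φ ≠ 0 ∧ ∀ x, dot φ x = 0 → ∃ a c : F3, x = a • x0 + c • y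

theorem eqns_GEN : True := by
  have := @Pl.eq_1
  trivial

instance (x0 y : X3) : Decidable (Pl x0 y) := by unfold Pl; infer_instance

theorem core {X : Subgroup G} {a c : G} (a3 : a ^ 3 = 1) (c3 : c ^ 3 = 1) (ac : a * c = c * a) (na : Nm a X)
    (nc : Nm c X) (h1 : ∀ k ∈ X, Commute k (a * c) → k = 1) (h2 : ∀ k ∈ X, Commute k (a * c⁻¹) → k = 1)
    {v w : G} (hv : v ∈ X) (hw : w ∈ X) (vc : v * c = c * v) (wa : w * a = a * w) :
    v * w = w * v ∧ v * (a * v * a⁻¹) * (a⁻¹ * v * a) = 1 := by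
  have cm : Commute a c := ac
  have p1 : (a * c) ^ 3 = 1 := by rw [cm.mul_pow, a3, c3, mul_one]
  have p2 : (a * c⁻¹) ^ 3 = 1 := by rw [cm.inv_right.mul_pow, a3, inv_pow, c3, inv_one, mul_one]
  have n1 := na.mul nc
  have n2 := na.mul nc.inv
  have cj : ∀ {x y z k : G}, Commute x y → Commute k y → z = x * y →
      z * k * z⁻¹ = x * k * x⁻¹ ∧ z⁻¹ * k * z = x⁻¹ * k * x := fun {x y z k} xy ky e => by
    constructor
    · rw [e, mul_assoc x, ← ky.eq]; group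
    · rw [e, xy.eq, _root_.mul_inv_rev, mul_assoc x⁻¹, ← ky.inv_right.eq]; group
  refine ⟨?_, by
    have := H75.L7.fpf3 p1 n1 h1 hv
    rwa [(cj cm vc rfl).1, (cj cm vc rfl).2] at this⟩
  have nY : Nm c (X ⊓ centralizer {a}) := nc.inf fun x hx => H87.U6.mC.2 (by
    have := H87.U6.cm_conj (H87.U6.mC.1 hx) c
    rwa [H87.U6.cm_cj.1 ac.symm] at this)
  have fY : ∀ x ∈ X ⊓ centralizer {a}, Commute x c → x = 1 := fun x hx e =>
    h1 x hx.1 ((show Commute x a from H87.U6.mC.1 hx.2).mul_right e)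
  obtain ⟨x, hx, e⟩ := H75.L7.fpf_comm nY.inv (fun x hx e => fY x hx (Commute.inv_right_iff.1 e))
    (mem_inf.2 ⟨hw, H87.U6.mC.2 wa⟩)
  -- `u` with `c⁻¹ u c = x⁻¹`, `t` with `a⁻¹ t a = v`
  have hu : c * x⁻¹ * c⁻¹ ∈ X ⊓ centralizer {a} := nY _ (inv_mem hx)
  have ht : a * v * a⁻¹ ∈ X := na v hv
  have tc : Commute (a * v * a⁻¹) c := by
    have := H87.U6.cm_conj vc a
    rwa [H87.U6.cm_cj.1 ac] at this
  generalize eu : c * x⁻¹ * c⁻¹ = u at hu
  generalize et : a * v * a⁻¹ = t at ht tc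
  have ua : Commute u a := H87.U6.mC.1 hu.2
  have m := mul_mem ht hu.1
  have f1 := H75.L7.fpf3 p1 n1 h1 m
  have f2 := H75.L7.fpf3 p2 n2 h2 m
  have sp : ∀ z : G, z * (t * u) * z⁻¹ = z * t * z⁻¹ * (z * u * z⁻¹) ∧
      z⁻¹ * (t * u) * z = z⁻¹ * t * z * (z⁻¹ * u * z) := fun z => ⟨by group, by group⟩
  rw [(sp _).1, (sp _).2, (cj cm tc rfl).1, (cj cm tc rfl).2, (cj cm.symm ua ac).1, (cj cm.symm ua ac).2] at f1
  rw [(sp _).1, (sp _).2, (cj cm.inv_right tc.inv_right rfl).1, (cj cm.inv_right tc.inv_right rfl).2,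
    (cj cm.inv_right.symm ua cm.inv_right.eq).1, (cj cm.inv_right.symm ua cm.inv_right.eq).2, inv_inv] at f2
  have e1 : a⁻¹ * t * a = v := by rw [← et]; group
  have e2 : c⁻¹ * u * c = x⁻¹ := by rw [← eu]; group
  rw [e1, e2] at f1 f2
  have e3 : c * u * c⁻¹ = x⁻¹ * w := by
    have c2 : c⁻¹ = c * c := H87.Mc.inv3 c3
    calc _ = (c * c) * x⁻¹ * (c * c)⁻¹ := by rw [← eu]; group
      _ = _ := by rw [← c2, ← e]; group
  have cw : Commute x⁻¹ w := by
    have := H75.L7.fpf3_comm (c := c⁻¹) (by rw [inv_pow, c3, inv_one]) nY.inv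
      (fun x hx e => fY x hx (Commute.inv_right_iff.1 e)) (inv_mem hx)
    rw [← e, mul_assoc, mul_assoc, ← mul_assoc c⁻¹]
    exact (Commute.refl x).inv_left.mul_right this
  rw [e3] at f1 f2
  have e4 : w * (v * x⁻¹) = v * (x⁻¹ * w) := by
    have := f1.trans f2.symm
    simp only [mul_assoc] at this
    simpa only [mul_right_inj] using this
  rw [cw.eq, ← mul_assoc, ← mul_assoc] at e4
  exact (mul_right_cancel e4).symm

theorem cjK {K : Subgroup G} (hK : (Nat.card K).Coprime 3) {x u : G} (x3 : x ^ 3 = 1) (n : Nm x K) (hu : u ∈ K)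
    (e : (u * x) ^ 3 = 1) : ∃ k ∈ K, k * (u * x) * k⁻¹ = x := by
  have := Fact.mk Nat.prime_three
  have p3 : ∀ {y : G}, y ^ 3 = 1 → IsPGroup 3 (zpowers y) := fun h => H87.Mc.pgz (k := 1) (by simpa using h)
  obtain ⟨S, k, hk, h1, h2⟩ := H4.exists_conj_le_common_sylow (K := zpowers x ⊔ K) (p3 x3) le_sup_left (p3 e)
    (zpowers_le.2 (mul_mem (mem_sup_right hu) (mem_sup_left (mem_zpowers x))))
  rw [← SetLike.mem_coe, coe_mul_of_left_le_normalizer_right _ _ (H75.L7.zp_le n)] at hk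
  obtain ⟨y, hy, q, hq, rfl⟩ := hk
  have m := h2 _ (mem_zpowers _)
  have m1 : q * (u * x) * q⁻¹ * x⁻¹ ∈ (S : Subgroup G) := by
    refine mul_mem ?_ (inv_mem (h1 (mem_zpowers x)))
    have := mul_mem (mul_mem (inv_mem (h1 hy)) m) (h1 hy)
    rwa [show y⁻¹ * (y * q * (u * x) * (y * q)⁻¹) * y = q * (u * x) * q⁻¹ by group] at this
  have m2 : q * (u * x) * q⁻¹ * x⁻¹ ∈ K := by
    rw [show q * (u * x) * q⁻¹ * x⁻¹ = q * u * (x * q⁻¹ * x⁻¹) by group]
    exact mul_mem (mul_mem hq hu) (n _ (inv_mem hq))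
  obtain ⟨i, hi⟩ := S.2 ⟨_, m1⟩
  exact ⟨q, hq, mul_inv_eq_one.1 (H87.U6.eq_one_of_cop hK m2 (congrArg Subtype.val hi))⟩

end GEN

theorem gen27 {K B : Subgroup G} (hK : (Nat.card K).Coprime 3) (η : X3 → G)
    (add : ∀ x y, η (x + y) = η x * η y) (inj : ∀ x, η x = 1 → x = 0) (n : ∀ x, Nm (η x) K)
    (h : ∀ φ : X3, φ ≠ 0 → ∀ k ∈ K, (∀ x, dot φ x = 0 → k * η x = η x * k) → k ∈ B) : K ≤ B := by
  have z : η 0 = 1 := by simpa using add 0 0
  have ng : ∀ x, η (-x) = (η x)⁻¹ := fun x => eq_inv_of_mul_eq_one_left (by rw [← add, neg_add_cancel, z])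
  have e3 : ∀ x, η x ^ 3 = 1 := fun x => by
    rw [pow_succ, pow_two, ← add, ← add, (by decide : ∀ x : X3, x + x + x = 0), z]
  have cm : ∀ x y, η x * η y = η y * η x := fun x y => by rw [← add, add_comm, add]
  have sm : ∀ {k x}, k * η x = η x * k → ∀ a : F3, k * η (a • x) = η (a • x) * k := fun {k x} e a => by
    rcases H87.U6.f3_cases a with rfl | rfl | rfl
    · rw [zero_smul, z, mul_one, one_mul]
    · rwa [one_smul]
    · rw [two_smul, add]; exact (H87.U6.cm_mul e.symm e.symm).symm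
  have g9 : ∀ {L : Subgroup G} (x y : X3), (Nat.card L).Coprime 3 → x ≠ 0 → y ≠ 0 → y ≠ x → y ≠ -x →
      (∀ x, Nm (η x) L) → (∀ u, u = x ∨ u = y ∨ u = x + y ∨ u = x + -y → ∀ k ∈ L, k * η u = η u * k → k ∈ B) →
      L ≤ B := fun {L} x y hL x0 y0 y1 y2 nL hh => by
    have ii : ∀ {u v}, η u = η v → u = v := fun {u v} e =>
      sub_eq_zero.1 (inj _ (by rw [sub_eq_add_neg, add, ng, e, mul_inv_cancel]))
    refine H87.U6.gen9 hL (e3 x) (e3 y) (cm x y) (fun e => x0 (inj _ e)) (fun e => ?_) (nL x) (nL y)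
      (hh x (by simp)) (hh y (by simp)) (add x y ▸ hh _ (by simp)) (ng y ▸ add x (-y) ▸ hh _ (by simp))
    rcases (H87.Mc.mem_z3 (e3 x)).1 e with e | e | e
    exacts [y0 (inj _ e), y1 (ii e), y2 (ii (e.trans (ng x).symm))]
  have st : ∀ x0 y : X3, y ≠ 0 → y ≠ (0, 0, 1) → y ≠ -(0, 0, 1) →
      (∀ u, u = (0, 0, 1) ∨ u = y ∨ u = (0, 0, 1) + y ∨ u = (0, 0, 1) + -y → GEN.Pl x0 u) →
      ∀ k ∈ K, k * η x0 = η x0 * k → k ∈ B := fun x0 y y0 y1 y2 pl k hk e => by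
    refine g9 (L := K ⊓ centralizer {η x0}) (0, 0, 1) y (hK.coprime_dvd_left (card_dvd_of_le inf_le_left))
      (by decide) y0 y1 y2 (fun x => (n x).inf fun g hg => H87.U6.mC.2 ?_) (fun u hu g hg e' => ?_)
      (mem_inf.2 ⟨hk, H87.U6.mC.2 e⟩)
    · have := H87.U6.cm_conj (H87.U6.mC.1 hg) (η x)
      rwa [H87.U6.cm_cj.1 (cm x x0)] at this
    · obtain ⟨φ, φ0, hφ⟩ := pl u hu
      refine h φ φ0 g hg.1 fun x hx => ?_
      obtain ⟨a, c, rfl⟩ := hφ x hx
      rw [add]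
      exact (H87.U6.cm_mul (sm (H87.U6.mC.1 hg.2) a).symm (sm e' c).symm).symm
  refine g9 (1, 0, 0) (0, 1, 0) hK (by decide) (by decide) (by decide) (by decide) n fun u hu => ?_
  rcases hu with rfl | rfl | rfl | rfl
  · exact st _ (0, 1, 0) (by decide) (by decide) (by decide) (by decide +kernel)
  all_goals exact st _ (1, 0, 0) (by decide) (by decide) (by decide) (by decide +kernel)

theorem bil {K : Subgroup G} (hK : (Nat.card K).Coprime 3) {s a c : G} (s2 : s * s = 1) (sK : s ∈ K)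
    (cK : ∀ k ∈ K, k * s = s * k) (sa : a * s = s * a) (sc : c * s = s * c) (a3 : a ^ 3 = 1)
    (c3 : c ^ 3 = 1) (ac : a * c = c * a) (na : Nm a K) (nc : Nm c K)
    (h1 : ∀ k ∈ K, k * (a * c) = a * c * k → k = 1 ∨ k = s)
    (h2 : ∀ k ∈ K, k * (a * c⁻¹) = a * c⁻¹ * k → k = 1 ∨ k = s) :
    ∀ v ∈ K, ∀ w ∈ K, v * c = c * v → w * a = a * w → v * w = w * v := by
  have _ := hK
  have _ := sK
  let N : Subgroup G := centralizer {s}
  let s' : N := ⟨s, H87.U6.mC.2 rfl⟩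
  have s2' : s' * s' = 1 := Subtype.ext s2
  have cs : ∀ g : N, g * s' = s' * g := fun g => Subtype.ext (H87.U6.mC.1 g.2)
  haveI : (zpowers s').Normal := ⟨fun x hx g => H75.L7.nm_zp (cs g) x hx⟩
  let π := QuotientGroup.mk' (zpowers s')
  have key : ∀ g h : N, π g = π h → (h : G) = g ∨ (h : G) = g * s := fun g h e => by
    rcases (H87.U6.mem_z2 s2').1 (QuotientGroup.eq.1 e) with e | e
    · exact Or.inl (congrArg Subtype.val (inv_mul_eq_one.1 e).symm)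
    · exact Or.inr (congrArg Subtype.val (inv_mul_eq_iff_eq_mul.1 e))
  let a' : N := ⟨a, H87.U6.mC.2 sa⟩
  let c' : N := ⟨c, H87.U6.mC.2 sc⟩
  have fp : ∀ x : N, (x : G) ^ 3 = 1 → (∀ k ∈ K, k * x = x * k → k = 1 ∨ k = s) →
      ∀ k ∈ (K.comap N.subtype).map π, Commute k (π x) → k = 1 := by
    rintro x x3 hx _ ⟨k, hk, rfl⟩ e
    have e1 : π x = π (k * x * k⁻¹) := by rw [map_mul, map_mul, map_inv, e.eq, mul_inv_cancel_right]
    rcases hx k hk (H87.U6.cm_of_mod x3 s2 (H87.U6.mC.1 x.2) (key _ _ e1)) with e | e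
    · rw [show k = 1 from Subtype.ext e, map_one]
    · rw [show k = s' from Subtype.ext e]
      exact (QuotientGroup.eq_one_iff _).2 (mem_zpowers _)
  have cm : Commute a c := ac
  have co : ∀ v ∈ K, ∀ w ∈ K, v * c = c * v → w * a = a * w → (v * w = w * v ∨ v * w = w * v * s) ∧
      (v * (a * v * a⁻¹) * (a⁻¹ * v * a) = 1 ∨ v * (a * v * a⁻¹) * (a⁻¹ * v * a) = 1 * s) :=
    fun v hv w hw vc wa => by
    let v' : N := ⟨v, H87.U6.mC.2 (cK v hv)⟩
    let w' : N := ⟨w, H87.U6.mC.2 (cK w hw)⟩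
    have := GEN.core (X := (K.comap N.subtype).map π) (a := π a') (c := π c') (v := π v') (w := π w')
      (by rw [← map_pow, show a' ^ 3 = 1 from Subtype.ext a3, map_one])
      (by rw [← map_pow, show c' ^ 3 = 1 from Subtype.ext c3, map_one])
      (by rw [← map_mul, ← map_mul, show a' * c' = c' * a' from Subtype.ext ac])
      (Nm.map π (Nm.comap N.subtype na)) (Nm.map π (Nm.comap N.subtype nc))
      (by rw [← map_mul]; exact fp (a' * c') (show (a * c) ^ 3 = 1 by rw [cm.mul_pow, a3, c3, mul_one]) h1)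
      (by
        rw [← map_inv, ← map_mul]
        exact fp (a' * c'⁻¹)
          (show (a * c⁻¹) ^ 3 = 1 by rw [cm.inv_right.mul_pow, a3, inv_pow, c3, inv_one, mul_one]) h2)
      ⟨v', hv, rfl⟩ ⟨w', hw, rfl⟩
      (by rw [← map_mul, ← map_mul, show v' * c' = c' * v' from Subtype.ext vc])
      (by rw [← map_mul, ← map_mul, show w' * a' = a' * w' from Subtype.ext wa])
    refine ⟨key (w' * v') (v' * w') ?_, key 1 (v' * (a' * v' * a'⁻¹) * (a'⁻¹ * v' * a')) ?_⟩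
    · rw [map_mul, map_mul, this.1]
    · simp only [map_mul, map_inv, map_one, this.2]
  intro v hv w hw vc wa
  obtain ⟨e | e, e'⟩ := co v hv w hw vc wa
  · exact e
  have cj : ∀ g : G, g * s = s * g → w * g = g * w → g * v * g⁻¹ * w = w * (g * v * g⁻¹) * s := fun g gs gw => by
    calc _ = g * (v * w) * g⁻¹ := by
            rw [mul_assoc (g * v), H87.U6.cm_inv gw.symm]; group
      _ = _ := by
            rw [e, ← mul_assoc g, ← mul_assoc g, ← gw, mul_assoc _ s, ← H87.U6.cm_inv gs]; group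
  have e1 := cj a sa wa
  have e2 := cj a⁻¹ (H87.U6.cm_inv sa) (H87.U6.cm_inv wa.symm).symm
  rw [inv_inv] at e2
  have m1 := cK _ (na v hv)
  have m2 := cK _ (na.inv v hv)
  rw [inv_inv] at m2
  generalize a * v * a⁻¹ = v1 at e' e1 m1
  generalize a⁻¹ * v * a = v2 at e' e2 m2
  have e3 : v * v1 * v2 * w = w * (v * v1 * v2) * s := by
    calc v * v1 * v2 * w = v * (v1 * w) * v2 * s := by rw [mul_assoc _ v2, e2]; group
      _ = v * w * v1 * (s * v2) * s := by rw [e1]; group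
      _ = w * v * (s * v1) * v2 * (s * s) := by rw [e, ← m2]; group
      _ = w * v * v1 * (s * v2) := by rw [s2, ← m1]; group
      _ = _ := by rw [← m2]; group
  have s1 : s = 1 := by
    rcases e' with e' | e' <;> rw [e'] at e3
    · simpa using e3
    · rw [one_mul, mul_assoc, s2, mul_one, mul_eq_right] at e3; exact e3
  rw [e, s1, mul_one]

theorem cj3 {Q : Subgroup G} (hQ : IsPGroup 2 Q) {x u : G} (x3 : x ^ 3 = 1) (n : Nm x Q) (hu : u ∈ Q)
    (e : (u * x) ^ 3 = 1) : ∃ k ∈ Q, k * (u * x) * k⁻¹ = x :=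
  GEN.cjK (H1.coprime_card_of_isPGroup_of_coprime hQ (by norm_num)) x3 n hu e

theorem lift {Y : Type*} [Group Y] (ψ : G →* Y) (hk : IsPGroup 2 ψ.ker) {w g : G} (w3 : w ^ 3 = 1)
    {p : ℕ} (hp : p = 5 ∨ p = 7) (e : ψ g ^ p = 1) (c : ψ g * ψ w = ψ w * ψ g) :
    ∃ x, ψ x = ψ g ∧ x ^ p = 1 ∧ x * w = w * x := by
  have cm : Commute (ψ g) (ψ w) := c
  have w3' : ψ w ^ 3 = 1 := by rw [← map_pow, w3, map_one]
  obtain ⟨k, hz⟩ := H75.L7.two_pow hk (r := (g * w) ^ (3 * p)) (by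
    rw [MonoidHom.mem_ker, map_pow, map_mul, cm.mul_pow, mul_comm 3 p, pow_mul, e, mul_comm p 3, pow_mul, w3']
    simp)
  rw [← pow_mul] at hz
  obtain ⟨m, -, hm⟩ := Nat.exists_mul_mod_eq_one_of_coprime (n := 3 * 2 ^ k) (k := p)
    (Nat.Coprime.mul_left (by rcases hp with rfl | rfl <;> norm_num)
      (Nat.Coprime.pow_left k (by rcases hp with rfl | rfl <;> norm_num))) (by omega)
  obtain ⟨m', -, hm'⟩ := Nat.exists_mul_mod_eq_one_of_coprime (n := p * 2 ^ k) (k := 3)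
    (Nat.Coprime.mul_left (by rcases hp with rfl | rfl <;> norm_num)
      (Nat.Coprime.pow_left k (by norm_num))) (by omega)
  have x1 : ψ ((g * w) ^ (3 * 2 ^ k * m)) = ψ g := by
    rw [map_pow, map_mul, cm.mul_pow, pow_eq_pow_mod _ e, hm, pow_one, mul_assoc, pow_mul, w3', one_pow, mul_one]
  have x2 : ψ ((g * w) ^ (p * 2 ^ k * m')) = ψ w := by
    rw [map_pow, map_mul, cm.mul_pow, pow_eq_pow_mod _ w3', hm', pow_one, mul_assoc, pow_mul, e, one_pow, one_mul]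
  have x3 : ((g * w) ^ (3 * 2 ^ k * m)) ^ p = 1 := by
    rw [← pow_mul, show 3 * 2 ^ k * m * p = 3 * p * 2 ^ k * m by ring, pow_mul, hz, one_pow]
  have x4 : ((g * w) ^ (p * 2 ^ k * m')) ^ 3 = 1 := by
    rw [← pow_mul, show p * 2 ^ k * m' * 3 = 3 * p * 2 ^ k * m' by ring, pow_mul, hz, one_pow]
  have x5 := ((Commute.refl (g * w)).pow_pow (3 * 2 ^ k * m) (p * 2 ^ k * m')).eq
  generalize (g * w) ^ (3 * 2 ^ k * m) = x at x1 x3 x5
  generalize (g * w) ^ (p * 2 ^ k * m') = y at x2 x4 x5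
  obtain ⟨q, hq, eq⟩ := cj3 hk w3 (fun r hr => ψ.normal_ker.conj_mem r hr w) (u := y * w⁻¹)
    (by rw [MonoidHom.mem_ker, map_mul, map_inv, x2, mul_inv_cancel]) (by rwa [inv_mul_cancel_right])
  rw [inv_mul_cancel_right] at eq
  refine ⟨q * x * q⁻¹, ?_, by rw [conj_pow, x3]; group, eq ▸ H87.U6.cm_conj x5 q⟩
  rw [map_mul, map_mul, map_inv, x1, MonoidHom.mem_ker.1 hq]; group

theorem inv_syl {K B : Subgroup G} (hK : (Nat.card K).Coprime 3) (hB : IsPGroup 3 B)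
    (n : ∀ a ∈ B, Nm a K) {p : ℕ} [Fact p.Prime] (hp : p ∣ Nat.card K) :
    ∃ P ≤ K, P ≠ ⊥ ∧ IsPGroup p P ∧ ∀ a ∈ B, Nm a P := by
  have := Fact.mk Nat.prime_three
  obtain ⟨P, hP, nP⟩ := H2.exists_invariant_sylowIn (A := B) (K := K) (fun a ha => (n a ha).mem)
    (H1.coprime_card_of_isPGroup_of_coprime hB hK) (Or.inl (by haveI := hB.isNilpotent; infer_instance)) p
  refine ⟨P, hP.le, fun e => ?_, hP.isPGroup, fun a ha => H75.L7.nm_of_mem (nP ha)⟩
  refine hP.toSylow.ne_bot_of_dvd_card hp ?_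
  rw [hP.coe_toSylow, e, bot_subgroupOf]

theorem ker2 (H : Ch2 G) {s g : G} (s2 : s * s = 1) (s1 : s ≠ 1) (c : g * s = s * g)
    (h : ∀ a ∈ T (zpowers s), g * a * g⁻¹ = a ∨ g * a * g⁻¹ = a * s) : g ∈ T (zpowers s) := by
  let M : Subgroup G := sgOf
    { carrier := {g | g * s = s * g ∧ ∀ a ∈ T (zpowers s), g * a * g⁻¹ = a ∨ g * a * g⁻¹ = a * s}
      one_mem' := ⟨by simp, fun a _ => Or.inl (by simp)⟩
      mul_mem' := fun {x y} hx hy => ⟨H87.U6.cm_mul hx.1 hy.1, fun a ha => by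
        rw [show x * y * a * (x * y)⁻¹ = x * (y * a * y⁻¹) * x⁻¹ by group]
        rcases hy.2 a ha with e | e <;> rw [e]
        · exact hx.2 a ha
        · rw [← conj_mul, H87.U6.cm_cj.1 hx.1]
          rcases hx.2 a ha with e | e <;> rw [e]
          exacts [Or.inr rfl, Or.inl (by rw [mul_assoc, s2, mul_one])]⟩ }
  have mM : ∀ g, g ∈ M ↔ g * s = s * g ∧ ∀ a ∈ T (zpowers s), g * a * g⁻¹ = a ∨ g * a * g⁻¹ = a * s :=
    fun g => Iff.rfl
  refine H75.L7.le_T (Y := M) (H75.L7.two_of_pow fun r hr => ?_) (fun y hy => H75.L7.nm_zp hy.1)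
    (fun x hx y hy => ?_) ((mM g).2 ⟨c, h⟩)
  · obtain ⟨k, hk⟩ := H75.L7.two_pow (H75.L7.T_two _) (H.mem (H75.L7.two_zp s2) (by simpa using s1) (g := r * r)
      fun t ht => H75.L7.comm_of_conj_eq (by
        rw [show r * r * t * (r * r)⁻¹ = r * (r * t * r⁻¹) * r⁻¹ by group]
        rcases hr.2 t ht with e | e
        · rw [e, e]
        · rw [e, ← conj_mul, e, H87.U6.cm_cj.1 hr.1, mul_assoc, s2, mul_one]))
    exact ⟨k + 1, by rw [pow_succ', pow_mul, pow_two, hk]⟩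
  · have xs : x * s = s * x := H75.L7.comm_of_nm_zp s2 hx
    refine (mM _).2 ⟨H87.U6.cm_mul (H87.U6.cm_mul xs hy.1) (H87.U6.cm_inv xs), fun a ha => ?_⟩
    rw [show x * y * x⁻¹ * a * (x * y * x⁻¹)⁻¹ = x * (y * (x⁻¹ * a * x⁻¹⁻¹) * y⁻¹) * x⁻¹ by group]
    rcases hy.2 _ (hx.inv.T a ha) with e | e <;> rw [e]
    · exact Or.inl (by group)
    · exact Or.inr (by rw [← conj_mul, H87.U6.cm_cj.1 xs]; group)

end H29.S6
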