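import Cfsg.Agent.Lib.S6.MDb
import Cfsg.Agent.Lib.F42.MD2a
import Cfsg.Agent.Lib.ClassMax.C8Low

/-! S6, package MX (see blueprint/S6/README.md). -/

set_option autoImplicit false
set_option linter.unusedSectionVars false
set_option synthInstance.maxSize 4000

namespace H29.S6

open Subgroup Cfsg H29.F42
open H87.U6 (F3 V lin)
open H75.L7 (Nm T Ch2 Rk3)

variable {G : Type*} [Group G] [Finite G] {j ρ : V → G} {τ : G} {θ θ' : Sp →* G} {D : Subgroup G}

namespace MX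

open Matrix H29.F42.MD2

/-- the action of a matrix in coordinates -/
def B (M : Matrix Ix Ix (ZMod 2)) (v : V6) : V6 := cw (M *ᵥ vec v)

/-- the matrix with given columns -/
def mat (u1 u2 u3 u4 u5 u6 : V6) : Matrix Ix Ix (ZMod 2) :=
  fun a c => vec (Sum.elim ![u1, u3, u5] ![u2, u4, u6] c) a

theorem eqns_MX : True := by
  have := @B.eq_1; have := @mat.eq_1
  trivial

theorem B_ι (g : Sp) (v : V6) : B (ι g).1 v = A g v := rfl

theorem B_mul (M N : Matrix Ix Ix (ZMod 2)) (v : V6) : B (M * N) v = B M (B N v) := by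
  rw [B, B, B, vec_cw, mulVec_mulVec]

theorem B_one (v : V6) : B 1 v = v := by rw [B, one_mulVec, cw_vec]

theorem B_add (M : Matrix Ix Ix (ZMod 2)) (u v : V6) : B M (u + v) = B M u + B M v := by
  rw [B, vec_add, mulVec_add]; rfl

theorem B_smul (M : Matrix Ix Ix (ZMod 2)) (k : ZMod 2) (v : V6) : B M (k • v) = k • B M v := by
  rw [B, vec_smul, mulVec_smul]; rfl

theorem B_pow (M : Matrix Ix Ix (ZMod 2)) (n : ℕ) (v : V6) : B (M ^ n) v = (B M)^[n] v := by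
  induction n generalizing v with
  | zero => rw [pow_zero, B_one]; rfl
  | succ n ih => rw [pow_succ, B_mul, ih]; rfl

theorem B_lin (M : Matrix Ix Ix (ZMod 2)) (v : V6) : B M v = lin6 (B M ((1, 0), 0, 0))
    (B M ((0, 1), 0, 0)) (B M (0, (1, 0), 0)) (B M (0, (0, 1), 0)) (B M (0, 0, (1, 0)))
    (B M (0, 0, (0, 1))) v := by
  simp only [lin6, ← B_smul, ← B_add]
  congr 1
  revert v
  decide +kernel

theorem B_ext {M N : Matrix Ix Ix (ZMod 2)} (e : ∀ v, B M v = B N v) : M = N :=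
  Matrix.ext_iff_mulVec.2 fun x => by
    have := congrArg MD2.vec (e (cw x))
    rwa [B, B, vec_cw, vec_cw, vec_cw] at this

theorem B_ext6 {M N : Matrix Ix Ix (ZMod 2)} (e : ∀ v ∈ bs, B M v = B N v) : M = N :=
  B_ext fun v => by
    simp only [bs, List.forall_mem_cons] at e
    rw [B_lin M, B_lin N, e.1, e.2.1, e.2.2.1, e.2.2.2.1, e.2.2.2.2.1, e.2.2.2.2.2.1]

theorem ex (M : Matrix Ix Ix (ZMod 2)) (f : V6 → V6) (hf : ∀ v, B M v = f v) {n : ℕ} (hn : n ≠ 0)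
    (h1 : ∀ v, f^[n] v = v) (h2 : ∃ v, f v ≠ v) (g : Sp) (h3 : ∀ v, f (A g v) = A g (f v)) :
    ∃ x : GL Ix (ZMod 2), x ^ n = 1 ∧ x ≠ 1 ∧ x * ι g = ι g * x := by
  have e : M ^ n = 1 := B_ext fun v => by rw [B_pow, funext hf, h1, B_one]
  refine ⟨Units.ofPowEqOne M n e hn, Units.pow_ofPowEqOne _ _, fun h => ?_,
    Units.ext (B_ext fun v => ?_)⟩
  · obtain ⟨v, hv⟩ := h2
    have : M = 1 := congrArg Units.val h
    exact hv (by rw [← hf, this, B_one])
  · change B (M * (ι g).1) v = B ((ι g).1 * M) v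
    rw [B_mul, B_mul, B_ι, B_ι, hf, hf, h3]

theorem symp : Geo.IsSymplecticForm (ι := Ix) (F := ZMod 2) om where
  bilinear :=
    { add_left := om_add
      smul_left := fun c x v => by
        simp only [om_J, smul_dotProduct, smul_eq_mul]
      add_right := fun v x y => by simp only [om_J, mulVec_add, dotProduct_add]
      smul_right := fun c v x => by
        simp only [om_J, mulVec_smul, dotProduct_smul, smul_eq_mul] }
  skew := fun v w => by
    rw [← vec_cw v, ← vec_cw w, om_vec, om_vec]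
    generalize cw v = a
    generalize cw w = b
    revert a b
    decide +kernel
  alternating := om_self
  nondegenerate := fun v hv => by
    have h : ∀ a : V6, a ≠ 0 → (∃ x ∈ bs, o6 x a ≠ 0) ∧ ∃ x ∈ bs, o6 a x ≠ 0 := by decide +kernel
    obtain ⟨⟨x, -, hx⟩, y, -, hy⟩ := h (cw v) fun e => hv (by
      rw [← vec_cw v, e]; funext a; rcases a with a | a <;> fin_cases a <;> rfl)
    exact ⟨⟨vec x, by rwa [← vec_cw v, om_vec]⟩, vec y, by rwa [← vec_cw v, om_vec]⟩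

end MX

theorem ι_inj : Function.Injective ι := fun _ _ e => Subtype.ext (congrArg Units.val e)

open MX H29.F42.MD2 in
theorem mx1 (c : GL Ix (ZMod 2)) (c2 : c * c = 1) (c0 : c * ι (ww 0) = ι (ww 0) * c)
    (cA : c * ι gA = ι gA * c) (cB : c * ι gB = ι gB * c) (cT : (c * ι (TT 2)) ^ 3 = 1) :
    c = ι gC := by
  have cm : ∀ {g}, c * ι g = ι g * c → ∀ v, B c.1 (A g v) = A g (B c.1 v) := fun e v => by
    rw [← B_ι, ← B_ι, ← B_mul, ← B_mul, ← Units.val_mul, e, Units.val_mul]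
  have w3 : (ww 2)⁻¹ = ww 2 * ww 2 := inv_eq_of_mul_eq_one_right (A_ext (by
    simp only [A_mul, A_w2, A_one]; decide +kernel))
  have aA : ∀ v, A gA v = (v.1, (v.2.2.1 + v.2.2.2, v.2.2.2), (v.2.1.1 + v.2.1.2, v.2.1.2)) := by
    simp only [gA, A_mul, A_t1, A_p12, A_w1, A_w2]; decide +kernel
  have aB : ∀ v, A gB v = (v.1, (v.2.2.2, v.2.2.1 + v.2.2.2), (v.2.1.1 + v.2.1.2, v.2.1.1)) := by
    simp only [gB, w3, A_mul, A_p12, A_w1, A_w2]; decide +kernel
  have h0 := cm c0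
  have hA := cm cA
  have hB := cm cB
  simp only [A_w0, aA, aB] at h0 hA hB
  have e1 := h0 (0, (1, 0), 0)
  have e2 : B c.1 ((0, 1), 0, 0) = _ := h0 ((1, 0), 0, 0)
  have e0 : B c.1 (((1, 0), 0, 0) + ((0, 1), 0, 0)) = _ := h0 ((0, 1), 0, 0)
  have e3 : B c.1 (0, 0, (1, 0)) = _ := hA (0, (1, 0), 0)
  have e4 : B c.1 (0, 0, (1, 1)) = _ := hB (0, (1, 0), 0)
  have e5 : B c.1 (0, (0, 1), 0) = _ := hA (0, 0, (1, 1))
  have e6 : B c.1 (0, 0, (0, 1)) = B c.1 (0, 0, (1, 0)) + B c.1 (0, 0, (1, 1)) := by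
    rw [← B_add]; rfl
  have f1 : ∀ v ∈ bs, B c.1 (B c.1 v) = v := fun v _ => by
    rw [← B_mul, ← Units.val_mul, c2, Units.val_one, B_one]
  have f2 : ∀ v ∈ bs, (fun v => B c.1 (A (TT 2) v))^[3] v = v := fun v _ => by
    have e : (fun v => B c.1 (A (TT 2) v)) = B (c * ι (TT 2)).1 :=
      funext fun v => (B_mul c.1 (ι (TT 2)).1 v).symm
    rw [e, ← B_pow, ← Units.val_pow_eq_pow_val, cT, Units.val_one, B_one]
  refine Units.ext (B_ext6 ?_)
  simp only [B_ι]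
  rw [B_add, e2] at e0
  rw [funext (B_lin c.1)] at f1 f2 ⊢
  rw [e6, e5, e4, e3, e2] at f1 f2 ⊢
  simp only [gC, A_tv, A_t2] at f2 ⊢
  change B c.1 (0, (1, 0), 0) = _ at e1
  generalize B c.1 (0, (1, 0), 0) = u at *
  generalize B c.1 ((1, 0), 0, 0) = u0 at *
  clear * - e0 e1 f1 f2
  revert e0 f1 f2
  revert u0
  revert e1
  revert u
  decide +kernel

open Matrix H29.F42.MD2 in
theorem ov (H : Subgroup (GL Ix (ZMod 2))) (h : ι.range ≤ H) : H = ι.range ∨ H = ⊤ := by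
  have hf := MX.symp
  have hm : Geo.IsMaximalIn (Geo.specialLinear Ix (ZMod 2))
      (Geo.similarityGroup om ⊓ Geo.specialLinear Ix (ZMod 2)) := by
    rw [H97.similarityGroup_eq, H97.specialLinear_eq, ← H97.pull_inf]
    exact H97.isMaximalIn_pull
      ((H97.isoK_alt (H97.bilOf hf.bilinear) hf.alternating).isMaximalIn_simG'
        (H97.sep_of_nondeg hf.nondegenerate) (by simp) ⟨1, trivial, one_ne_zero⟩)
  have u1 : ∀ c : (ZMod 2)ˣ, c = 1 := by decide
  have e1 : Geo.specialLinear Ix (ZMod 2) = ⊤ := eq_top_iff.2 fun g _ => u1 _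
  have e2 : Geo.similarityGroup om = ι.range := by
    ext g
    constructor
    · rintro ⟨c, hc⟩
      refine ⟨⟨g.1, SymplecticGroup.mem_iff'.2 ?_⟩, Units.ext rfl⟩
      ext a b
      have := hc (Pi.single a 1) (Pi.single b 1)
      rw [u1 c, Units.val_one, one_mul, om_J, om_J, mulVec_mulVec, ← vecMul_transpose,
        ← dotProduct_mulVec, mulVec_mulVec, ← Matrix.mul_assoc] at this
      simpa using this
    · rintro ⟨x, rfl⟩
      refine ⟨1, fun u v => ?_⟩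
      rw [Units.val_one, one_mul, ← vec_cw u, ← vec_cw v, om_vec, ← A_om x, ← om_vec, vec_A, vec_A]
      rfl
  rw [e1, e2, inf_top_eq] at hm
  exact hm.2 H h le_top

open MX H29.F42.MD2 in
theorem ex5 : ∃ x : GL Ix (ZMod 2), x ^ 5 = 1 ∧ x ≠ 1 ∧ x * ι (ww 1 * ww 2) = ι (ww 1 * ww 2) * x := by
  refine ex (mat ((1, 0), 0, 0) ((0, 1), 0, 0) (0, (1, 1), (0, 1)) (0, (1, 0), (1, 1)) (0, (1, 1), 0)
    (0, (1, 0), 0)) (lin6 ((1, 0), 0, 0) ((0, 1), 0, 0) (0, (1, 1), (0, 1)) (0, (1, 0), (1, 1))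
      (0, (1, 1), 0) (0, (1, 0), 0)) (by decide +kernel) (by norm_num) (by decide +kernel)
    ⟨(0, (1, 0), 0), by decide +kernel⟩ _ ?_
  simp only [A_mul, A_w1, A_w2]
  decide +kernel

open MX H29.F42.MD2 in
theorem ex7 : ∃ x : GL Ix (ZMod 2), x ^ 7 = 1 ∧ x ≠ 1 ∧ x * ι (ww 0) = ι (ww 0) * x := by
  refine ex (mat ((1, 0), 0, 0) ((0, 1), 0, 0) (0, 0, (1, 0)) (0, (1, 0), (1, 0)) (0, (0, 1), 0)
    (0, 0, (0, 1))) (lin6 ((1, 0), 0, 0) ((0, 1), 0, 0) (0, 0, (1, 0)) (0, (1, 0), (1, 0))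
      (0, (0, 1), 0) (0, 0, (0, 1))) (by decide +kernel) (by norm_num) (by decide +kernel)
    ⟨(0, (1, 0), 0), by decide +kernel⟩ _ ?_
  simp only [A_w0]
  decide +kernel

end H29.S6
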