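import Cfsg.Agent.Lib.S6.Bas
import Cfsg.Agent.Lib.S6.GEN
import Cfsg.Agent.Lib.S6.MX
import Cfsg.Agent.Lib.S6.CH

/-! S6, package CS (see blueprint/S6/README.md). -/

set_option autoImplicit false
set_option linter.unusedSectionVars false

namespace H29.S6

open Subgroup Cfsg H29.F42
open H87.U6 (F3 V lin)
open H75.L7 (Nm T Ch2 Rk3)

variable {G : Type*} [Group G] [Finite G] {j ρ : V → G} {τ : G} {θ θ' : Sp →* G} {D : Subgroup G}

namespace CS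

theorem wv_j (h : Jm j) {θ0 : Sp →* G} (hw : ∀ i, θ0 (ww i) = j (E3 i)) (y : X3) : θ0 (wv y) = j (0, y) := by
  rw [wv, map_mul, map_mul, map_pow, map_pow, map_pow, hw, hw, hw, h.jpow, h.jpow, h.jpow, ← h.add, ← h.add]
  congr 1
  revert y
  decide

theorem rng {C : Type*} [Group C] [Finite C] (π : C →* GL Ix (ZMod 2)) (hk : IsPGroup 2 π.ker) (hr : ι.range ≤ π.range)
    {w0 w1 : C} (a0 : w0 ^ 3 = 1) (a1 : w1 ^ 3 = 1) (e0 : π w0 = ι (ww 0)) (e1 : π w1 = ι (ww 1 * ww 2))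
    (h57 : (∀ g, g * w0 = w0 * g → g ^ 7 = 1 → g = 1) ∨ ∀ g, g * w1 = w1 * g → g ^ 5 = 1 → g = 1) :
    ∃ ψ : C →* Sp, ∀ g, ι (ψ g) = π g := by
  have e : π.range = ι.range := by
    refine (ov _ hr).resolve_right fun ht => ?_
    rcases h57 with h | h
    · obtain ⟨x, x7, x1, xc⟩ := ex7
      obtain ⟨g, rfl⟩ : x ∈ π.range := ht ▸ mem_top x
      obtain ⟨y, hy, y7, yc⟩ := lift π hk a0 (Or.inr rfl) x7 (by rw [e0]; exact xc)
      exact x1 (by rw [← hy, h y yc y7, map_one])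
    · obtain ⟨x, x5, x1, xc⟩ := ex5
      obtain ⟨g, rfl⟩ : x ∈ π.range := ht ▸ mem_top x
      obtain ⟨y, hy, y5, yc⟩ := lift π hk a1 (Or.inl rfl) x5 (by rw [e1]; exact xc)
      exact x1 (by rw [← hy, h y yc y5, map_one])
  refine ⟨(MonoidHom.ofInjective ι_inj).symm.toMonoidHom.comp (π.codRestrict ι.range fun g => e ▸ ⟨g, rfl⟩),
    fun g => ?_⟩
  exact MonoidHom.apply_ofInjective_symm ι_inj _

end CS

theorem cs (h : Jm j) (H : Rk3 G) {s p p' γ : G} {A : Subgroup G} {t : Fin 3 → G}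
    (tr : Tri s A (fun i => j (E3 i)) t p p') (ty : ∀ i, t i * j e1 = j e1 * t i)
    (py : p * j e1 = j e1 * p) (py' : p' * j e1 = j e1 * p') (sy : s * j e1 * s⁻¹ = (j e1)⁻¹)
    (γy : γ * j e1 = j e1 * γ) (γs : γ * s = s * γ) (γ2 : γ * γ = 1) (γ0 : γ * j e2 = j e2 * γ)
    (γA : γ * (t 1 * p' * t 1 * j e3 * j e4) = t 1 * p' * t 1 * j e3 * j e4 * γ)
    (γB : γ * (j e3 * (j e4)⁻¹ * p') = j e3 * (j e4)⁻¹ * p' * γ) (γT : (γ * t 2) ^ 3 = 1)
    (ker : ∀ g, g * s = s * g → (∀ a ∈ A, g * a * g⁻¹ = a ∨ g * a * g⁻¹ = a * s) → g ∈ T (zpowers s))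
    (ker' : ∀ g ∈ T (zpowers s), ∀ a ∈ A, g * a = a * g)
    (h57 : (∀ g, g * s = s * g → g * j e2 = j e2 * g → g ^ 7 = 1 → g = 1) ∨
      ∀ g, g * s = s * g → g * (j e3 * j e4) = j e3 * j e4 * g → g ^ 5 = 1 → g = 1) :
    ∃ θ0 : Sp →* G, Cs j s A θ0 ∧ (∀ i, θ0 (TT i) = t i) ∧ θ0 P01 = p ∧ θ0 P12 = p' ∧ θ0 gC = γ := by
  obtain ⟨c, π, cr, cf, hπ⟩ := tr.ch
  have mC : ∀ {g : G}, g * s = s * g → g ∈ centralizer ({s} : Set G) := fun e => mem_centralizer_singleton_iff.2 e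
  have cC : ∀ g : centralizer ({s} : Set G), (g : G) * s = s * g := fun g => mem_centralizer_singleton_iff.1 g.2
  have hker : ∀ g : centralizer ({s} : Set G), π g = 1 ↔ (g : G) ∈ T (zpowers s) := fun g =>
    ⟨fun e => ker _ (cC g) ((cr.ker g).1 e), fun e => (cr.ker g).2 fun a ha =>
      Or.inl (by rw [ker' _ e a ha, mul_inv_cancel_right])⟩
  have hk : IsPGroup 2 π.ker := fun g => by
    obtain ⟨k, hk⟩ := H75.L7.two_pow (H75.L7.T_two (zpowers s)) ((hker g.1).1 g.2)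
    exact ⟨k, Subtype.ext (Subtype.ext hk)⟩
  let W' : Fin 3 → centralizer ({s} : Set G) := fun i => ⟨j (E3 i), mC (tr.ws i)⟩
  let T' : Fin 3 → centralizer ({s} : Set G) := fun i => ⟨t i, mC (tr.ts i)⟩
  let P' : centralizer ({s} : Set G) := ⟨p, mC tr.ps⟩
  let P'' : centralizer ({s} : Set G) := ⟨p', mC tr.ps'⟩
  let Γ' : centralizer ({s} : Set G) := ⟨γ, mC γs⟩
  have eW : ∀ i, π (W' i) = ι (ww i) := fun i => (hπ _).1 i rfl
  have eT : ∀ i, π (T' i) = ι (TT i) := fun i => (hπ _).2.1 i rfl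
  have eP : π P' = ι P01 := (hπ _).2.2.1 rfl
  have eP' : π P'' = ι P12 := (hπ _).2.2.2 rfl
  have eΓ : π Γ' = ι gC := by
    refine mx1 _ ?_ ?_ ?_ ?_ ?_
    · rw [← map_mul, show Γ' * Γ' = 1 from Subtype.ext γ2, map_one]
    · rw [← eW, ← map_mul, ← map_mul, show Γ' * W' 0 = W' 0 * Γ' from Subtype.ext γ0]
    · have : ι gA = π (T' 1 * P'' * T' 1 * W' 1 * W' 2) := by
        simp only [gA, map_mul, eT, eW, eP']
      rw [this, ← map_mul, ← map_mul]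
      exact congrArg π (Subtype.ext γA)
    · have : ι gB = π (W' 1 * (W' 2)⁻¹ * P'') := by
        simp only [gB, map_mul, map_inv, eW, eP']
      rw [this, ← map_mul, ← map_mul]
      exact congrArg π (Subtype.ext γB)
    · rw [← eT, ← map_mul, ← map_pow, show (Γ' * T' 2) ^ 3 = 1 from Subtype.ext γT, map_one]
  have hr : ι.range ≤ π.range := by
    rintro _ ⟨x, rfl⟩
    have := gen2 (π.range.comap ι) (fun i => ⟨_, eW i⟩) (fun i => ⟨_, eT i⟩) ⟨_, eP⟩ ⟨_, eP'⟩ ⟨_, eΓ⟩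
    exact mem_comap.1 (this ▸ mem_top x)
  obtain ⟨ψ, hψ⟩ := CS.rng π hk hr (w0 := W' 0) (w1 := W' 1 * W' 2) (Subtype.ext (tr.w3 0))
    (Subtype.ext (show (j e3 * j e4) ^ 3 = 1 by rw [← h.add]; exact h.j3 _)) (eW 0)
    (by rw [map_mul, map_mul, eW, eW]) (h57.imp
      (fun a g e1 e2 => Subtype.ext (a _ (cC g) (congrArg Subtype.val e1) (congrArg Subtype.val e2)))
      (fun a g e1 e2 => Subtype.ext (a _ (cC g) (congrArg Subtype.val e1) (congrArg Subtype.val e2))))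
  have kψ : ∀ g, ψ g = 1 ↔ (g : G) ∈ T (zpowers s) := fun g => by
    rw [← hker, ← hψ, ← map_one ι, ι_inj.eq_iff]
  have nQ : ∀ {g : G}, g * s = s * g → Nm g (T (zpowers s)) := fun e => (H75.L7.nm_zp e).T
  have hX : T (zpowers s) ⊓ centralizer {j e1} = ⊥ := by
    have nc : ∀ v, Nm (j v) (centralizer {j e1}) := fun v y hy => H75.L7.mem_cent.2
      ((Commute.mul_left (h.jc v e1) (H75.L7.mem_cent.1 hy)).mul_left (Commute.inv_left (h.jc v e1)))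
    refine h.rk H (H75.L7.T_two _).to_inf_left (h.nm4 ?_ ?_ ?_ ?_)
    · exact H75.L7.Nm.of_comm fun x hx => (H75.L7.mem_cent.1 hx.2).symm
    · exact (nQ (tr.ws 0)).inf (nc _)
    · exact (nQ (tr.ws 1)).inf (nc _)
    · exact (nQ (tr.ws 2)).inf (nc _)
  let X : Subgroup (centralizer ({s} : Set G)) := (centralizer {j e1}).subgroupOf _
  have mX : ∀ g : centralizer ({s} : Set G), (g : G) * j e1 = j e1 * g → g ∈ X := fun g e =>
    mem_subgroupOf.2 (mem_centralizer_singleton_iff.2 e)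
  have bij : Function.Bijective (ψ.comp X.subtype) := by
    constructor
    · refine (injective_iff_map_eq_one _).2 fun g e => Subtype.ext (Subtype.ext ?_)
      have : ((g : centralizer ({s} : Set G)) : G) ∈ T (zpowers s) ⊓ centralizer {j e1} := ⟨(kψ _).1 e, g.2⟩
      rwa [hX, mem_bot] at this
    · rw [← MonoidHom.range_eq_top]
      refine gen2 _ (fun i => ⟨⟨W' i, mX _ (h.jc _ _)⟩, ι_inj ((hψ _).trans (eW i))⟩)
        (fun i => ⟨⟨T' i, mX _ (ty i)⟩, ι_inj ((hψ _).trans (eT i))⟩) ⟨⟨P', mX _ py⟩, ι_inj ((hψ _).trans eP)⟩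
        ⟨⟨P'', mX _ py'⟩, ι_inj ((hψ _).trans eP')⟩ ⟨⟨Γ', mX _ γy⟩, ι_inj ((hψ _).trans eΓ)⟩
  let e := MulEquiv.ofBijective _ bij
  let θ1 : Sp →* centralizer ({s} : Set G) := X.subtype.comp e.symm.toMonoidHom
  let θ0 : Sp →* G := (centralizer ({s} : Set G)).subtype.comp θ1
  have l1 : ∀ x, ψ (θ1 x) = x := fun x => e.apply_symm_apply x
  have l2 : ∀ g : centralizer ({s} : Set G), (g : G) * j e1 = j e1 * g → ∀ x, π g = ι x → θ0 x = g := by
    intro g hg x hx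
    have : e ⟨g, mX g hg⟩ = x := ι_inj ((hψ _).trans hx)
    show ((e.symm x : X) : G) = g
    rw [← this, e.symm_apply_apply]
  have hw : ∀ i, θ0 (ww i) = j (E3 i) := fun i => l2 (W' i) (h.jc _ _) _ (eW i)
  have dec : ∀ g : centralizer ({s} : Set G), (g : G) * (θ0 (ψ g))⁻¹ ∈ T (zpowers s) := fun g =>
    (kψ (g * (θ1 (ψ g))⁻¹)).1 (by rw [map_mul, map_inv, l1, mul_inv_cancel])
  refine ⟨θ0, ⟨?_, fun x => cC (θ1 x), fun x => ?_, hw, fun g hg => ?_, ⟨ψ, kψ⟩, fun g hg g3 => ?_, fun a ha => ?_⟩,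
    fun i => l2 (T' i) (ty i) _ (eT i), l2 P' py _ eP, l2 P'' py' _ eP', l2 Γ' γy _ eΓ⟩
  · exact Subtype.val_injective.comp (Subtype.val_injective.comp e.symm.injective)
  · exact mem_centralizer_singleton_iff.1 (e.symm x).2
  · exact ⟨_, dec ⟨g, mC hg⟩, _, (inv_mul_cancel_right _ _).symm⟩
  · obtain ⟨z, y, hz⟩ := ord3 (ψ ⟨g, mC hg⟩) (by rw [← map_pow, show (⟨g, mC hg⟩ : centralizer ({s} : Set G)) ^ 3 = 1
      from Subtype.ext g3, map_one])
    have hu := dec (θ1 z * ⟨g, mC hg⟩ * (θ1 z)⁻¹)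
    rw [map_mul ψ, map_mul ψ, map_inv ψ, l1, hz, CS.wv_j h hw] at hu
    have cy : j (0, y) * s = s * j (0, y) := CS.wv_j h hw y ▸ cC (θ1 (wv y))
    obtain ⟨k, hk, ek⟩ := cj3 (H75.L7.T_two _) (h.j3 _) (nQ cy) hu (by
      rw [inv_mul_cancel_right]
      show (θ0 z * g * (θ0 z)⁻¹) ^ 3 = 1
      rw [conj_pow, g3, mul_one, mul_inv_cancel])
    rw [inv_mul_cancel_right] at ek
    refine ⟨k * θ0 z, y, ?_, ?_⟩
    · exact (Commute.mul_left (H75.L7.T_zp_comm tr.s2 hk) (cC (θ1 z))).eq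
    · rw [← ek]
      show _ = k * (θ0 z * g * (θ0 z)⁻¹) * k⁻¹
      group
  · have s4 : Commute s (j e4) := (tr.ws 2).symm
    have key : ∀ x, ∃ g, Commute (θ0 g * c x * (θ0 g)⁻¹) (j e4) := fun x => by
      by_cases x0 : x = 0
      · exact ⟨1, by rw [x0, cr.c0]; simp⟩
      obtain ⟨g, hg⟩ := sp_tr x (ff 0) x0 (by decide)
      have e1 : (π (θ1 g)).1.mulVec x = ff 0 := by rw [← hψ, l1]; exact hg
      have cf' : Commute (c (ff 0)) (j e4) := cf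
      refine ⟨g, ?_⟩
      rcases cr.act (θ1 g) x with e2 | e2 <;> rw [e1] at e2
      · exact (show θ0 g * c x * (θ0 g)⁻¹ = _ from e2) ▸ cf'
      · exact (show θ0 g * c x * (θ0 g)⁻¹ = _ from e2) ▸ cf'.mul_left s4
    obtain ⟨x, rfl | rfl⟩ := cr.sur a ha
    · exact key x
    · obtain ⟨g, hg⟩ := key x
      refine ⟨g, ?_⟩
      have : θ0 g * (c x * s) * (θ0 g)⁻¹ = θ0 g * c x * (θ0 g)⁻¹ * s := by
        have e3 : s * (θ0 g)⁻¹ = (θ0 g)⁻¹ * s := (Commute.inv_left (cC (θ1 g))).eq.symm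
        rw [mul_assoc, mul_assoc, e3]; group
      rw [this]
      exact (hg.mul_left s4).eq

end H29.S6
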