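import Cfsg.Agent.Lib.F42.CMa
import Cfsg.Agent.Lib.L7.Bas

/-! Standard 3-component `Sp₆(2)`: definitions (see blueprint/S6/README.md). -/

set_option autoImplicit false

namespace H29.S6

open Subgroup Matrix H29.F42
open H87.U6 (F3 V lin)
open H75.L7 (Nm T Ch2 Rk3)

abbrev X3 := F3 × F3 × F3

def E3 : Fin 3 → V := ![e2, e3, e4]
theorem E3_0 : E3 0 = e2 := rfl
theorem E3_1 : E3 1 = e3 := rfl
theorem E3_2 : E3 2 = e4 := rfl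

def dot (x y : X3) : F3 := x.1 * y.1 + x.2.1 * y.2.1 + x.2.2 * y.2.2

/-- `± e2, ± e3, ± e4` -/
def Sh (v : V) : Prop := v = e2 ∨ v = -e2 ∨ v = e3 ∨ v = -e3 ∨ v = e4 ∨ v = -e4
/-- `± e1, …, ± e4` -/
def Sh1 (v : V) : Prop := v = e1 ∨ v = -e1 ∨ Sh v

instance (v : V) : Decidable (Sh v) := by unfold Sh; infer_instance
instance (v : V) : Decidable (Sh1 v) := by unfold Sh1; infer_instance

/-- additive and injective -/
def Lin (N : V → V) : Prop := (∀ u v, N (u + v) = N u + N v) ∧ ∀ v, N v = 0 → v = 0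
/-- monomial maps fixing `e1` -/
def W0 (N : V → V) : Prop := Lin N ∧ N e1 = e1 ∧ Sh (N e2) ∧ Sh (N e3) ∧ Sh (N e4)
/-- monomial maps -/
def Mon (N : V → V) : Prop := Lin N ∧ Sh1 (N e1) ∧ Sh1 (N e2) ∧ Sh1 (N e3) ∧ Sh1 (N e4)

def A0 : V → V := lin (1, 1, 0, 0) e2 e3 e4
def O1 : V → V := lin (0, 1, 1, 0) (0, 0, 0, 1) (1, 1, -1, 0) (-1, 1, -1, 0)
def sw : V → V := lin e2 e1 e3 e4

/-- a group of linear maps in which the stabilizer of `e1` is the monomial group `W0` -/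
structure WS (S : Set (V → V)) : Prop where
  lin : ∀ N ∈ S, Lin N
  mul : ∀ M ∈ S, ∀ N ∈ S, (fun v => M (N v)) ∈ S
  inv : ∀ N ∈ S, ∃ M ∈ S, (∀ v, M (N v) = v) ∧ ∀ v, N (M v) = v
  w0 : ∀ N, W0 N → N ∈ S
  st : ∀ N ∈ S, N e1 = e1 → W0 N

/-! ### the model `Sp₆(2)` -/

/-- `Sp₄(2)` on the last two hyperbolic pairs -/
def S4 : Subgroup Sp := sgOf
  { carrier := {g | ac g (ff 0) = ff 0 ∧ ac g (gg 0) = gg 0}
    one_mem' := ⟨ac_one _, ac_one _⟩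
    mul_mem' := fun {g h} hg hh => ⟨by rw [ac_mul, hh.1, hg.1], by rw [ac_mul, hh.2, hg.2]⟩ }

theorem mem_S4 {g : Sp} : g ∈ S4 ↔ ac g (ff 0) = ff 0 ∧ ac g (gg 0) = gg 0 := Iff.rfl

def u0 : Sp := tv (ff 1 + ff 2) * tv (gg 1 + gg 2)
/-- pairs `1, 2, 0` go to pairs `0, 1, 2` -/
def kk : Sp := P12 * P01
def ι : Sp →* GL Ix (ZMod 2) := (Matrix.symplecticGroup (Fin 3) (ZMod 2)).subtype.toHomUnits

theorem ι_val (g : Sp) : ((ι g : GL Ix (ZMod 2)) : Matrix Ix Ix (ZMod 2)) = g.1 := rfl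

/-! ### the model `Sp₈(2)` -/

abbrev Ix8 := Fin 4 ⊕ Fin 4
abbrev W8 := Ix8 → ZMod 2
abbrev Sp8 := Matrix.symplecticGroup (Fin 4) (ZMod 2)

def om8 (u v : W8) : ZMod 2 := ∑ a, u a * v a.swap
def tvM8 (w : W8) : Matrix Ix8 Ix8 (ZMod 2) := fun a c => (if a = c then 1 else 0) + w a * w c.swap

theorem tvM8_mem : ∀ w, tvM8 w ∈ Matrix.symplecticGroup (Fin 4) (ZMod 2) := by
  simp only [SymplecticGroup.mem_iff]
  decide +kernel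

/-- the transvection `x ↦ x + om8 x w • w` -/
def tv8 (w : W8) : Sp8 := ⟨tvM8 w, tvM8_mem w⟩
def ac8 (g : Sp8) (x : W8) : W8 := g.1 *ᵥ x
/-- pairs `0, 1, 2` of `W` are the pairs `1, 2, 3` of `W8` -/
def up1 (w : W) : W8 :=
  Sum.elim ![0, w (.inl 0), w (.inl 1), w (.inl 2)] ![0, w (.inr 0), w (.inr 1), w (.inr 2)]
/-- pairs `0, 1, 2` of `W` are the pairs `0, 1, 2` of `W8` -/
def up4 (w : W) : W8 :=
  Sum.elim ![w (.inl 0), w (.inl 1), w (.inl 2), 0] ![w (.inr 0), w (.inr 1), w (.inr 2), 0]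
def r8 : Sp8 := tv8 (up4 (ff 0 + gg 0))
def b8 : Sp8 := tv8 (up4 (ff 0)) * tv8 (up4 (gg 0))
def w4 : Sp8 := b8 * (tv8 (up1 (ff 0)) * tv8 (up1 (gg 0))) * (tv8 (up1 (ff 1)) * tv8 (up1 (gg 1))) *
  (tv8 (up1 (ff 2)) * tv8 (up1 (gg 2)))
def t4 : Sp8 := r8 * tv8 (up1 (ff 0 + gg 0)) * tv8 (up1 (ff 1 + gg 1)) * tv8 (up1 (ff 2 + gg 2))

section

variable {G : Type*} [Group G]

/-- `n` acts on `J` as `N` -/
def Ac (j : V → G) (n : G) (N : V → V) : Prop := ∀ v, n * j v * n⁻¹ = j (N v)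

/-- the conjugate chart -/
def θc (n : G) (θ : Sp →* G) : Sp →* G := (MulAut.conj n).toMonoidHom.comp θ

theorem θc_apply (n : G) (θ : Sp →* G) (x : Sp) : θc n θ x = n * θ x * n⁻¹ := rfl

/-- `C(j e1) = ⟨j e1⟩ × θ(Sp₆(2)) × D` -/
structure Ch0 (j : V → G) (θ : Sp →* G) (D : Subgroup G) : Prop where
  add : ∀ u v, j (u + v) = j u * j v
  inj : ∀ v, j v = 1 → v = 0
  θi : Function.Injective θ
  cy : ∀ x, θ x * j e1 = j e1 * θ x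
  w0 : θ (ww 0) = j e2
  w1 : θ (ww 1) = j e3
  w2 : θ (ww 2) = j e4
  cop : (Nat.card D).Coprime 3
  Dθ : ∀ d ∈ D, ∀ x, d * θ x = θ x * d
  Dy : ∀ d ∈ D, d * j e1 = j e1 * d
  dec : ∀ g, g * j e1 = j e1 * g → ∃ (k : F3) (x : Sp), ∃ d ∈ D, g = j (k, 0, 0, 0) * θ x * d

structure Ch (j : V → G) (θ : Sp →* G) (D : Subgroup G) : Prop extends Ch0 j θ D where
  odd : Odd (Nat.card D)

/-- the hypothesis -/
structure Hy (j : V → G) (θ : Sp →* G) (D : Subgroup G) : Prop extends Ch j θ D where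
  ch : Ch2 G
  rk : Rk3 G
  no3 : ∀ N : Subgroup G, N.Normal → N.index = 3 → False
  fusb : ∀ g v, g * j e1 * g⁻¹ = j v → ∃ n, NJ j n ∧ n * j e1 * n⁻¹ = j v
  mv : ∃ g v, g * j e1 * g⁻¹ = j v ∧ v ≠ e1 ∧ v ≠ -e1

/-- the affine case: `M` realizes the translations -/
structure Aff (j : V → G) (D M : Subgroup G) : Prop where
  comm : ∀ m ∈ M, ∀ m' ∈ M, m * m' = m' * m
  p3 : IsPGroup 3 M
  j1 : ∀ y : X3, j (0, y) ∈ M
  tr : ∀ y : X3, ∃ m ∈ M, m * j e1 * m⁻¹ = j (1, y)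
  nj : ∀ m ∈ M, ∃ y : X3, m * j e1 * m⁻¹ = j (1, y)
  cb : ∀ m ∈ M, m * j e1 = j e1 * m → ∃ y : X3, m = j (0, y)
  cD : ∀ m ∈ M, ∀ d ∈ D, m * d = d * m
  nm : ∀ n, NJ j n → Nm n M
  pI : ∀ n N, Ac j n N → ∀ v : V, v.1 = 0 → (N v).1 = 0

/-- `H29.F42.F0` without control of fusion -/
structure F1 (j : V → G) (τ : G) (ρ : V → G) : Prop where
  add : ∀ u v, j (u + v) = j u * j v
  inj : ∀ v, j v = 1 → v = 0
  cJ : ∀ g, (∀ v, g * j v = j v * g) → ∃ v, g = j v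
  τ2 : τ * τ = 1
  τj : ∀ v, τ * j v * τ⁻¹ = j (-v)
  ρ2 : ∀ a, q a ≠ 0 → ρ a * ρ a = 1
  ρτ : ∀ a, q a ≠ 0 → ρ a * τ = τ * ρ a
  ρj : ∀ a, q a ≠ 0 → ∀ v, ρ a * j v * (ρ a)⁻¹ = j (rf a v)
  sim : ∀ n, NJ j n → ∃ N, Sim N ∧ ∀ v, n * j v * n⁻¹ = j (N v)

/-- the case `F₄`: the centralizers of the long vectors (`q v = 2`) are known -/
structure Fm (j : V → G) (τ : G) (ρ : V → G) : Prop extends F1 j τ ρ where
  ch : Ch2 G
  rk : Rk3 G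
  all : ∀ N, Sim N → q (N e1) = 2 → ∃ θ, Std (fun v => j (N v)) (fun v => ρ (N v)) θ
  fusb : ∀ g v w, q v = 2 → g * j v * g⁻¹ = j w → ∃ n, NJ j n ∧ n * j v * n⁻¹ = j w

/-- `Z(O₂(C(s)))` -/
def ZQ (s : G) : Subgroup G := T (zpowers s) ⊓ centralizer (T (zpowers s) : Set G)

/-- the relations of the monomial subgroup of `Sp₆(2)` -/
structure Rel (s : G) (w t : Fin 3 → G) (p p' : G) : Prop where
  s2 : s * s = 1
  s1 : s ≠ 1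
  ws : ∀ i, w i * s = s * w i
  ts : ∀ i, t i * s = s * t i
  ps : p * s = s * p
  ps' : p' * s = s * p'
  w3 : ∀ i, w i ^ 3 = 1
  ww : ∀ i k, w i * w k = w k * w i
  t2 : ∀ i, t i * t i = 1
  tw : ∀ i, t i * w i * (t i)⁻¹ = (w i)⁻¹
  tw' : ∀ i k, i ≠ k → t i * w k = w k * t i
  p2 : p * p = 1
  p2' : p' * p' = 1
  p0 : p * w 0 * p⁻¹ = w 1
  pw : p * w 2 = w 2 * p
  pt : p * t 0 * p⁻¹ = t 1
  p1 : p' * w 1 * p'⁻¹ = w 2
  pw' : p' * w 0 = w 0 * p'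
  pt' : p' * t 1 * p'⁻¹ = t 2

/-- `[A, w i]` -/
def VV (A : Subgroup G) (w : Fin 3 → G) (i : Fin 3) : Set G :=
  {a | a ∈ A ∧ (∀ k, k ≠ i → a * w k = w k * a) ∧ a * (w i * a * (w i)⁻¹) * ((w i)⁻¹ * a * w i) = 1}

/-- `A = ⟨s⟩ × V₀ × V₁ × V₂` is elementary abelian of order `2⁷` and normal in `C(s)` -/
structure Tri (s : G) (A : Subgroup G) (w t : Fin 3 → G) (p p' : G) : Prop extends Rel s w t p p' where
  sA : s ∈ A
  comm : ∀ a ∈ A, ∀ a' ∈ A, a * a' = a' * a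
  sq : ∀ a ∈ A, a * a = 1
  nm : ∀ g, g * s = s * g → Nm g A
  gen : A ≤ closure ({s} ∪ VV A w 0 ∪ VV A w 1 ∪ VV A w 2)
  four : ∃ v, v ≠ 1 ∧ v ∈ VV A w 0 ∧
    ∀ a ∈ VV A w 0, a = 1 ∨ a = v ∨ a = w 0 * v * (w 0)⁻¹ ∨ a = (w 0)⁻¹ * v * w 0

/-- coordinates on `A / ⟨s⟩` -/
structure Crd (s : G) (A : Subgroup G) (c : W → G)
    (π : centralizer ({s} : Set G) →* GL Ix (ZMod 2)) : Prop where
  sur : ∀ a ∈ A, ∃ x, a = c x ∨ a = c x * s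
  c0 : c 0 = 1
  act : ∀ (g : centralizer ({s} : Set G)) x, (g : G) * c x * (g : G)⁻¹ = c ((π g).1 *ᵥ x) ∨
    (g : G) * c x * (g : G)⁻¹ = c ((π g).1 *ᵥ x) * s
  ker : ∀ g : centralizer ({s} : Set G), π g = 1 ↔
    ∀ a ∈ A, (g : G) * a * (g : G)⁻¹ = a ∨ (g : G) * a * (g : G)⁻¹ = a * s

/-- `C(s) = O₂(C(s)) θ0(Sp₆(2))` -/
structure Cs (j : V → G) (s : G) (A : Subgroup G) (θ0 : Sp →* G) : Prop where
  inj : Function.Injective θ0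
  cs : ∀ x, θ0 x * s = s * θ0 x
  cy : ∀ x, θ0 x * j e1 = j e1 * θ0 x
  w : ∀ i, θ0 (ww i) = j (E3 i)
  dec : ∀ g, g * s = s * g → ∃ u ∈ T (zpowers s), ∃ x, g = u * θ0 x
  ψ : ∃ ψ : centralizer ({s} : Set G) →* Sp, ∀ g, ψ g = 1 ↔ (g : G) ∈ T (zpowers s)
  ord3 : ∀ g, g * s = s * g → g ^ 3 = 1 → ∃ (k : G) (y : X3), k * s = s * k ∧ k * g * k⁻¹ = j (0, y)
  mv : ∀ a ∈ A, ∃ x, θ0 x * a * (θ0 x)⁻¹ * j e4 = j e4 * (θ0 x * a * (θ0 x)⁻¹)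

/-- the case `F₄`: the charts at `e1` and at `e1 + e2` -/
structure F4c (j ρ : V → G) (θ0 θ1 : Sp →* G) : Prop where
  c0 : Cs j (ρ e1) (ZQ (ρ e1)) θ0
  t : ∀ i, θ0 (TT i) = ρ (E3 i)
  p01 : θ0 P01 = ρ (0, 1, -1, 0)
  p12 : θ0 P12 = ρ (0, 0, 1, -1)
  s1 : Std (fun v => j (N1 v)) (fun v => ρ (N1 v)) θ1
  γ : θ0 gC = θ1 a2

/-- the case `C₄`: `θ'` is the chart at `e2` -/
structure Cf (j : V → G) (θ θ' : Sp →* G) (D : Subgroup G) : Prop extends Hy j θ D where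
  mon : ∀ n N, Ac j n N → Mon N
  c' : Ch (fun v => j (sw v)) θ' D
  t1 : θ' (TT 1) = θ (TT 1)
  t2 : θ' (TT 2) = θ (TT 2)
  p12 : θ' P12 = θ P12

/-- the chart at `e4` (pairs `e1, e2, e3`) -/
def θ4 (θ θ' : Sp →* G) : Sp →* G := θc (θ kk) θ'

end

theorem eqns_defs : True := by
  have := @E3.eq_1; have := @dot.eq_1; have := @Sh.eq_1; have := @Sh1.eq_1; have := @Lin.eq_1
  have := @W0.eq_1; have := @Mon.eq_1; have := @A0.eq_1; have := @O1.eq_1; have := @sw.eq_1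
  have := @S4.eq_1; have := @u0.eq_1; have := @kk.eq_1; have := @ι.eq_1; have := @om8.eq_1
  have := @tvM8.eq_1; have := @tv8.eq_1; have := @ac8.eq_1; have := @up1.eq_1; have := @up4.eq_1
  have := @r8.eq_1; have := @b8.eq_1; have := @w4.eq_1; have := @t4.eq_1; have := @Ac.eq_1.{0}
  have := @θc.eq_1.{0}; have := @ZQ.eq_1.{0}; have := @VV.eq_1.{0}; have := @θ4.eq_1.{0}
  have := @q.eq_1; have := @b.eq_1; have := @rf.eq_1; have := @Sim.eq_1; have := @NJ.eq_1.{0}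
  have := @om.eq_1; have := @ff.eq_1; have := @gg.eq_1; have := @tvM.eq_1; have := @tv.eq_1
  have := @ee.eq_1; have := @ac.eq_1; have := @ww.eq_1; have := @TT.eq_1; have := @P01.eq_1
  have := @P12.eq_1; have := @wv.eq_1; have := @E0.eq_1; have := @O0.eq_1; have := @v0.eq_1
  have := @gA.eq_1; have := @gB.eq_1; have := @gC.eq_1; have := @N1.eq_1; have := @UU.eq_1
  trivial

end H29.S6
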