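import Cfsg.Agent.Lib.S6.Defs
import Cfsg.Agent.Lib.F42.CT
import Cfsg.Agent.Lib.F42.FF

/-! S6, package FF2 (see blueprint/S6/README.md). -/

set_option autoImplicit false
set_option linter.unusedSectionVars false

namespace H29.S6

open Subgroup Cfsg H29.F42
open H87.U6 (F3 V lin)
open H75.L7 (Nm T Ch2 Rk3)

variable {G : Type*} [Group G] [Finite G] {j ρ : V → G} {τ : G} {θ θ' : Sp →* G} {D : Subgroup G}

open CT Cfsg.Lie in
theorem ct2 (F : Type*) [Field F] [Fintype F] (hF : Fintype.card F = 2) {θ1 θ2 : Sp →* G}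
    (h : CTd θ1 θ2) (i1 : Function.Injective θ1) {r s a a' : Lie.chevF4.group F} (hr : IsX r 47)
    (hs : IsX s 44) (ha : IsX a 25) (ha' : IsX a' 22) :
    ∃ f : Lie.chevF4.group F →* G, Function.Injective f ∧ f.range = θ1.range ⊔ θ2.range ∧
      (∀ x, θ1 x * f r = f r * θ1 x) ∧ (∀ x, θ2 x * f s = f s * θ2 x) ∧ f a = θ1 a3 ∧ f a' = θ1 b3 := by
  obtain ⟨θ, hθ⟩ := exists_θ (F := F)
  obtain ⟨φ, hφ, g0⟩ := exists_φ hF h
  obtain ⟨f, hf⟩ : ∃ f : chevF4.group F →* G, ∀ a, f (θ a) = φ a :=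
    ⟨φ.comp θ.symm.toMonoidHom, fun a => congrArg φ (θ.symm_apply_apply a)⟩
  have er : r = θ (chevF4.stGen F 47 1) := Subtype.ext (Units.ext (hr.trans (hθ 47 (by decide)).symm))
  have es : s = θ (chevF4.stGen F 44 1) := Subtype.ext (Units.ext (hs.trans (hθ 44 (by decide)).symm))
  have ea : a = θ (chevF4.stGen F 25 1) := Subtype.ext (Units.ext (ha.trans (hθ 25 (by decide)).symm))
  have ea' : a' = θ (chevF4.stGen F 22 1) :=
    Subtype.ext (Units.ext (ha'.trans (hθ 22 (by decide)).symm))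
  obtain ⟨e0, e1, e2, e3, e4, e5⟩ := gS_eq
  have p0 : φ (chevF4.stGen F 33 1) = θ1 a1 := (g0 0 33 (by decide) rfl).trans (congrArg θ1 e0)
  have p1 : φ (chevF4.stGen F 14 1) = θ1 b1 := (g0 1 14 (by decide) rfl).trans (congrArg θ1 e1)
  have p2 : φ (chevF4.stGen F 27 1) = θ1 a2 := (g0 2 27 (by decide) rfl).trans (congrArg θ1 e2)
  have p3 : φ (chevF4.stGen F 20 1) = θ1 b2 := (g0 3 20 (by decide) rfl).trans (congrArg θ1 e3)
  have p4 : φ (chevF4.stGen F 25 1) = θ1 a3 := (g0 4 25 (by decide) rfl).trans (congrArg θ1 e4)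
  have p5 : φ (chevF4.stGen F 22 1) = θ1 b3 := (g0 5 22 (by decide) rfl).trans (congrArg θ1 e5)
  have p6 : φ (chevF4.stGen F 24 1) = θ2 a1 := (g0 6 24 (by decide) rfl).trans (congrArg θ2 e0)
  have p7 : φ (chevF4.stGen F 23 1) = θ2 b1 := (g0 7 23 (by decide) rfl).trans (congrArg θ2 e1)
  have inj : Function.Injective f := by
    have := (Cfsg.Agent.S1054.result (F := F) chevF4 (by simp)).1
    refine (MonoidHom.ker_eq_bot_iff _).1 ((MonoidHom.normal_ker _).eq_bot_or_eq_top.resolve_right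
      fun k => ?_)
    have k1 : f (θ (chevF4.stGen F 25 1)) = 1 := k.ge (mem_top (θ (chevF4.stGen F 25 1)))
    rw [hf, p4, ← map_one θ1] at k1
    exact absurd (congrArg (fun g : Sp => g.1 (.inl 2) (.inr 2)) (i1 k1)) (by decide)
  obtain ⟨c1, c2, -⟩ := fin4
  have cm : ∀ a b, b < 48 → (a < 48 ∧ b ≠ a ∧ b ≠ chevF4.neg a ∧
      ∀ c ∈ chevF4.commTerms a b, c.2.1 % 2 = 0) → ∀ {g}, φ (chevF4.stGen F a 1) = g →
      g ∈ centralizer {φ (chevF4.stGen F b 1)} := fun a b k2 ⟨k1, k3, k4, k5⟩ g e =>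
    mem_centralizer_singleton_iff.2 (by rw [← e, ← map_mul, st_comm hF k1 k2 k3 k4 k5, map_mul])
  have m : ∀ {a g}, φ a = g → g ∈ f.range := fun {a g} e => ⟨θ a, (hf a).trans e⟩
  rw [er, es, ea, ea']
  refine ⟨f, inj, le_antisymm ?_ (sup_le ?_ ?_), fun x => ?_, fun x => ?_, (hf _).trans p4,
    (hf _).trans p5⟩
  · rintro _ ⟨g, rfl⟩
    rw [← θ.apply_symm_apply g, hf]
    exact hφ _
  · rintro _ ⟨x, rfl⟩
    exact gen θ1 _ (m p0) (m p1) (m p2) (m p3) (m p4) (m p5) x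
  · rintro _ ⟨x, rfl⟩
    exact gen θ2 _ (m p6) (m p7) (m (p4.trans h.a3)) (m (p5.trans h.b3)) (m (p2.trans h.a2))
      (m (p3.trans h.b2)) x
  · rw [hf]
    exact mem_centralizer_singleton_iff.1 (gen θ1 _ (cm _ _ (by decide) (c1 _ (by simp)) p0)
      (cm _ _ (by decide) (c1 _ (by simp)) p1) (cm _ _ (by decide) (c1 _ (by simp)) p2)
      (cm _ _ (by decide) (c1 _ (by simp)) p3) (cm _ _ (by decide) (c1 _ (by simp)) p4)
      (cm _ _ (by decide) (c1 _ (by simp)) p5) x)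
  · rw [hf]
    exact mem_centralizer_singleton_iff.1 (gen θ2 _ (cm _ _ (by decide) (c2 _ (by simp)) p6)
      (cm _ _ (by decide) (c2 _ (by simp)) p7) (cm _ _ (by decide) (c2 _ (by simp)) (p4.trans h.a3))
      (cm _ _ (by decide) (c2 _ (by simp)) (p5.trans h.b3))
      (cm _ _ (by decide) (c2 _ (by simp)) (p2.trans h.a2))
      (cm _ _ (by decide) (c2 _ (by simp)) (p3.trans h.b2)) x)

namespace FF2

open Cfsg.Lie H38 Cfsg.Agent

theorem tab : ∀ L ∈ S2174.reps, (∀ k ∈ L, k < 48) ∧ ∃ M ∈ [[25, 22], [24, 23]],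
    ∀ k ∈ L, ∀ m ∈ M, m < 48 ∧ H9.commB chevF4 m k = true := by
  decide +kernel

theorem chain : H9.chainB chevF4 tabF4 [(24, [26, 21]), (25, [24, 23])] [25, 22] [24, 23] = true := by
  decide +kernel

end FF2

open FF Cfsg.Lie H38 Cfsg.Agent in
theorem inv3b (F : Type*) [Field F] [Fintype F] (hF : Fintype.card F = 2) :
    ∃ a a' : Lie.chevF4.group F, IsX a 25 ∧ IsX a' 22 ∧
      ∀ t, t * t = 1 → ∃ g, g * (a * a') * g⁻¹ * t = t * (g * (a * a') * g⁻¹) := by
  have := Fact.mk Nat.prime_two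
  have : CharP F 2 := charP_of_card_eq_prime hF
  have h2 : (2 : F) = 0 := CharTwo.two_eq_zero
  obtain ⟨E, hE⟩ := (matFacts (D := chevF4) (by simp) F).exists_isMat rsF4
  have h := S2174.compat.two_of_comm hE h2 (by decide +kernel)
  refine ⟨S2174.compat.y hE [25], S2174.compat.y hE [22], coe_one hE (by decide),
    coe_one hE (by decide), fun t ht => ?_⟩
  by_cases t1 : t = 1
  · exact ⟨1, by simp [t1]⟩
  obtain ⟨L, hL, e⟩ := S2174.compat.classify hE H37.tabF4 h (g := t) S2174.run (by decide)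
    (orderOf_eq_prime (by rw [pow_two, ht]) t1)
  obtain ⟨g, rfl⟩ := isConj_iff.1 e.symm
  obtain ⟨l1, M, hM, k⟩ := FF2.tab L hL
  have c1 : IsConj (S2174.compat.y hE [25, 22]) (S2174.compat.y hE M) := by
    simp only [List.mem_cons, List.not_mem_nil, or_false] at hM
    rcases hM with rfl | rfl
    · exact IsConj.refl _
    · obtain ⟨w, hw, e⟩ := S2174.compat.chainB_spec (by decide) FF2.chain
      have := h.isConj_Y_map hw ([25, 22].map S2174.compat.φ)
      rwa [e] at this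
  have c2 : Commute (S2174.compat.y hE M) (S2174.compat.y hE L) :=
    H9.commute_Y fun r hr => by
      obtain ⟨a, ha, rfl⟩ := List.mem_map.1 hr
      refine (H9.commute_Y fun s hs => ?_).symm
      obtain ⟨b, hb, rfl⟩ := List.mem_map.1 hs
      rw [← y_one, ← y_one]
      exact (comm hE h (k a ha b hb).1 (l1 a ha) (k a ha b hb).2).symm
  obtain ⟨n, hn⟩ := isConj_iff.1 c1
  refine ⟨g * n, ?_⟩
  rw [← y_cons, show g * n * S2174.compat.y hE [25, 22] * (g * n)⁻¹ =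
    g * (n * S2174.compat.y hE [25, 22] * n⁻¹) * g⁻¹ by group, hn, ← MulAut.conj_apply,
    ← MulAut.conj_apply, ← map_mul, c2.eq, map_mul]

end H29.S6
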