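import Cfsg.Agent.Lib.S6.Bas
import Cfsg.Agent.Lib.S6.GEN

/-! S6, package FR (see blueprint/S6/README.md). -/

set_option autoImplicit false
set_option linter.unusedSectionVars false

namespace H29.S6

open Subgroup Cfsg H29.F42
open H87.U6 (F3 V lin)
open H75.L7 (Nm T Ch2 Rk3)

variable {G : Type*} [Group G] [Finite G] {j ρ : V → G} {τ : G} {θ θ' : Sp →* G} {D : Subgroup G}

namespace FR

theorem short {v : V} (hv : q v = 1) : ∃ N, Sim N ∧ N e1 = v := by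
  rcases (by decide +kernel : ∀ v : V, q v = 1 →
    rf (v - e1) e1 = v ∨ rf (v + e1) (rf e1 e1) = v) v hv with e | e
  · exact ⟨_, sim_rf _, e⟩
  · exact ⟨_, (sim_rf (v + e1)).comp (sim_rf e1), e⟩

theorem cop3 {Q : Subgroup G} (hQ : IsPGroup 2 Q) : (Nat.card Q).Coprime 3 := by
  haveI : Fact (Nat.Prime 2) := ⟨Nat.prime_two⟩
  obtain ⟨k, hk⟩ := hQ.exists_card_eq
  rw [hk]; exact Nat.Coprime.pow_left k (by decide)

theorem acj (h : Jm j) (w : V) : Ac j (j w) fun v => v := fun v => by rw [h.jc]; group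

theorem uq (h : Jm j) (cJ : ∀ g, (∀ v, g * j v = j v * g) → ∃ v, g = j v)
    (τj : ∀ v, τ * j v * τ⁻¹ = j (-v)) {g k : G} (hg : g * τ = τ * g) (hk : k * τ = τ * k)
    (e : ∀ v, g * j v * g⁻¹ = k * j v * k⁻¹) : g = k := by
  obtain ⟨w, hw⟩ := cJ (k⁻¹ * g) fun v => by
    calc k⁻¹ * g * j v = k⁻¹ * (g * j v * g⁻¹) * g := by group
      _ = _ := by rw [e]; group
  have c : j w * τ = τ * j w := hw ▸ H87.U6.cm_mul (H87.U6.cm_inv hk) hg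
  have a := τj w
  rw [← c, mul_inv_cancel_right] at a
  rw [(by decide +kernel : ∀ v : V, v = -v → v = 0) w (h.jinj a), h.j0] at hw
  exact (inv_mul_eq_one.1 hw).symm

theorem exτ (h : Jm j) (cJ : ∀ g, (∀ v, g * j v = j v * g) → ∃ v, g = j v) (τ2 : τ * τ = 1)
    (τj : ∀ v, τ * j v * τ⁻¹ = j (-v)) {n : G} {N : V → V} (hN : Sim N) (e : Ac j n N) :
    ∃ m, Ac j m N ∧ m * τ = τ * m := by
  obtain ⟨x, hx⟩ := cJ (τ * n * τ⁻¹ * n⁻¹) fun v => by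
    obtain ⟨M, -, -, h2⟩ := hN.inv
    have a : τ⁻¹ * j (M v) * τ = j (-M v) := by
      rw [← τj, inv_eq_of_mul_eq_one_right τ2]
    calc τ * n * τ⁻¹ * n⁻¹ * j v = τ * n * (τ⁻¹ * (n⁻¹ * j (N (M v)) * n) * τ) * τ⁻¹ * n⁻¹ := by
          rw [h2]; group
      _ = τ * (n * j (-M v) * n⁻¹) * τ⁻¹ * (τ * n * τ⁻¹ * n⁻¹) := by
          rw [← e, ← a]; group
      _ = _ := by rw [e, τj, hN.neg, neg_neg, h2]
  refine ⟨j (-x) * n, (acj h (-x)).mul e, ?_⟩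
  have a : τ * n = j x * n * τ := by rw [← hx]; group
  calc j (-x) * n * τ = j (- -x) * j x * n * τ := by
        rw [← h.add, (by decide +kernel : ∀ x : V, - -x + x = -x)]
    _ = τ * j (-x) * τ⁻¹ * (τ * n) := by rw [τj, a]; group
    _ = _ := by group

theorem std_cj (f : F1 j τ ρ) (s : Std j ρ θ) {n : G} {N : V → V} (hN : Sim N) (a : Ac j n N)
    (c : n * τ = τ * n) : Std (fun v => j (N v)) (fun v => ρ (N v)) (θc n θ) := by
  have r : ∀ {x : Sp} {v : V}, q v ≠ 0 → θ x = ρ v → θc n θ x = ρ (N v) := fun hv e => by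
    rw [θc_apply, e, f.ρcj hN c a hv]
  have w : ∀ {x : Sp} {v : V}, θ x = j v → θc n θ x = j (N v) := fun e => by rw [θc_apply, e, a]
  refine ⟨fun x y e => s.inj ((MulAut.conj n).injective e), fun x => ?_, fun x => ?_, fun g hg => ?_,
    w s.w0, w s.w1, w s.w2, r (by decide) s.t0, r (by decide) s.t1, r (by decide) s.t2,
    r (by decide) s.p01, r (by decide) s.p12⟩
  · rw [θc_apply, ← a]; exact H87.U6.cm_conj (s.cy x) n
  · rw [θc_apply, ← f.ρcj hN c a (by decide)]; exact H87.U6.cm_conj (s.cρ x) n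
  · obtain ⟨k, x, e⟩ := s.dec (n⁻¹ * g * n) (by
      have := H87.U6.cm_conj hg n⁻¹
      rw [← a] at this
      simpa [mul_assoc] using this)
    exact ⟨k, x, by rw [θc_apply, ← a, conj_mul, ← e]; group⟩

theorem tt : TT 0 * TT 1 * TT 2 * (TT 0 * TT 1 * TT 2) = 1 ∧
    (∀ i, TT i * (TT 0 * TT 1 * TT 2) = TT 0 * TT 1 * TT 2 * TT i) ∧
    P01 * (TT 0 * TT 1 * TT 2) = TT 0 * TT 1 * TT 2 * P01 ∧
    P12 * (TT 0 * TT 1 * TT 2) = TT 0 * TT 1 * TT 2 * P12 := by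
  refine ⟨?_, fun i => ?_, ?_, ?_⟩
  · rw [MD1.TT0_wd, MD1.TT1_wd, MD1.TT2_wd]
    simp only [← MD1.wd_append]
    exact MD1.wd_eq (l' := []) (by decide)
  · have c := sp_rel.2.2.2.1 i
    exact (H87.U6.cm_mul (H87.U6.cm_mul (c 0).symm (c 1).symm) (c 2).symm).symm
  · rw [MD1.TT0_wd, MD1.TT1_wd, MD1.TT2_wd, MD1.P01_wd]
    simp only [← MD1.wd_append]
    exact MD1.wd_eq (by decide)
  · rw [MD1.TT0_wd, MD1.TT1_wd, MD1.TT2_wd, MD1.P12_wd]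
    simp only [← MD1.wd_append]
    exact MD1.wd_eq (by decide)

end FR

open FR in
theorem fr_D (h : Hy j θ D) (hS : ∀ N, Sim N → q (N e1) = 1 → ∃ n, Ac j n N) : D = ⊥ := by
  have jm := h.toCh0.jm
  have s2 : θ P12 * θ P12 = 1 := by rw [← map_mul, sp_rel.2.2.2.2.2.2.2.1, map_one]
  have s1 : θ P12 ≠ 1 := fun e =>
    sp_rel.2.2.2.2.2.2.2.2.2.2.2.2.2.2.2.2.2.1 (h.θi (e.trans (map_one θ).symm))
  refine eq_bot_iff.2 fun d hd => mem_bot.2 ?_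
  refine h.ch.odd (H75.L7.two_zp s2) (fun e => s1 (zpowers_eq_bot.1 e)) h.odd
    (congrArg Subtype.val (pow_card_eq_one' (G := D) (x := ⟨d, hd⟩))) fun t ht => ?_
  refine (H75.L7.mem_cent.1 (gen27 (B := centralizer {d}) (cop3 (H75.L7.T_two _))
    (fun x => j (x.1, x.2.1, x.2.2, x.2.2)) (fun x y => jm.add (_, _, _, _) (_, _, _, _))
    (fun x e => ?_) (fun x => ?_) (fun φ hφ k hk c => ?_) ht)).symm
  · exact (by decide +kernel : ∀ x : X3, ((x.1, x.2.1, x.2.2, x.2.2) : V) = 0 → x = 0) x (h.inj _ e)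
  · refine (H75.L7.nm_zp (Eq.symm (h.toCh0.ac12.cm ?_))).T
    exact (by decide +kernel : ∀ x : X3, rf (0, 0, 1, -1) (x.1, x.2.1, x.2.2, x.2.2) =
      (x.1, x.2.1, x.2.2, x.2.2)) x
  · obtain ⟨x, h1, h2⟩ := (by decide +kernel : ∀ φ : X3, φ ≠ 0 → ∃ x : X3, dot φ x = 0 ∧
      q (x.1, x.2.1, x.2.2, x.2.2) = 1) φ hφ
    obtain ⟨N, hN, e⟩ := short h2
    obtain ⟨n, a⟩ := hS N hN (e ▸ h2)
    obtain ⟨m, hm⟩ := H75.L7.two_pow (H75.L7.T_two _) hk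
    obtain ⟨y, rfl⟩ := (h.toCh.cj a).mem2 (by rw [e]; exact c x h1) hm
    exact H75.L7.mem_cent.2 ((h.toCh.cj a).Dθ d hd y).symm

open FR in
theorem fr (h : Hy j θ ⊥) (hs : ∀ n N, Ac j n N → Sim N)
    (hS : ∀ N, Sim N → q (N e1) = 1 → ∃ n, Ac j n N) : ∃ (j' : V → G) (τ : G) (ρ : V → G), Fm j' τ ρ := by
  have jm := h.toCh0.jm
  have cJ : ∀ g, (∀ v, g * j v = j v * g) → ∃ v, g = j v := fun g c => by
    obtain ⟨v, d, hd, e⟩ := h.toCh0.cJ c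
    exact ⟨v, by rw [e, mem_bot.1 hd, mul_one]⟩
  have hr : ∀ a, ∃ n, Ac j n (rf a) := fun a =>
    hS _ (sim_rf a) ((by decide +kernel : ∀ a : V, q (rf a e1) = 1) a)
  obtain ⟨r, r2, ra⟩ : ∃ r, r * r = 1 ∧ Ac j r (rf e1) := by
    obtain ⟨n, a⟩ := hr e1
    obtain ⟨w, hw⟩ := cJ (n * n) fun v => (a.mul a).cm (rf_rf e1 v)
    have e : rf e1 w = w := jm.jinj (by rw [← a, ← hw]; group)
    refine ⟨j w * n, ?_, (acj jm w).mul a⟩
    calc j w * n * (j w * n) = j w * (n * j w * n⁻¹) * (n * n) := by group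
      _ = 1 := by rw [a, hw, e, ← jm.add, ← jm.add, three_smul, jm.j0]
  have cL := h.toCh.cL r2 ra
  obtain ⟨τ, hτ⟩ : ∃ τ, τ = r * θ (TT 0 * TT 1 * TT 2) := ⟨_, rfl⟩
  have τθ : ∀ x, x * (TT 0 * TT 1 * TT 2) = TT 0 * TT 1 * TT 2 * x → θ x * τ = τ * θ x := fun x c => by
    rw [hτ]
    exact (H87.U6.cm_mul (cL x) (by rw [← map_mul, ← map_mul, c])).symm
  have τr : r * τ = τ * r := by rw [hτ, mul_assoc r _ r, cL]
  have τ2 : τ * τ = 1 := by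
    calc τ * τ = r * (θ (TT 0 * TT 1 * TT 2) * r) * θ (TT 0 * TT 1 * TT 2) := by rw [hτ]; group
      _ = r * r * (θ (TT 0 * TT 1 * TT 2) * θ (TT 0 * TT 1 * TT 2)) := by rw [← cL]; group
      _ = 1 := by rw [r2, ← map_mul, tt.1, map_one, one_mul]
  have τj : Ac j τ fun v => -v := by
    rw [hτ, map_mul, map_mul]
    exact (ra.mul (((h.toCh0.acT 0).mul (h.toCh0.acT 1)).mul (h.toCh0.acT 2))).congr (by decide +kernel)
  choose ρ0 ρa ρτ using fun a => (hr a).elim fun n e => exτ jm cJ τ2 τj (sim_rf a) e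
  have f : F1 j τ ρ0 := ⟨h.add, h.inj, cJ, τ2, τj,
    fun a _ => uq jm cJ τj (H87.U6.cm_mul (ρτ a) (ρτ a)) (by rw [one_mul, mul_one]) fun v => by
      rw [((ρa a).mul (ρa a)).congr (N := fun v => v) (rf_rf a) v, one_mul, inv_one, mul_one],
    fun a _ => ρτ a, fun a _ => ρa a,
    fun n hn => (jm.nj_ac hn).elim fun N a => ⟨N, hs n N a, a⟩⟩
  have u : ∀ {g a}, g * τ = τ * g → Ac j g (rf a) → g = ρ0 a := fun c a =>
    f.uq c (ρτ _) fun v => by rw [a, ρa]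
  have s : Std j ρ0 θ := ⟨h.θi, h.cy, fun x => by rw [← u τr ra, cL], fun g c => by
      obtain ⟨k, x, d, hd, e⟩ := h.dec g c
      exact ⟨k, x, by rw [e, mem_bot.1 hd, mul_one]⟩,
    h.w0, h.w1, h.w2, u (τθ _ (tt.2.1 0)) (h.toCh0.acT 0), u (τθ _ (tt.2.1 1)) (h.toCh0.acT 1),
    u (τθ _ (tt.2.1 2)) (h.toCh0.acT 2), u (τθ _ tt.2.2.1) h.toCh0.ac01, u (τθ _ tt.2.2.2) h.toCh0.ac12⟩
  have q1 : ∀ v : V, q v = 2 → q (N1 v) = 1 := by decide +kernel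
  refine ⟨_, τ, _, f.comp sim_N1, h.ch, h.rk, fun N hN e => ?_, fun g v w e c => ?_⟩
  · obtain ⟨n, a⟩ := hS _ (sim_N1.comp hN) (q1 _ e)
    obtain ⟨m, a', c⟩ := exτ jm cJ τ2 τj (sim_N1.comp hN) a
    exact ⟨_, std_cj f s (sim_N1.comp hN) a' c⟩
  · obtain ⟨M, hM, e'⟩ := short (q1 v e)
    obtain ⟨n0, a⟩ := hS M hM (e' ▸ q1 v e)
    obtain ⟨n, hn, c'⟩ := h.fusb (g * n0) (N1 w) (by rw [← c, ← e', ← a]; group)
    exact ⟨n * n0⁻¹, (sim_N1.nj _).2 (hn.mul (jm.nj_inv a.nj)), by rw [← c', ← e', ← a]; group⟩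

end H29.S6
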