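import Cfsg.Agent.Lib.S6.Defs
import Cfsg.Agent.Lib.F42.FF
import Cfsg.Agent.Lib.Twist.F4Mat
import Cfsg.Agent.Lib.Twist.BT
import Cfsg.Agent.Lib.ChevAut.Op

/-! S6, package FX (see blueprint/S6/README.md). -/

set_option autoImplicit false
set_option linter.unusedSectionVars false

namespace H29.S6

open Subgroup Cfsg H29.F42
open H87.U6 (F3 V lin)
open H75.L7 (Nm T Ch2 Rk3)

variable {G : Type*} [Group G] [Finite G] {j ρ : V → G} {τ : G} {θ θ' : Sp →* G} {D : Subgroup G}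

theorem fx (F : Type*) [Field F] [Fintype F] (hF : Fintype.card F = 2) :
    ∃ α : MulAut (Lie.chevF4.group F), α * α = 1 ∧ (∀ x, α ≠ MulAut.conj x) ∧
      ∀ X : Subgroup (Lie.chevF4.group F), IsPGroup 2 X → (∀ g ∈ X, α g = g) →
        (∀ g, α g = g → Nm g X) → X = ⊥ := by
  obtain ⟨R, E, hE, T, h, -⟩ := H39.exists_F4 (K := F) (m := 0) hF
  classical
  have := h.char
  have := Fact.mk Nat.prime_two
  have φ1 : ∀ i t, T.φ i t = t := fun i t => by
    rcases FF.zo hF t with rfl | rfl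
    exacts [map_zero _, map_one _]
  have ρ2 : ∀ i, T.ρ (T.ρ i) = i := by
    rw [h.hρ]; exact (by decide : ∀ i : Fin 4, H39.rho2F4 (H39.rho2F4 i) = i)
  have σ2 : ∀ g, T.σ (T.σ g) = g := fun g => by
    refine DFunLike.congr_fun (H61.hom_ext_simple T.hG
      (φ := T.σ.toMonoidHom.comp T.σ.toMonoidHom) (ψ := MonoidHom.id _) (fun i t => ?_)
      fun i t => ?_) g
    · change T.σ (T.σ _) = _
      rw [T.σ_pos, T.σ_pos, ρ2, φ1, φ1]; rfl
    · change T.σ (T.σ _) = _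
      rw [T.σ_neg, T.σ_neg, ρ2, φ1, φ1]; rfl
  have key : ∀ X : Subgroup (Lie.chevF4.group F), IsPGroup 2 X → (∀ g ∈ X, T.σ g = g) →
      (∀ g, T.σ g = g → Nm g X) → X = ⊥ := by
    intro X hX h1 h2
    obtain ⟨γ, hγ, J, -, k, -⟩ := h.good.borel_tits 2 h.h3 hX (by
      ext g
      exact ⟨by rintro ⟨x, hx, rfl⟩; exact (h1 x hx).symm ▸ hx, fun hg => ⟨g, hg, h1 g hg⟩⟩)
    refine eq_bot_iff.2 fun x hx => mem_bot.2 (h.good.core h.h3 h.hz fun a ha => ?_)
    have := k _ (h2 _ (T.Γ.mul_mem (T.Γ.inv_mem hγ) ha) x hx)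
    rw [show γ * (γ⁻¹ * a * x * (γ⁻¹ * a)⁻¹) * γ⁻¹ = a * x * a⁻¹ by group] at this
    exact hE.grp.U_le_B (hE.grp.UJ_le_U J this)
  refine ⟨T.σ, MulEquiv.ext σ2, fun x e => ?_, key⟩
  have e' : ∀ g, T.σ g = x * g * x⁻¹ := fun g => DFunLike.congr_fun e g
  have x2 : x * x = 1 := by
    refine mem_bot.1 (h.hz ▸ mem_center_iff.2 fun g => ?_)
    have := σ2 g
    rw [e', e'] at this
    calc g * (x * x) = x * (x * g * x⁻¹) * x⁻¹ * (x * x) := by rw [this]
      _ = _ := by group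
  have hb := key (zpowers x)
    (IsPGroup.of_card (n := if x = 1 then 0 else 1) (by
      rw [Nat.card_zpowers]
      split_ifs with c
      · rw [c, orderOf_one, pow_zero]
      · rw [pow_one]; exact orderOf_eq_prime (by rw [pow_two, x2]) c))
    (by rintro _ ⟨k, rfl⟩; rw [e']; group) fun g hg => by
      rintro _ ⟨k, rfl⟩
      rw [e', mul_inv_eq_iff_eq_mul] at hg
      have : g * x ^ k = x ^ k * g := ((Commute.zpow_left hg k).eq).symm
      refine ⟨k, ?_⟩
      change x ^ k = g * x ^ k * g⁻¹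
      rw [this, mul_inv_cancel_right]
  have x1 : x = 1 := mem_bot.1 (hb ▸ mem_zpowers x)
  have := T.σ_pos (0 : Fin 4) 1
  rw [e', x1, one_mul, inv_one, mul_one] at this
  have := R.toRS.sim_inj (H39.root_eq_of_x_eq T.hF one_ne_zero this)
  rw [h.hρ] at this
  exact absurd (show (0 : Fin 4) = H39.rho2F4 0 from this) (by decide)

end H29.S6
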