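import Cfsg.Agent.Lib.S6.S8a
import Cfsg.Agent.Lib.S6.MDa
import Cfsg.Agent.Lib.S6.MDb
import Cfsg.Agent.Lib.F42.MD1a

/-! S6, package ID (see blueprint/S6/README.md). -/

set_option autoImplicit false
set_option linter.unusedSectionVars false

namespace H29.S6

open Subgroup Cfsg H29.F42
open H87.U6 (F3 V lin)
open H75.L7 (Nm T Ch2 Rk3)

variable {G : Type*} [Group G] [Finite G] {j ρ : V → G} {τ : G} {θ θ' : Sp →* G} {D : Subgroup G}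

namespace ID

/-- the first plane -/
def P0 (a : W) : Prop := a (.inl 1) = 0 ∧ a (.inl 2) = 0 ∧ a (.inr 1) = 0 ∧ a (.inr 2) = 0
/-- the last two planes -/
def Q0 (x : W) : Prop := x (.inl 0) = 0 ∧ x (.inr 0) = 0
/-- the first two planes -/
def Q2 (x : W) : Prop := x (.inl 2) = 0 ∧ x (.inr 2) = 0

instance (a : W) : Decidable (P0 a) := inferInstanceAs (Decidable (_ ∧ _))
instance (a : W) : Decidable (Q0 a) := inferInstanceAs (Decidable (_ ∧ _))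
instance (a : W) : Decidable (Q2 a) := inferInstanceAs (Decidable (_ ∧ _))

/-- the inverse of `kk` -/
def ir (x : W) : W :=
  Sum.elim ![x (.inl 2), x (.inl 0), x (.inl 1)] ![x (.inr 2), x (.inr 0), x (.inr 1)]
/-- the component in the first plane -/
def pa (v : W8) : W := Sum.elim ![v (.inl 0), 0, 0] ![v (.inr 0), 0, 0]
/-- the component in the last three planes -/
def px (v : W8) : W :=
  Sum.elim ![v (.inl 1), v (.inl 2), v (.inl 3)] ![v (.inr 1), v (.inr 2), v (.inr 3)]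

theorem eqns : True := by
  have := @P0.eq_1; have := @Q0.eq_1; have := @Q2.eq_1; have := @ir.eq_1; have := @pa.eq_1
  have := @px.eq_1
  trivial

theorem kk_ir (x : W) : ac kk (ir x) = x := by
  have e : kk = MD1.wd [6, 48, 54, 3, 24, 27] := by
    rw [kk, MD1.P12_wd, MD1.P01_wd, ← MD1.wd_append]; rfl
  have t : ∀ n < 64, ir (MD1.dc (MD1.wN [6, 48, 54, 3, 24, 27] n)) = MD1.dc n := by decide +kernel
  have i : ∀ x y : W, ir x = ir y → x = y := by decide +kernel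
  obtain ⟨n, hn, h⟩ := MD1.dc_surj (ir x)
  apply i
  rw [← h, e, (MD1.ac_wd (by decide) hn).2, t n hn]

theorem ki (x : W) : ac kk⁻¹ x = ir x := by
  conv_lhs => rw [← kk_ir x]
  exact MD1.ac_inv _ _

theorem ir_lin (x y : W) (c : ZMod 2) : ir (x + c • y) = ir x + c • ir y := by
  simp only [← ki, ac_add, MD1.ac_smul]

theorem ir_om (x y : W) : om (ir x) (ir y) = om x y := by simp only [← ki, ac_om]

theorem ir_Q : ∀ x, Q2 x → Q0 (ir x) := by decide +kernel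
theorem ir_ne : ∀ x, x ≠ 0 → ir x ≠ 0 := by decide +kernel
theorem ir_0 : ir 0 = 0 := by decide +kernel
theorem ir_f : ir (ff 0) = ff 1 := by decide +kernel
theorem PQ : ∀ a, P0 a → Q2 a ∧ Q2 (a + ff 1) ∧ a = a (.inl 0) • ff 0 + a (.inr 0) • gg 0 := by
  decide +kernel
theorem om_PQ : ∀ a, P0 a → ∀ x, Q0 x → om a x = 0 ∧ om x a = 0 := by decide +kernel
theorem Q0_add : ∀ x, Q0 x → ∀ y, Q0 y → Q0 (x + y) := by decide +kernel
theorem Q2_lin : ∀ x, Q2 x → ∀ y, Q2 y → ∀ c : ZMod 2, Q2 (x + c • y) := by decide +kernel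
theorem P0_lin : ∀ x, P0 x → ∀ y, P0 y → ∀ c : ZMod 2, P0 (x + c • y) := by decide +kernel
theorem mid : ∀ w, Q0 w → w ≠ 0 → ∃ z, Q0 z ∧ om (ff 1) z = 1 ∧ om z w = 1 := by decide +kernel
theorem split : ∀ y : W, P0 y ∨ ∃ a, P0 a ∧ Q0 (a + y) ∧ a + y ≠ 0 := by decide +kernel
theorem base : P0 0 ∧ P0 (ff 0) ∧ P0 (gg 0) ∧ Q0 (ff 1) ∧ ff 0 ≠ 0 := by decide +kernel

theorem tv_S4 {u : W} (h : Q0 u) : tv u ∈ S4 :=
  mem_S4.2 ⟨by rw [ac_tv, (om_PQ _ base.2.1 u h).1, zero_smul, add_zero],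
    by rw [ac_tv, (om_PQ _ base.2.2.1 u h).1, zero_smul, add_zero]⟩

theorem S4_fix {x : Sp} (hx : x ∈ S4) {a : W} (h : P0 a) : ac x a = a := by
  rw [(PQ a h).2.2, ac_add, MD1.ac_smul, MD1.ac_smul, (mem_S4.1 hx).1, (mem_S4.1 hx).2]

theorem tv_mv {a b : W} (h : om a b = 1) : ac (tv (a + b)) a = b := by
  rw [ac_tv, MD1.om_add', om_self, h, zero_add, one_smul, MD1.aa']

theorem S4_tr {w : W} (h : Q0 w) (h0 : w ≠ 0) : ∃ y ∈ S4, ac y (ff 1) = w := by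
  obtain ⟨z, a, b, c⟩ := mid w h h0
  exact ⟨tv (z + w) * tv (ff 1 + z), mul_mem (tv_S4 (Q0_add _ a _ h)) (tv_S4 (Q0_add _ base.2.2.2.1 _ a)),
    by rw [ac_mul, tv_mv b, tv_mv c]⟩

theorem mv2 (x y : W) : ∃ g, Q2 (ac g x) ∧ Q2 (ac g y) := by
  obtain ⟨g, hg⟩ : ∃ g, P0 (ac g x) := by
    by_cases h : x = 0
    · exact ⟨1, by rw [h, ac_one]; exact base.1⟩
    · obtain ⟨g, hg⟩ := sp_tr x (ff 0) h base.2.2.2.2
      exact ⟨g, by rw [hg]; exact base.2.1⟩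
  rcases split (ac g y) with h | ⟨a, h1, h2, h3⟩
  · exact ⟨g, (PQ _ hg).1, (PQ _ h).1⟩
  · obtain ⟨s, hs, e⟩ := S4_tr h2 h3
    refine ⟨s⁻¹ * g, ?_, ?_⟩
    · rw [ac_mul, S4_fix (inv_mem hs) hg]; exact (PQ _ hg).1
    · rw [ac_mul, ← MD1.aa' a (ac g y), ← e, ac_add, MD1.ac_inv, S4_fix (inv_mem hs) h1]
      exact (PQ _ h1).2.1

theorem tv_gen (K : Subgroup Sp) (h : ∀ w, tv w ∈ K) : K = ⊤ := by
  rw [eq_top_iff, ← sp_gen, closure_le]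
  have e : ∀ u v, ee u v ∈ K := fun u v => mul_mem (mul_mem (h _) (h _)) (h _)
  rintro x (rfl | rfl | rfl | rfl | rfl | rfl)
  exacts [e _ _, e _ _, e _ _, e _ _, h _, h _]

theorem pa_P (v : W8) : P0 (pa v) := ⟨rfl, rfl, rfl, rfl⟩

theorem pa_lin (u v : W8) (c : ZMod 2) : pa (u + c • v) = pa u + c • pa v := by
  funext i
  rcases i with i | i <;> fin_cases i <;> simp [pa]

theorem px_lin (u v : W8) (c : ZMod 2) : px (u + c • v) = px u + c • px v := by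
  funext i
  rcases i with i | i <;> fin_cases i <;> simp [px]

theorem om8_eq (u v : W8) : om8 u v = om (pa u) (pa v) + om (px u) (px v) := by
  simp [om8, MD1.om6, pa, px, Fintype.sum_sum_type, Fin.sum_univ_four]
  ring

theorem up1_eq : ∀ w, pa (up1 w) = 0 ∧ px (up1 w) = w := by decide +kernel
theorem up4_eq : ∀ w, Q2 (px (up4 w)) ∧ pa (up4 w) + ir (px (up4 w)) = w := by decide +kernel

variable {θ1 θ2 : Sp →* G}

theorem cS (cm : ∀ x ∈ S4, ∀ y ∈ S4, θ2 (kk * x * kk⁻¹) * θ1 y = θ1 y * θ2 (kk * x * kk⁻¹))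
    {u : W} (h : Q2 u) : S4 ≤ (centralizer {θ2 (tv u)}).comap θ1 := fun y hy => by
  have := cm _ (tv_S4 (ir_Q u h)) y hy
  rw [tv_cj, kk_ir] at this
  exact mem_centralizer_singleton_iff.2 this.symm

theorem cK (ag : ∀ x ∈ S4, θ2 x = θ1 (kk * x * kk⁻¹)) {u : W} {x : Sp} (hx : x ∈ S4) (h : ac x u = u) :
    kk * x * kk⁻¹ ∈ (centralizer {θ2 (tv u)}).comap θ1 := by
  refine mem_centralizer_singleton_iff.2 ?_
  rw [← ag x hx, ← map_mul, ← map_mul, MD1.tv_comm h]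

theorem exD (ag : ∀ x ∈ S4, θ2 x = θ1 (kk * x * kk⁻¹))
    (cm : ∀ x ∈ S4, ∀ y ∈ S4, θ2 (kk * x * kk⁻¹) * θ1 y = θ1 y * θ2 (kk * x * kk⁻¹)) :
    ∃ d : W → W → G, (∀ a, d a 0 = θ2 (tv a)) ∧
      ∀ a, P0 a → ∀ g, d a (ac g (ff 0)) = θ1 g * θ2 (tv (a + ff 1)) * (θ1 g)⁻¹ := by
  have : ∀ x : W, ∃ g, x ≠ 0 → ac g (ff 0) = x := fun x => by
    by_cases h : x = 0
    · exact ⟨1, fun k => absurd h k⟩
    · obtain ⟨g, hg⟩ := sp_tr (ff 0) x base.2.2.2.2 h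
      exact ⟨g, fun _ => hg⟩
  choose l hl using this
  refine ⟨fun a x => if x = 0 then θ2 (tv a) else θ1 (l x) * θ2 (tv (a + ff 1)) * (θ1 (l x))⁻¹,
    fun a => if_pos rfl, fun a ha g => ?_⟩
  have n : ac g (ff 0) ≠ 0 := fun e => base.2.2.2.2 (MD1.ac_inj g (e.trans (MD1.ac_zero g).symm))
  have c := mem_centralizer_singleton_iff.1 (stab_gen _ (cS cm (PQ a ha).2.1)
    (fun x hx e => cK ag hx (by rw [ac_add, e, S4_fix hx ha])) (g⁻¹ * l (ac g (ff 0)))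
    (by rw [ac_mul, hl _ n, MD1.ac_inv]))
  rw [map_mul, map_inv] at c
  simp only [if_neg n]
  calc _ = θ1 g * ((θ1 g)⁻¹ * θ1 (l (ac g (ff 0))) * θ2 (tv (a + ff 1))) * (θ1 (l (ac g (ff 0))))⁻¹ := by
        group
    _ = _ := by rw [c]; group

variable {d : W → W → G}

theorem dC (ag : ∀ x ∈ S4, θ2 x = θ1 (kk * x * kk⁻¹))
    (cm : ∀ x ∈ S4, ∀ y ∈ S4, θ2 (kk * x * kk⁻¹) * θ1 y = θ1 y * θ2 (kk * x * kk⁻¹))
    (d0 : ∀ a, d a 0 = θ2 (tv a))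
    (d1 : ∀ a, P0 a → ∀ g, d a (ac g (ff 0)) = θ1 g * θ2 (tv (a + ff 1)) * (θ1 g)⁻¹)
    {a : W} (ha : P0 a) (g : Sp) (x : W) : θ1 g * d a x * (θ1 g)⁻¹ = d a (ac g x) := by
  by_cases h : x = 0
  · have c : g ∈ (centralizer {θ2 (tv a)}).comap θ1 := by
      rw [gen44 _ (cS cm (PQ a ha).1) fun x hx => cK ag hx (S4_fix hx ha)]; trivial
    rw [h, MD1.ac_zero, d0, mem_centralizer_singleton_iff.1 c, mul_inv_cancel_right]
  · obtain ⟨l, rfl⟩ := sp_tr (ff 0) x base.2.2.2.2 h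
    rw [← ac_mul, d1 a ha, d1 a ha, map_mul]
    group

theorem dM (ag : ∀ x ∈ S4, θ2 x = θ1 (kk * x * kk⁻¹)) (d0 : ∀ a, d a 0 = θ2 (tv a))
    (d1 : ∀ a, P0 a → ∀ g, d a (ac g (ff 0)) = θ1 g * θ2 (tv (a + ff 1)) * (θ1 g)⁻¹)
    {a : W} (ha : P0 a) {x : W} (hx : Q2 x) : d a x = θ2 (tv (a + ir x)) := by
  by_cases h : x = 0
  · rw [h, d0, ir_0, add_zero]
  · obtain ⟨y, hy, e⟩ := S4_tr (ir_Q x hx) (ir_ne x h)
    have e' : ac (kk * y * kk⁻¹) (ff 0) = x := by rw [ac_mul, ac_mul, ki, ir_f, e, kk_ir]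
    rw [← e, ← e', d1 a ha, ← ag y hy, ← map_inv, ← map_mul, ← map_mul, tv_cj, ac_add, S4_fix hy ha]

theorem dE (ag : ∀ x ∈ S4, θ2 x = θ1 (kk * x * kk⁻¹))
    (cm : ∀ x ∈ S4, ∀ y ∈ S4, θ2 (kk * x * kk⁻¹) * θ1 y = θ1 y * θ2 (kk * x * kk⁻¹))
    (d0 : ∀ a, d a 0 = θ2 (tv a))
    (d1 : ∀ a, P0 a → ∀ g, d a (ac g (ff 0)) = θ1 g * θ2 (tv (a + ff 1)) * (θ1 g)⁻¹)
    {a b : W} (ha : P0 a) (hb : P0 b) (x y : W) :
    d a x * d b y * (d a x)⁻¹ = d (b + (om b a + om y x) • a) (y + (om b a + om y x) • x) := by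
  obtain ⟨g, h1, h2⟩ := mv2 x y
  have hc := P0_lin b hb a ha (om b a + om y x)
  apply (MulAut.conj (θ1 g)).injective
  rw [map_mul, map_mul, map_inv]
  simp only [MulAut.conj_apply]
  rw [dC ag cm d0 d1 ha, dC ag cm d0 d1 hb, dC ag cm d0 d1 hc, ac_add, MD1.ac_smul, dM ag d0 d1 ha h1,
    dM ag d0 d1 hb h2, dM ag d0 d1 hc (Q2_lin _ h2 _ h1 _), ← map_inv, ← map_mul, ← map_mul, tv_cj, ac_tv,
    ir_lin, om_add, MD1.om_add', MD1.om_add', (om_PQ b hb _ (ir_Q _ h1)).1, (om_PQ a ha _ (ir_Q _ h2)).2,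
    ir_om, ac_om, add_zero, zero_add, smul_add]
  congr 2
  abel

theorem d01 (ag : ∀ x ∈ S4, θ2 x = θ1 (kk * x * kk⁻¹)) (d0 : ∀ a, d a 0 = θ2 (tv a))
    (d1 : ∀ a, P0 a → ∀ g, d a (ac g (ff 0)) = θ1 g * θ2 (tv (a + ff 1)) * (θ1 g)⁻¹) (x : W) :
    d 0 x = θ1 (tv x) := by
  by_cases h : x = 0
  · rw [h, d0, MD1.tv_zero, map_one, map_one]
  · obtain ⟨l, rfl⟩ := sp_tr (ff 0) x base.2.2.2.2 h
    rw [d1 0 base.1, zero_add, ag _ (tv_S4 base.2.2.2.1), tv_cj, ← ir_f, kk_ir, ← map_inv, ← map_mul,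
      ← map_mul, tv_cj]

end ID

open ID in
theorem id8 {θ1 θ2 : Sp →* G} (i1 : Function.Injective θ1)
    (ag : ∀ x ∈ S4, θ2 x = θ1 (kk * x * kk⁻¹))
    (cm : ∀ x ∈ S4, ∀ y ∈ S4, θ2 (kk * x * kk⁻¹) * θ1 y = θ1 y * θ2 (kk * x * kk⁻¹))
    (hC : ∀ g, (∀ x, g * θ1 x = θ1 x * g) → (∀ x, g * θ2 x = θ2 x * g) → g = 1) :
    ∃ f : Sp8 →* G, Function.Injective f ∧ f.range = θ1.range ⊔ θ2.range ∧
      (∀ w, f (tv8 (up1 w)) = θ1 (tv w)) ∧ ∀ w, f (tv8 (up4 w)) = θ2 (tv w) := by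
  obtain ⟨d, d0, d1⟩ := exD ag cm
  obtain ⟨e, he⟩ : ∃ e : W8 → G, ∀ v, e v = d (pa v) (px v) := ⟨_, fun _ => rfl⟩
  have e1 : ∀ w, e (up1 w) = θ1 (tv w) := fun w => by
    rw [he, (up1_eq w).1, (up1_eq w).2, d01 ag d0 d1]
  have e4 : ∀ w, e (up4 w) = θ2 (tv w) := fun w => by
    rw [he, dM ag d0 d1 (pa_P _) (up4_eq w).1, (up4_eq w).2]
  have ec : ∀ u v, e u * e v * (e u)⁻¹ = e (ac8 (tv8 u) v) := fun u v => by
    rw [he, he, he, ac8_tv, pa_lin, px_lin, om8_eq, dE ag cm d0 d1 (pa_P _) (pa_P _)]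
  have em : ∀ v, e v ∈ θ1.range ⊔ θ2.range := fun v => by
    rw [he]
    by_cases h : px v = 0
    · rw [h, d0]; exact mem_sup_right ⟨_, rfl⟩
    · obtain ⟨l, hl⟩ := sp_tr (ff 0) _ base.2.2.2.2 h
      rw [← hl, d1 _ (pa_P _)]
      exact mul_mem (mul_mem (mem_sup_left ⟨_, rfl⟩) (mem_sup_right ⟨_, rfl⟩))
        (inv_mem (mem_sup_left ⟨_, rfl⟩))
  let K : Subgroup (Sp8 × G) := sgOf
    { carrier := {p | ∀ v, p.2 * e v * p.2⁻¹ = e (ac8 p.1 v)}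
      one_mem' := fun v => by simp [ac8_one]
      mul_mem' := fun {p r} hp hr v => by
        rw [Prod.fst_mul, Prod.snd_mul, ac8_mul, ← hp, ← hr]; group }
  let π : K →* Sp8 := (MonoidHom.fst _ _).comp K.subtype
  have cen : ∀ (ψ : Sp →* G) (g : G), (∀ w, g * ψ (tv w) * g⁻¹ = ψ (tv w)) → ∀ x, g * ψ x = ψ x * g :=
    fun ψ g h x => by
      have : x ∈ (centralizer {g}).comap ψ := by
        rw [tv_gen ((centralizer {g}).comap ψ) fun w => mem_centralizer_singleton_iff.2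
          (mul_inv_eq_iff_eq_mul.1 (h w)).symm]
        trivial
      exact (mem_centralizer_singleton_iff.1 this).symm
  have πi : Function.Injective π := (injective_iff_map_eq_one π).2 fun ⟨⟨x, g⟩, hp⟩ h => by
    have hx : x = 1 := h
    have k : ∀ v, g * e v * g⁻¹ = e v := fun v => by
      have := hp v
      rwa [hx, ac8_one] at this
    exact Subtype.ext (Prod.ext hx (hC g (cen θ1 g fun w => e1 w ▸ k _) (cen θ2 g fun w => e4 w ▸ k _)))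
  have πs : Function.Surjective π := MonoidHom.range_eq_top.1
    (tv8_gen _ fun v => ⟨⟨(tv8 v, e v), ec v⟩, rfl⟩)
  let f : Sp8 →* G := ((MonoidHom.snd _ _).comp K.subtype).comp
    (MulEquiv.ofBijective π ⟨πi, πs⟩).symm.toMonoidHom
  have hf : ∀ v, f (tv8 v) = e v := fun v =>
    congrArg (fun p : K => p.1.2) ((MulEquiv.ofBijective π ⟨πi, πs⟩).symm_apply_apply ⟨(tv8 v, e v), ec v⟩)
  refine ⟨f, ?_, le_antisymm ?_ (sup_le ?_ ?_), fun w => by rw [hf, e1], fun w => by rw [hf, e4]⟩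
  · have := s8_simple
    refine (MonoidHom.ker_eq_bot_iff f).1 ((inferInstance : f.ker.Normal).eq_bot_or_eq_top.resolve_right fun h => ?_)
    have : f (tv8 (up1 (ff 0))) = 1 := h.ge (mem_top _)
    rw [hf, e1, ← map_one θ1, ← MD1.tv_zero] at this
    exact base.2.2.2.2 (MD1.tv_inj (i1 this))
  · rintro _ ⟨x, rfl⟩
    exact (tv8_gen ((θ1.range ⊔ θ2.range).comap f) fun v => by rw [mem_comap, hf]; exact em v).ge (mem_top x)
  · rintro _ ⟨x, rfl⟩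
    exact (tv_gen (f.range.comap θ1) fun w => ⟨_, by rw [hf, e1]⟩).ge (mem_top x)
  · rintro _ ⟨x, rfl⟩
    exact (tv_gen (f.range.comap θ2) fun w => ⟨_, by rw [hf, e4]⟩).ge (mem_top x)

end H29.S6
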