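import Cfsg.Agent.Lib.S6.QA2
import Cfsg.Agent.Lib.S6.CS
import Cfsg.Agent.Lib.F42.CM

/-! S6, package LP (see blueprint/S6/README.md). -/

set_option autoImplicit false
set_option linter.unusedSectionVars false

namespace H29.S6

open Subgroup Cfsg H29.F42
open H87.U6 (F3 V lin)
open H75.L7 (Nm T Ch2 Rk3)

variable {G : Type*} [Group G] [Finite G] {j ρ : V → G} {τ : G} {θ θ' : Sp →* G} {D : Subgroup G}

namespace LP

open H87.U6 (cm_cj cm_mul cm_inv cm_pow cm_conj mC)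

def Nm' : V → V := lin e3 (-e4) e1 e2

theorem sim_Nm : Sim Nm' := sim_lin ⟨1, by decide, by decide +kernel⟩

theorem mp {f : Sp →* G} {x y : Sp} (e : x * y = y * x) : f x * f y = f y * f x := by
  rw [← map_mul, e, map_mul]

variable {θ1 : Sp →* G} (f : F1 j τ ρ) (s1 : Std (fun v => j (N1 v)) (fun v => ρ (N1 v)) θ1)
include f s1

theorem y1 (x : Sp) : θ1 x * j (1, 1, 0, 0) = j (1, 1, 0, 0) * θ1 x :=
  (by decide : N1 e1 = (1, 1, 0, 0)) ▸ s1.cy x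
theorem w10 : θ1 (ww 0) = j (1, -1, 0, 0) := s1.w0.trans (congrArg j (by decide))
theorem w11 : θ1 (ww 1) = j (0, 0, 1, 1) := s1.w1.trans (congrArg j (by decide))
theorem w12 : θ1 (ww 2) = j (0, 0, 1, -1) := s1.w2.trans (congrArg j (by decide))
theorem t11 : θ1 (TT 1) = ρ (0, 0, 1, 1) := s1.t1.trans (congrArg ρ (by decide))
theorem t12 : θ1 (TT 2) = ρ (0, 0, 1, -1) := s1.t2.trans (congrArg ρ (by decide))
theorem p1 : θ1 P12 = ρ e4 := s1.p12.trans ((congrArg ρ (by decide)).trans (f.ρneg (by decide)))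

theorem c0 {x : Sp} (e : x * ww 0 = ww 0 * x) (v : V)
    (hv : ∃ k l : F3, v = k • ((1, 1, 0, 0) : V) + l • ((1, -1, 0, 0) : V)) :
    θ1 x * j v = j v * θ1 x := f.cm2 v (y1 f s1 x) (w10 f s1 ▸ mp e) hv

theorem lp0 {a : V} (ha : a = e1 ∨ a = e2) : ∀ x ∈ S4, ρ a * θ1 x = θ1 x * ρ a := by
  obtain ⟨-, -, -, -, -, -, -, -, -, -, -, -, -, -, -, -, -, -, r19, r20, -⟩ := sp_rel
  have qa : q a ≠ 0 := by rcases ha with rfl | rfl <;> decide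
  have cc : ∀ v : V, (∃ k l : F3, rf a v = k • ((1, 1, 0, 0) : V) + l • ((1, -1, 0, 0) : V)) →
      ρ a * θ1 gC * (ρ a)⁻¹ * j v = j v * (ρ a * θ1 gC * (ρ a)⁻¹) := fun v hv => by
    have := cm_conj (c0 f s1 r20 _ hv) (ρ a)
    rwa [f.ρj a qa, rf_rf] at this
  obtain ⟨c, hc⟩ := f.mem' sim_N1 s1 (g := ρ a * θ1 gC * (ρ a)⁻¹) (n := 2) (by decide)
    (by rw [conj_pow, ← map_pow, pow_two, r19, map_one, mul_one, mul_inv_cancel])
    (cc (1, 1, 0, 0) (by rcases ha with rfl | rfl <;> decide)) (by decide)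
  refine lemP s1.inj ?_ ?_ ?_ ?_ ?_ hc (s1.inj ?_)
  · rw [w11 f s1]; exact f.ρc qa (by rcases ha with rfl | rfl <;> decide)
  · rw [w12 f s1]; exact f.ρc qa (by rcases ha with rfl | rfl <;> decide)
  · rw [t11 f s1]; exact f.ρcρ qa (by decide) (by rcases ha with rfl | rfl <;> decide)
  · rw [t12 f s1]; exact f.ρcρ qa (by decide) (by rcases ha with rfl | rfl <;> decide)
  · rw [p1 f s1]; exact f.ρcρ qa (by decide) (by rcases ha with rfl | rfl <;> decide)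
  · rw [map_mul, map_mul, ← hc, w10 f s1]
    exact cc _ (by rcases ha with rfl | rfl <;> decide)

theorem sigO : Sig (fun v => j (CM.Na v)) (fun v => ρ (CM.Na v)) (O0.map θ1) := by
  have n1 : Nm (j (1, 1, 0, 0)) (O0.map θ1) := H75.L7.Nm.of_comm (by
    rintro _ ⟨x, -, rfl⟩
    exact (y1 f s1 x).symm)
  have n2 : Nm (j (1, -1, 0, 0)) (O0.map θ1) :=
    w10 f s1 ▸ H75.L7.Nm.map θ1 (O0_norm _ CM.fb.2.2.2.2.2.2.1.symm)
  have n3 : Nm (j (0, 0, -1, 0)) (O0.map θ1) := by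
    have := H75.L7.Nm.map θ1 (X := O0) (O0_norm _ CM.fw.2.2.2.1)
    rwa [map_mul, w11 f s1, w12 f s1, ← f.add, (by decide : ((0, 0, 1, 1) : V) + (0, 0, 1, -1) =
      (0, 0, -1, 0))] at this
  refine ⟨?_, ?_, ?_, ?_, ?_⟩
  · obtain ⟨n, e⟩ := (O0_two.map θ1).exists_card_eq
    rw [e]
    exact Nat.Coprime.pow_left n (by decide)
  · rintro _ ⟨g, hg, rfl⟩
    rw [(by decide : CM.Na e1 = e4), ← p1 f s1]
    exact mp (O0_cP g hg)
  · rw [(by decide : CM.Na e2 = -(0, 0, -1, 0)), f.jneg]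
    exact n3.inv
  · rw [(by decide : CM.Na e3 = -((1, 1, 0, 0) + (1, -1, 0, 0))), f.jneg, f.add]
    exact (n1.mul n2).inv
  · rw [(by decide : CM.Na e4 = -(1, 1, 0, 0) + (1, -1, 0, 0)), f.add, f.jneg]
    exact n1.inv.mul n2

end LP

theorem lp1 (h : Fm j τ ρ) {θ1 : Sp →* G} (s1 : Std (fun v => j (N1 v)) (fun v => ρ (N1 v)) θ1) :
    ∀ x ∈ S4, ρ e1 * θ1 x = θ1 x * ρ e1 ∧ ρ e2 * θ1 x = θ1 x * ρ e2 := fun x hx =>
  ⟨LP.lp0 h.toF1 s1 (Or.inl rfl) x hx, LP.lp0 h.toF1 s1 (Or.inr rfl) x hx⟩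

open LP H87.U6 in
theorem c34 (h : Fm j τ ρ) {θ1 θ3 : Sp →* G} (s1 : Std (fun v => j (N1 v)) (fun v => ρ (N1 v)) θ1)
    (s3 : Std (fun v => j (CM.N3 v)) (fun v => ρ (CM.N3 v)) θ3) :
    ∀ x ∈ S4, ∀ y ∈ S4, θ1 x * θ3 y = θ3 y * θ1 x := by
  have f := h.toF1
  have s3' : Std (fun v => j (Nm' (N1 v))) (fun v => ρ (Nm' (N1 v))) θ3 := by
    simpa only [(by decide +kernel : ∀ v, Nm' (N1 v) = CM.N3 v)] using s3
  have p3 : ∀ y ∈ S4, θ3 y * ρ e4 = ρ e4 * θ3 y := fun y hy => by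
    have := (lp1 (h.comp sim_Nm (by decide +kernel)) s3' y hy).2
    rw [(by decide : Nm' e2 = -e4), f.ρneg (by decide)] at this
    exact this.symm
  have y3 : ∀ y, θ3 y * j (0, 0, 1, -1) = j (0, 0, 1, -1) * θ3 y :=
    (by decide : CM.N3 e1 = (0, 0, 1, -1)) ▸ s3.cy
  have r3 : ∀ y, θ3 y * ρ (0, 0, 1, -1) = ρ (0, 0, 1, -1) * θ3 y :=
    (by decide : CM.N3 e1 = (0, 0, 1, -1)) ▸ s3.cρ
  have w30 : θ3 (ww 0) = j (0, 0, 1, 1) := s3.w0.trans (congrArg j (by decide))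
  have t30 : θ3 (TT 0) = ρ (0, 0, 1, 1) := s3.t0.trans (congrArg ρ (by decide))
  have ha := h.comp CM.sim_Na (by decide +kernel)
  have cu : ∀ i', i' ≠ 0 → θ1 u0 * j (CM.Na (E3 i')) = j (CM.Na (E3 i')) * θ1 u0 := fun i' e =>
    c0 f s1 o1.2.2.1 _ (by revert i'; decide)
  have hu := qa_u ha (sigO f s1) 0 ⟨u0, o1.1, rfl⟩ cu
  intro x hx y hy
  refine (mC.1 (S4_geni ((centralizer {θ1 x}).comap θ3) (fun y hy y2 => mC.2 (mC.1
    (S4_gen ((centralizer {θ3 y}).comap θ1) (mC.2 ?_) (mC.2 ?_) (mC.2 ?_) (mC.2 ?_) (mC.2 ?_)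
      (Or.inr (mC.2 ?_)) hx)).symm) hy)).symm
  · rw [w11 f s1, ← w30]; exact mp (S4_c hy).1.symm
  · rw [w12 f s1]; exact (y3 y).symm
  · rw [t11 f s1, ← t30]; exact mp (S4_c hy).2.symm
  · rw [t12 f s1]; exact (r3 y).symm
  · rw [p1 f s1]; exact (p3 y hy).symm
  · refine ((qa_tri ha).inv 0 hu cu (by rw [← map_mul, y2, map_one]) ?_ ?_).symm
    · exact (by decide : e4 = CM.Na e1) ▸ p3 y hy
    · exact f.cm2 _ (y3 y) (w30 ▸ mp (S4_c hy).1) (by decide)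

open LP H87.U6 in
theorem f4c (h : Fm j τ ρ) : ∃ θ0 θ1 : Sp →* G, F4c j ρ θ0 θ1 := by
  have f := h.toF1
  obtain ⟨θ1, s1⟩ := h.all N1 sim_N1 (by decide)
  obtain ⟨k1, k2, k3, k4, -, -, k7, k8⟩ := CM.fa
  have hA : ρ (E3 1) * ρ (0, 0, 1, -1) * ρ (E3 1) * j e3 * j e4 = θ1 (TT 1 * ww 1) := by
    rw [map_mul, t11 f s1, w11 f s1, mul_assoc, ← f.add]
    nth_rewrite 2 [← f.ρinv (by decide : q (E3 1) ≠ 0)]
    rw [f.ρρ (by decide) (by decide), ← f.ρneg (by decide)]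
    exact congrArg₂ _ (congrArg ρ (by decide)) (congrArg j (by decide))
  have hB : j e3 * (j e4)⁻¹ * ρ (0, 0, 1, -1) = θ1 b3 := by
    rw [k7, map_mul, w12 f s1, t12 f s1, ← f.jneg, ← f.add]
    exact congrArg₂ _ (congrArg j (by decide)) rfl
  obtain ⟨θ0, c, t, p, p', g⟩ := cs f.jm h.rk (qa_tri h) (γ := θ1 a2)
    (fun i => f.ρc (by revert i; decide) (by revert i; decide)) (f.ρc (by decide) (by decide))
    (f.ρc (by decide) (by decide)) (by rw [f.ρj _ (by decide), rf_self _ (by decide), f.jneg])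
    (c0 f s1 k1 _ (by decide)) (lp1 h s1 a2 S4_mem.2.2.2.2.2.2.2.1).1.symm
    (by rw [← map_mul, k8, map_one]) (c0 f s1 k1 _ (by decide)) (by rw [hA]; exact mp k2)
    (by rw [hB]; exact mp k3)
    (by rw [show ρ (E3 2) = θ1 P12 from (p1 f s1).symm, ← map_mul, ← map_pow, k4, map_one])
    (fun g c t => qa_ker h c t) (fun g hg a ha => mem_centralizer_iff.1 ha.2 g hg)
    (Or.inr fun g c c' e => qa_no5 h c c' e)
  exact ⟨θ0, θ1, c, t, p, p', s1, g⟩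

end H29.S6
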