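import Cfsg.Agent.Lib.S6.Defs

/-! S6, package MDc (see blueprint/S6/README.md). -/

set_option autoImplicit false
set_option linter.unusedSectionVars false

namespace H29.S6

open Subgroup Cfsg H29.F42
open H87.U6 (F3 V lin)
open H75.L7 (Nm T Ch2 Rk3)

namespace MDc

open H29.F42.MD1

/-- equal on the basis, up to a left factor -/
def alt (l : List ℕ) (φ κ : ℕ → ℕ) : Prop :=
  (∀ x ∈ [1, 2, 4, 8, 16, 32], φ x = κ x) ∨ ∀ x ∈ [1, 2, 4, 8, 16, 32], φ x = wN l (κ x)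

instance altDec (l : List ℕ) (φ κ : ℕ → ℕ) : Decidable (alt l φ κ) := by unfold alt; infer_instance

theorem alt.ex {l : List ℕ} {φ κ : ℕ → ℕ} (h : alt l φ κ) (hl : ∀ w ∈ l, w < 64) {g k : Sp}
    (a : Rep (fun _ => True) g φ) (b : Rep (fun _ => True) k κ) : g = k ∨ g = wd l * k :=
  h.imp (a.ext b) (a.ext ((rep_wd hl).mul b))

theorem u0_wd : u0 = wd [6, 48] := by rw [u0, tv_wd ff12, tv_wd gg12, ← wd_append]; rfl

theorem ch1 : AllO fun φ => cm φ (wN [1, 8]) → alt [6, 48, 54] φ id ∨ alt [6, 48, 54] φ (wN [6, 48]) ∨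
    alt [6, 48, 54] φ (wN [2, 16, 4, 32, 6, 48, 32, 4, 16, 2]) ∨
    alt [6, 48, 54] φ (wN [32, 4, 16, 2, 6, 48, 2, 16, 4, 32]) := by decide +kernel

theorem ch2 : ∀ a ∈ [[1, 8, 2, 16, 4, 32], [1, 8, 32, 4, 16, 2]], AllO fun φ => cm φ (wN a) →
    alt [6, 48, 54] φ id ∨ (∀ x ∈ [1, 2, 4, 8, 16, 32], φ (φ x) = wN [6, 48, 54] x) ∧
      ¬ cm φ (fun x => wN [1, 8] (φ (wN [8, 1] x))) ∧ AllO fun ψ => cm ψ (wN a) →
        alt [6, 48, 54] ψ id ∨ alt [6, 48, 54] ψ φ ∨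
        alt [6, 48, 54] ψ (fun x => wN [1, 8] (φ (wN [8, 1] x))) ∨
        alt [6, 48, 54] ψ (fun x => wN [8, 1] (φ (wN [1, 8] x))) := by decide +kernel

theorem ch3 : AllO fun φ => cm φ (wN [2, 16, 4, 32]) → alt [6, 48, 54] φ id := by decide +kernel

theorem ch4 : ∀ a ∈ [[2, 16, 4, 32], [2, 16, 32, 4]], ∀ d < 64, omN d 9 = true → cm (eN d) (wN a) →
    alt [9] (eN d) id := by decide +kernel

theorem toE0 {g : Sp} (hg : g ∈ CM.E2) : P01 * P12 * g * (P01 * P12)⁻¹ ∈ E0 := by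
  have := CM.EE_cj hg (wd [3, 24, 27, 6, 48, 54])
  rw [(ac_wd (by decide) (by decide)).2, show wN [3, 24, 27, 6, 48, 54] 36 = 9 by decide +kernel,
    ← CM.E0_df] at this
  rwa [P01_wd, P12_wd, ← wd_append]

theorem ofE0 {g : Sp} (hg : P01 * P12 * g * (P01 * P12)⁻¹ ∈ E0) : g ∈ CM.E2 := by
  rw [CM.E0_df, P01_wd, P12_wd, ← wd_append] at hg
  have := CM.EE_cj hg (wd ([3, 24, 27] ++ [6, 48, 54]))⁻¹
  rw [show ∀ x : Sp, x⁻¹ * (x * g * x⁻¹) * x⁻¹⁻¹ = g from fun x => by group, wd_inv,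
    (ac_wd (by decide) (by decide)).2] at this
  have e : wN (List.reverse ([3, 24, 27] ++ [6, 48, 54])) 9 = 36 := by decide +kernel
  rw [e] at this
  exact this

theorem eqns_alt : True := by
  have := @alt.eq_1
  trivial

end MDc

open H29.F42.MD1 MDc

local macro "wds" : tactic => `(tactic| simp only [u0_wd, ww0_wd, ww1_wd, ww2_wd, TT0_wd, TT1_wd, TT2_wd,
  P01_wd, P12_wd, CM.one_wd, wd_inv, ← wd_append, pow_succ, pow_zero])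

local macro "wde" : tactic => `(tactic| (wds; exact wd_eq (by decide +kernel)))

variable {G : Type*} [Group G] [Finite G] {j ρ : V → G} {τ : G} {θ θ' : Sp →* G} {D : Subgroup G}

theorem o1 : u0 ∈ O0 ∧ P12 ∈ O0 ∧ u0 * ww 0 = ww 0 * u0 ∧ u0 ≠ 1 ∧ u0 * u0 = 1 ∧
    u0 * (ww 1 * ww 2 * u0 * (ww 1 * ww 2)⁻¹) * ((ww 1 * ww 2)⁻¹ * u0 * (ww 1 * ww 2)) = 1 ∧
    ww 1 * ww 2 * u0 * (ww 1 * ww 2)⁻¹ ≠ u0 ∧
    ∀ g ∈ O0, g * ww 0 = ww 0 * g → ∃ k, (g = k ∨ g = P12 * k) ∧ (k = 1 ∨ k = u0 ∨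
      k = ww 1 * ww 2 * u0 * (ww 1 * ww 2)⁻¹ ∨ k = (ww 1 * ww 2)⁻¹ * u0 * (ww 1 * ww 2)) := by
  refine ⟨by wds; exact CM.memO (by decide +kernel), by wds; exact CM.memO (by decide +kernel), by wde,
    by wds; exact wd_ne (by decide +kernel), by wde, by wde, by wds; exact wd_ne (by decide +kernel),
    fun g hg e => ?_⟩
  obtain ⟨φ, R, h⟩ := ch1.ex hg
  rw [ww0_wd] at e
  rw [P12_wd]
  rcases h ((R.cm_iff (rep_wd (by decide))).1 e) with h | h | h | h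
  · exact ⟨_, h.ex (by decide) R rep_one, .inl rfl⟩
  · exact ⟨_, h.ex (by decide) R (rep_wd (by decide)), .inr (.inl u0_wd.symm)⟩
  · exact ⟨_, h.ex (by decide) R (rep_wd (by decide)), .inr (.inr (.inl (by wde)))⟩
  · exact ⟨_, h.ex (by decide) R (rep_wd (by decide)), .inr (.inr (.inr (by wde)))⟩

theorem o2 {w : Sp} (hw : w = ww 1 * ww 2 ∨ w = (ww 1 * ww 2)⁻¹) {g : Sp} (hg : g ∈ O0)
    (c : g * (ww 0 * w) = ww 0 * w * g) (g1 : g ≠ 1) (gP : g ≠ P12) :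
    g * g = P12 ∧ g * (ww 0 * g * (ww 0)⁻¹) ≠ ww 0 * g * (ww 0)⁻¹ * g ∧
      ∀ g' ∈ O0, g' * (ww 0 * w) = ww 0 * w * g' → ∃ k, (g' = k ∨ g' = P12 * k) ∧
        (k = 1 ∨ k = g ∨ k = ww 0 * g * (ww 0)⁻¹ ∨ k = (ww 0)⁻¹ * g * ww 0) := by
  obtain ⟨a, ha, e⟩ : ∃ a ∈ [[1, 8, 2, 16, 4, 32], [1, 8, 32, 4, 16, 2]], ww 0 * w = wd a := by
    rcases hw with rfl | rfl
    · exact ⟨_, .head _, by wde⟩
    · exact ⟨_, .tail _ (.head _), by wde⟩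
  have lt : ∀ w ∈ a, w < 64 := by clear e; revert a; decide
  rw [e] at c ⊢
  obtain ⟨φ, R, h⟩ := (ch2 a ha).ex hg
  rw [P12_wd] at gP ⊢
  rw [ww0_wd, wd_inv, mul_assoc (wd _) g, mul_assoc (wd _) g]
  have R1 := (rep_wd (l := [1, 8]) (by decide)).mul (R.mul (rep_wd (l := [8, 1]) (by decide)))
  have R2 := (rep_wd (l := [8, 1]) (by decide)).mul (R.mul (rep_wd (l := [1, 8]) (by decide)))
  rcases h ((R.cm_iff (rep_wd lt)).1 c) with h | ⟨h1, h2, h3⟩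
  · exact ((h.ex (by decide) R rep_one).elim g1 fun k => gP (k.trans (mul_one _))).elim
  refine ⟨(R.mul R).ext (rep_wd (by decide)) h1, fun k => h2 ((R.cm_iff R1).1 k), fun g' hg' c' => ?_⟩
  obtain ⟨ψ, R', h⟩ := h3.ex hg'
  rcases h ((R'.cm_iff (rep_wd lt)).1 c') with h | h | h | h
  · exact ⟨_, h.ex (by decide) R' rep_one, .inl rfl⟩
  · exact ⟨_, h.ex (by decide) R' R, .inr (.inl rfl)⟩
  · exact ⟨_, h.ex (by decide) R' R1, .inr (.inr (.inl rfl))⟩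
  · exact ⟨_, h.ex (by decide) R' R2, .inr (.inr (.inr rfl))⟩

theorem o3 {g : Sp} (hg : g ∈ O0) (c : g * (ww 1 * ww 2) = ww 1 * ww 2 * g) : g = 1 ∨ g = P12 := by
  obtain ⟨φ, R, h⟩ := ch3.ex hg
  rw [ww1_wd, ww2_wd, ← wd_append] at c
  simpa only [mul_one, ← P12_wd] using
    (h ((R.cm_iff (rep_wd (by decide))).1 c)).ex (by decide) R rep_one

theorem e3f {w : Sp} (hw : w = ww 1 * ww 2 ∨ w = ww 1 * (ww 2)⁻¹) {g : Sp} (hg : g ∈ E0)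
    (c : g * w = w * g) : g = 1 ∨ g = TT 0 := by
  obtain ⟨a, ha, rfl⟩ : ∃ a ∈ [[2, 16, 4, 32], [2, 16, 32, 4]], w = wd a := by
    rcases hw with rfl | rfl
    · exact ⟨_, .head _, by wde⟩
    · exact ⟨_, .tail _ (.head _), by wde⟩
  have lt : ∀ w ∈ a, w < 64 := by clear c hw; revert a; decide
  obtain ⟨d, hd, d9, R⟩ := E0_rep hg
  simpa only [mul_one, ← TT0_wd] using
    (ch4 a ha d hd d9 ((R.cm_iff (rep_wd lt)).1 c)).ex (by decide) R rep_one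

theorem E2_max (F : Subgroup Sp) (hF : (Nat.card F).Coprime 3) (c : ∀ g ∈ F, g * TT 2 = TT 2 * g)
    (n0 : Nm (ww 0) F) (n1 : Nm (ww 1) F) : F ≤ CM.E2 := fun g hg => by
  have e0 : TT 0 = MulAut.conj (P01 * P12) (TT 2) := by rw [MulAut.conj_apply]; wde
  have e1 : ww 1 = MulAut.conj (P01 * P12) (ww 0) := by rw [MulAut.conj_apply]; wde
  have e2 : ww 2 = MulAut.conj (P01 * P12) (ww 1) := by rw [MulAut.conj_apply]; wde
  refine ofE0 (E0_max (F.map (MulAut.conj (P01 * P12)).toMonoidHom) ?_ ?_ ?_ ?_ (mem_map_of_mem _ hg))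
  · rwa [card_map_of_injective (MulAut.conj _).injective]
  · rintro _ ⟨k, hk, rfl⟩
    rw [e0]
    exact (map_mul _ k _).symm.trans ((congrArg _ (c k hk)).trans (map_mul _ _ k))
  · rintro _ ⟨k, hk, rfl⟩
    exact ⟨_, n0 k hk, by rw [e1, map_mul, map_mul, map_inv]; rfl⟩
  · rintro _ ⟨k, hk, rfl⟩
    exact ⟨_, n1 k hk, by rw [e2, map_mul, map_mul, map_inv]; rfl⟩

theorem E2_comm : ∀ g ∈ CM.E2, ∀ k ∈ CM.E2, g * k = k * g := fun g hg k hk => by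
  have := E0_comm _ (toE0 hg) _ (toE0 hk)
  rwa [conj_mul, conj_mul, mul_left_inj, mul_right_inj] at this

/-- the words of package OM2 -/
theorem omw {z i g : Sp} (hz : z = ww 0 * ww 1 * ww 2) (hi : i = ww 0 * (ww 1)⁻¹) (hg : g = P01 * P12) :
    g ^ 3 = 1 ∧ g * z = z * g ∧ g * i * g⁻¹ = i * z⁻¹ ∧ g * ww 2 * g⁻¹ = ww 0 ∧
    g * (TT 0 * TT 1 * TT 2) = TT 0 * TT 1 * TT 2 * g ∧ (∀ m n : ℕ, g ≠ i ^ m * z ^ n) ∧
    ∀ x, x = g ∨ x = i * g ∨ x = i * g⁻¹ → ∃ u : Sp, u * z = z * u ∧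
      (∃ m : ℕ, u * i * u⁻¹ = z ^ m * x ∨ u * i * u⁻¹ = z ^ m * x⁻¹) ∧
      ∃ l m n : ℕ, u⁻¹ * i * u = z ^ l * i ^ m * g ^ n := by
  have ci : Commute i (ww 2) := by rw [hi]; show _ * _ = _ * _; wde
  have cz : Commute z (ww 2) := by rw [hz]; show _ * _ = _ * _; wde
  have ng : ¬ Commute g (ww 2) := by
    rw [hg]; show _ * _ ≠ _ * _; wds; exact wd_ne (by decide +kernel)
  have ne : ∀ m n : ℕ, g ≠ i ^ m * z ^ n := fun m n e =>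
    ng (e ▸ (ci.pow_left m).mul_left (cz.pow_left n))
  subst hz hi hg
  refine ⟨by wde, by wde, by wde, by wde, by wde, ne, ?_⟩
  rintro x (rfl | rfl | rfl)
  · exact ⟨wd [49, 15, 9, 1], by wde, ⟨1, .inl (by wde)⟩, 1, 0, 2, by wde⟩
  · exact ⟨wd [62, 31, 15, 2], by wde, ⟨1, .inr (by wde)⟩, 0, 1, 1, by wde⟩
  · exact ⟨wd [57, 28, 14, 2], by wde, ⟨0, .inr (by wde)⟩, 1, 1, 2, by wde⟩

end H29.S6
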