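import Cfsg.Agent.Lib.S6.Bas
import Cfsg.Agent.Lib.S6.GEN
import Cfsg.Agent.Lib.S6.MDc

/-! S6, package OM1 (see blueprint/S6/README.md). -/

set_option autoImplicit false
set_option linter.unusedSectionVars false

namespace H29.S6

open Subgroup Cfsg H29.F42
open H87.U6 (F3 V lin cm_inv cm_mul cm_pow cm_conj cm_of_mod mC)
open H75.L7 (Nm T Ch2 Rk3 T_two T_zp_comm nm_zp two_zp self_le_T)

variable {G : Type*} [Group G] [Finite G] {j ρ : V → G} {τ : G} {θ θ' : Sp →* G} {D : Subgroup G}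

namespace OM1

theorem cop {K : Subgroup G} (hK : IsPGroup 2 K) : (Nat.card K).Coprime 3 := by
  obtain ⟨n, e⟩ := IsPGroup.iff_card.1 hK
  rw [e]; exact Nat.Coprime.pow_left n (by norm_num)

theorem PP : P12 * P12 = 1 := sp_rel.2.2.2.2.2.2.2.1
theorem P1 : P12 ≠ 1 := sp_rel.2.2.2.2.2.2.2.2.2.2.2.2.2.2.2.2.2.1
theorem wc (i k : Fin 3) : ww i * ww k = ww k * ww i := sp_rel.2.1 i k
theorem w3 : (ww 1 * ww 2) ^ 3 = 1 := by
  rw [Commute.mul_pow (wc 1 2), sp_rel.1, sp_rel.1, mul_one]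

theorem wP : ww 1 * ww 2 * P12 = P12 * (ww 1 * ww 2) := by
  have h : P12 * ww 1 * P12⁻¹ = ww 2 := sp_rel.2.2.2.2.2.2.2.2.2.2.2.2.1
  have i : P12⁻¹ = P12 := inv_eq_of_mul_eq_one_right PP
  have h' : P12 * ww 2 * P12⁻¹ = ww 1 := by
    rw [← h, i, ← mul_assoc, ← mul_assoc, PP, one_mul, mul_assoc, PP, mul_one]
  calc _ = (P12 * ww 2 * P12⁻¹) * (P12 * ww 1 * P12⁻¹) * P12 := by rw [h, h']
    _ = _ := by rw [wc 1 2]; group

/-- the part of an invariant 2-group in a chart -/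
theorem part (c : Ch j θ D) {K : Subgroup G} (hK : IsPGroup 2 K) (cs : ∀ k ∈ K, k * θ P12 = θ P12 * k)
    (n1 : Nm (θ (ww 0)) K) (n2 : Nm (θ (ww 1 * ww 2)) K) {k : G} (hk : k ∈ K) (e : k * j e1 = j e1 * k) :
    ∃ x ∈ O0, k = θ x := by
  obtain ⟨n, hn⟩ := H75.L7.two_pow hK hk
  obtain ⟨x, rfl⟩ := c.mem2 e hn
  refine ⟨x, O0_max (K.comap θ) (cop (hK.comap_of_injective θ c.θi)) (fun g hg => c.θi ?_)
    (n1.comap θ) (n2.comap θ) hk, rfl⟩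
  rw [map_mul, map_mul]; exact cs _ hg

theorem inj_cm (c : Ch j θ D) {x y : Sp} (e : θ x * θ y = θ y * θ x) : x * y = y * x :=
  c.θi (by rw [map_mul, map_mul, e])

/-- the standing data: the chart at `(0,1,1,0)` and the involution -/
structure St (j : V → G) (θ : Sp →* G) (D : Subgroup G) (ϑ : Sp →* G) (s : G) : Prop where
  h : Hy j θ D
  c : Ch (fun v => j (O1 v)) ϑ D
  e : ϑ P12 = s
  cL : ∀ x, s * θ x = θ x * s

theorem st (h : Hy j θ D) {a : G} (ha : Ac j a O1) : St j θ D (θc a θ) (θc a θ P12) :=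
  ⟨h, h.toCh.cj ha, rfl, h.toCh.cL (by rw [← map_mul, PP, map_one]) (om0 h.toCh ha)⟩

variable {ϑ : Sp →* G} {s k : G}

theorem St.jm (S : St j θ D ϑ s) : Jm j := S.h.toCh.toCh0.jm
theorem St.s2 (S : St j θ D ϑ s) : s * s = 1 := by rw [← S.e, ← map_mul, PP, map_one]
theorem St.s1 (S : St j θ D ϑ s) : s ≠ 1 := fun e => P1 (S.c.θi (by rw [S.e, e, map_one]))
theorem St.sQ (S : St j θ D ϑ s) : s ∈ T (zpowers s) := self_le_T (two_zp S.s2) (mem_zpowers s)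
theorem St.nQ (S : St j θ D ϑ s) (x : Sp) : Nm (θ x) (T (zpowers s)) := (nm_zp (S.cL x).symm).T
theorem St.jQ (S : St j θ D ϑ s) (y : X3) : Nm (j (0, y)) (T (zpowers s)) :=
  S.h.toCh.toCh0.wv y ▸ S.nQ _
theorem St.js (S : St j θ D ϑ s) (y : X3) : j (0, y) * s = s * j (0, y) :=
  S.h.toCh.toCh0.wv y ▸ (S.cL _).symm
theorem St.cQ (S : St j θ D ϑ s) (hk : k ∈ T (zpowers s)) : k * s = s * k := T_zp_comm S.s2 hk
theorem St.w0 (S : St j θ D ϑ s) : ϑ (ww 0) = j e4 := S.c.w0.trans (congrArg j (by decide))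
theorem St.w12 (S : St j θ D ϑ s) : ϑ (ww 1 * ww 2) = j (0, -1, 1, 0) := by
  rw [map_mul, S.c.w1, S.c.w2, ← S.jm.add]; exact congrArg j (by decide)
theorem St.cy (S : St j θ D ϑ s) (x : Sp) : ϑ x * j (0, 1, 1, 0) = j (0, 1, 1, 0) * ϑ x := by
  have := S.c.cy x
  rwa [show O1 e1 = (0, 1, 1, 0) by decide] at this

theorem St.part (S : St j θ D ϑ s) (hk : k ∈ T (zpowers s)) (e : k * j (0, 1, 1, 0) = j (0, 1, 1, 0) * k) :
    ∃ x ∈ O0, k = ϑ x :=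
  OM1.part S.c (T_two _) (fun k hk => S.e ▸ S.cQ hk) (S.w0 ▸ S.jQ _) (S.w12 ▸ S.jQ _) hk
    (by rwa [show O1 e1 = (0, 1, 1, 0) by decide])

theorem St.pa (S : St j θ D ϑ s) (hu : ϑ u0 ∉ T (zpowers s)) {x : Sp} (hx : x ∈ O0) (c : x * ww 0 = ww 0 * x)
    (hk : ϑ x ∈ T (zpowers s)) : x = 1 ∨ x = P12 := by
  obtain ⟨k, e, hk'⟩ := o1.2.2.2.2.2.2.2 x hx c
  have m : ϑ k ∈ T (zpowers s) := by
    rcases e with e | e
    · exact e ▸ hk
    · rw [e, map_mul, S.e] at hk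
      exact (Subgroup.mul_mem_cancel_left _ S.sQ).1 hk
  have n : Nm (ϑ (ww 1 * ww 2)) (T (zpowers s)) := S.w12 ▸ S.jQ _
  generalize ww 1 * ww 2 = w at hk' n
  rcases hk' with r | r | r | r <;> rw [r] at m
  · simpa [r] using e
  · exact absurd m hu
  · have := n.inv _ m
    rw [map_mul, map_mul, map_inv] at this
    exact absurd (by simpa [mul_assoc] using this) hu
  · have := n _ m
    rw [map_mul, map_mul, map_inv] at this
    exact absurd (by simpa [mul_assoc] using this) hu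

theorem St.p0 (S : St j θ D ϑ s) (hu : ϑ u0 ∉ T (zpowers s)) (hk : k ∈ T (zpowers s))
    (e : k * j (0, 1, 1, 0) = j (0, 1, 1, 0) * k)
    (e' : k * j e4 = j e4 * k ∨ k * j (0, -1, 1, 0) = j (0, -1, 1, 0) * k) : k = 1 ∨ k = s := by
  obtain ⟨x, hx, rfl⟩ := S.part hk e
  have : x = 1 ∨ x = P12 := by
    rcases e' with e' | e'
    · exact S.pa hu hx (inj_cm S.c (S.w0 ▸ e')) hk
    · exact o3 hx (inj_cm S.c (S.w12 ▸ e'))
  exact this.imp (fun h => by rw [h, map_one]) fun h => by rw [h, S.e]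

theorem lin_add (a b c d u v : V) : lin a b c d (u + v) = lin a b c d u + lin a b c d v := by
  simp only [lin, Prod.fst_add, Prod.snd_add, Prod.mk_add_mk, Prod.mk.injEq]
  refine ⟨?_, ?_, ?_, ?_⟩ <;> ring

/-- positions of the frame `e2, e3, e4` -/
def LL : List (V × V × V) := [(e3, e4, e2), (e2, e4, e3), (e2, -e4, e3), (e3, -e4, e2), (e2, -e3, e4)]

theorem LL_ok : ∀ t ∈ LL, (∀ v, lin e1 t.1 t.2.1 t.2.2 v = 0 → v = 0) ∧ lin e1 t.1 t.2.1 t.2.2 e1 = e1 ∧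
    Sh (lin e1 t.1 t.2.1 t.2.2 e2) ∧ Sh (lin e1 t.1 t.2.1 t.2.2 e3) ∧ Sh (lin e1 t.1 t.2.1 t.2.2 e4) ∧
    lin e1 t.1 t.2.1 t.2.2 (0, 1, 1, 0) = (0, (t.1 + t.2.1).2) ∧ lin e1 t.1 t.2.1 t.2.2 e4 = (0, t.2.2.2) ∧
    lin e1 t.1 t.2.1 t.2.2 (0, -1, 1, 0) = (0, (t.2.1 - t.1).2) := by decide +kernel

theorem back {n k : G} {N : V → V} (a : Ac j n N) {v : V} (e : k * j (N v) = j (N v) * k) :
    n⁻¹ * k * n⁻¹⁻¹ * j v = j v * (n⁻¹ * k * n⁻¹⁻¹) := by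
  have := cm_conj e n⁻¹
  rwa [← a v, show n⁻¹ * (n * j v * n⁻¹) * n⁻¹⁻¹ = j v by group] at this

theorem St.p1 (S : St j θ D ϑ s) (hu : ϑ u0 ∉ T (zpowers s)) {t : V × V × V} (ht : t ∈ LL)
    (hk : k ∈ T (zpowers s)) (e : k * j (0, (t.1 + t.2.1).2) = j (0, (t.1 + t.2.1).2) * k)
    (e' : k * j (0, t.2.2.2) = j (0, t.2.2.2) * k ∨ k * j (0, (t.2.1 - t.1).2) = j (0, (t.2.1 - t.1).2) * k) :
    k = 1 ∨ k = s := by
  obtain ⟨h1, h2, h3, h4, h5, h6, h7, h8⟩ := LL_ok t ht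
  obtain ⟨x, a⟩ := S.h.toCh.toCh0.acW ⟨⟨lin_add _ _ _ _, h1⟩, h2, h3, h4, h5⟩
  rw [← h6] at e
  rw [← h7, ← h8] at e'
  rcases S.p0 hu ((S.nQ x).inv k hk) (back a e) (e'.imp (back a) (back a)) with r | r
  · exact Or.inl (conj_eq_one_iff.1 r)
  · right
    calc k = θ x * ((θ x)⁻¹ * k * (θ x)⁻¹⁻¹) * (θ x)⁻¹ := by group
      _ = s := by rw [r, ← S.cL, mul_inv_cancel_right]

theorem cases : ∀ φ : X3, φ ≠ 0 → dot φ (1, 1, 0) = 0 ∨
    (∃ t ∈ LL, dot φ (t.1 + t.2.1).2 = 0 ∧ (dot φ t.2.2.2 = 0 ∨ dot φ (t.2.1 - t.1).2 = 0)) ∨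
    ∃ c : F3, c * c = 1 ∧ dot φ (1, 1, c) = 0 ∧ dot φ (1, -1, 0) = 0 := by decide +kernel

/-- `O0 ⊓ C(ww 0)` -/
def U0 : Subgroup Sp := O0 ⊓ centralizer {ww 0}

theorem U0_nm {x : Sp} (hx : x = ww 1 * ww 2 ∨ x = (ww 1 * ww 2)⁻¹) : Nm x U0 := by
  have n : Nm (ww 1 * ww 2) U0 := fun g hg => ⟨O0_norm _ wP g hg.1, mC.2 (by
    have := cm_conj (mC.1 hg.2) (ww 1 * ww 2)
    rwa [cm_mul (wc 1 0) (wc 2 0), mul_inv_cancel_right] at this)⟩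
  rcases hx with e | e <;> rw [e]
  exacts [n, n.inv]

/-- an element of `Q U` which centralises `ww1 ww2` modulo `⟨y⟩` lies in `Q` -/
theorem St.qu (S : St j θ D ϑ s) (hu : ϑ u0 ∉ T (zpowers s)) (hk : k ∈ T (zpowers s) ⊔ U0.map ϑ)
    (e : k * j e2 = j e2 * k ∨ k * j e3 = j e3 * k) : k ∈ T (zpowers s) := by
  have nU : U0.map ϑ ≤ normalizer (T (zpowers s) : Set G) := by
    rintro _ ⟨x, hx, rfl⟩
    exact (nm_zp (show Commute (ϑ x) s by rw [← S.e]; exact (Commute.map (O0_cP x hx.1) ϑ))).T.mem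
  rw [← SetLike.mem_coe, coe_mul_of_right_le_normalizer_left _ _ nU] at hk
  obtain ⟨r, hr, _, ⟨x, hx, rfl⟩, rfl⟩ := hk
  obtain ⟨w, hw, y, e1, e2⟩ : ∃ w, (w = ww 1 * ww 2 ∨ w = (ww 1 * ww 2)⁻¹) ∧ ∃ y : X3,
      j (0, y) = ϑ w * j (0, 1, 1, 0) ∧ r * ϑ x * j (0, y) = j (0, y) * (r * ϑ x) := by
    rcases e with e | e
    · exact ⟨_, Or.inr rfl, (-1, 0, 0), by
        rw [map_inv, S.w12, ← S.jm.jneg, ← S.jm.add]; exact congrArg j (by decide),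
        S.jm.cm2 _ e e ⟨-1, 0, by decide⟩⟩
    · exact ⟨_, Or.inl rfl, (0, -1, 0), by rw [S.w12, ← S.jm.add]; exact congrArg j (by decide),
        S.jm.cm2 _ e e ⟨-1, 0, by decide⟩⟩
  have m : w * x * w⁻¹ * x⁻¹ ∈ U0 := mul_mem (U0_nm hw x hx) (inv_mem hx)
  have e3 : ϑ (w * x * w⁻¹ * x⁻¹) = j (0, y) * r⁻¹ * (j (0, y))⁻¹ * r := by
    calc _ = ϑ w * (j (0, 1, 1, 0) * ϑ x) * (j (0, 1, 1, 0))⁻¹ * (ϑ w)⁻¹ * (ϑ x)⁻¹ := by
          rw [← S.cy]; simp only [map_mul, map_inv]; group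
      _ = j (0, y) * r⁻¹ * (j (0, y))⁻¹ * (j (0, y) * (r * ϑ x)) * (j (0, y))⁻¹ * (ϑ x)⁻¹ := by rw [e1]; group
      _ = _ := by rw [← e2]; group
  have w3' : w⁻¹ ^ 3 = 1 := by
    rcases hw with r | r <;> rw [r]
    · rw [inv_pow, w3, inv_one]
    · rw [inv_inv, w3]
  have wP' : w⁻¹ * P12 = P12 * w⁻¹ := by
    rcases hw with r | r <;> rw [r]
    · exact cm_inv wP
    · rw [inv_inv]; exact wP
  have c : x * w⁻¹ = w⁻¹ * x := by
    refine cm_of_mod w3' PP wP' ((S.pa hu m.1 (mC.1 m.2) ?_).imp (fun r => ?_) fun r => ?_)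
    · rw [e3]; exact mul_mem (S.jQ y _ (inv_mem hr)) hr
    · calc _ = w⁻¹ * (w * x * w⁻¹ * x⁻¹) := by group
        _ = _ := by rw [r, mul_one]
    · rw [← r]; group
  have c' : x * (ww 1 * ww 2) = ww 1 * ww 2 * x := by
    rcases hw with r | r <;> rw [r] at c
    · simpa using (cm_inv c.symm).symm
    · simpa using c
  refine mul_mem hr ?_
  rcases o3 hx.1 c' with r | r <;> rw [r]
  · rw [map_one]; exact one_mem _
  · rw [S.e]; exact S.sQ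

theorem St.p3 (S : St j θ D ϑ s) (hu : ϑ u0 ∉ T (zpowers s)) {c : F3} (hc : c * c = 1)
    (hk : k ∈ T (zpowers s)) (e : k * j (0, 1, 1, c) = j (0, 1, 1, c) * k)
    (e' : k * j (0, 1, -1, 0) = j (0, 1, -1, 0) * k) : ϑ u0 * k = k * ϑ u0 := by
  have cs : ∀ x ∈ U0, Commute (ϑ x) s := fun x hx => by rw [← S.e]; exact Commute.map (O0_cP x hx.1) ϑ
  have c4 : ∀ x ∈ U0, ϑ x * j e4 = j e4 * ϑ x := fun x hx => by
    rw [← S.w0, ← map_mul, mC.1 hx.2, map_mul]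
  have hU : IsPGroup 2 (U0.map ϑ) := (O0_two.to_le inf_le_left).map ϑ
  have hK : IsPGroup 2 ↥(T (zpowers s) ⊔ U0.map ϑ) := (T_two _).to_sup_of_normal_left' hU (by
    rintro _ ⟨x, hx, rfl⟩
    exact (nm_zp (cs x hx)).T.mem)
  have sup : ∀ {g : G} {A B : Subgroup G}, Nm g A → Nm g B → Nm g (A ⊔ B) := fun {g A B} a b =>
    H75.L7.nm_of_mem (normalizer_inf_normalizer_le_normalizer_sup A B ⟨a.mem, b.mem⟩)
  have nz : ∀ v, Nm (j v) (centralizer ({j (0, 1, 1, c)} : Set G)) := fun v g hg => mC.2 (by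
    have := cm_conj (mC.1 hg) (j v)
    rwa [S.jm.jc v, mul_inv_cancel_right] at this)
  have u0U : u0 ∈ U0 := ⟨o1.1, mC.2 o1.2.2.1⟩
  have red : ∀ d : F3, d * d = 1 → ∀ g ∈ (T (zpowers s) ⊔ U0.map ϑ) ⊓ centralizer {j (0, 1, 1, c)},
      g * j (0, 1, -1, d) = j (0, 1, -1, d) * g → g = 1 ∨ g = s := fun d hd g hg f => by
    have f' := mC.1 hg.2
    obtain ⟨rfl | rfl, rfl | rfl⟩ : (c = 1 ∨ c = -1) ∧ (d = 1 ∨ d = -1) := by
      clear * - hc hd; revert c d; decide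
    · exact S.p1 hu (t := (e2, e4, e3)) (by decide)
        (S.qu hu hg.1 (Or.inr (S.jm.cm2 _ f f' (by decide)))) (S.jm.cm2 _ f f' (by decide))
        (Or.inl (S.jm.cm2 _ f f' (by decide)))
    · exact S.p1 hu (t := (e3, e4, e2)) (by decide)
        (S.qu hu hg.1 (Or.inl (S.jm.cm2 _ f f' (by decide)))) (S.jm.cm2 _ f f' (by decide))
        (Or.inl (S.jm.cm2 _ f f' (by decide)))
    · exact S.p1 hu (t := (e3, -e4, e2)) (by decide)
        (S.qu hu hg.1 (Or.inl (S.jm.cm2 _ f f' (by decide)))) (S.jm.cm2 _ f f' (by decide))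
        (Or.inl (S.jm.cm2 _ f f' (by decide)))
    · exact S.p1 hu (t := (e2, -e4, e3)) (by decide)
        (S.qu hu hg.1 (Or.inr (S.jm.cm2 _ f f' (by decide)))) (S.jm.cm2 _ f f' (by decide))
        (Or.inl (S.jm.cm2 _ f f' (by decide)))
  refine bil (K := (T (zpowers s) ⊔ U0.map ϑ) ⊓ centralizer {j (0, 1, 1, c)}) (cop (hK.to_le inf_le_left))
    (a := j (0, 1, -1, 0)) (c := j e4) S.s2 ⟨mem_sup_left S.sQ, mC.2 (S.js _).symm⟩ (fun g hg => ?_)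
    (S.js _) (S.js _) (S.jm.j3 _) (S.jm.j3 _) (S.jm.jc _ _) ((sup (S.jQ _) ?_).inf (nz _))
    ((sup (S.jQ _) ?_).inf (nz _)) (fun g hg f => red 1 (by decide) g hg ?_)
    (fun g hg f => red (-1) (by decide) g hg ?_) _
    ⟨mem_sup_right (mem_map_of_mem ϑ u0U), mC.2 (S.jm.cm2 _ (S.cy u0) (c4 _ u0U) ⟨1, c, by simp⟩)⟩ _
    ⟨mem_sup_left hk, mC.2 e⟩ (c4 _ u0U) e'
  · refine mC.1 ((show _ ≤ centralizer ({s} : Set G) from sup_le (fun g hg => mC.2 (S.cQ hg)) ?_) hg.1)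
    rintro _ ⟨x, hx, rfl⟩
    exact mC.2 (cs x hx)
  · have := (U0_nm (Or.inr rfl)).map ϑ
    rwa [map_inv, S.w12, ← S.jm.jneg, show -((0, -1, 1, 0) : V) = (0, 1, -1, 0) by decide] at this
  · refine H75.L7.Nm.of_comm ?_
    rintro _ ⟨x, hx, rfl⟩
    exact (c4 x hx).symm
  · rwa [← S.jm.add, show ((0, 1, -1, 0) : V) + e4 = (0, 1, -1, 1) by decide] at f
  · rwa [← S.jm.jneg, ← S.jm.add, show ((0, 1, -1, 0) : V) + -e4 = (0, 1, -1, -1) by decide] at f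

end OM1

open OM1 in
theorem om1 (h : Hy j θ D) {a : G} (ha : Ac j a O1) : θc a θ u0 ∈ T (zpowers (θc a θ P12)) := by
  have S := st h ha
  generalize θc a θ P12 = s at S ⊢
  generalize θc a θ = ϑ at S ⊢
  by_contra hu
  refine hu (h.ch.mem (two_zp S.s2) (by simpa using S.s1) fun t ht => (mC.1 (gen27 (B := centralizer {ϑ u0})
    (cop (T_two _)) (fun x => j (0, x)) (fun x y => by rw [← S.jm.add]; simp)
    (fun x e => congrArg Prod.snd (S.jm.inj _ e)) S.jQ (fun φ h0 k hk c => mC.2 ?_) ht)).symm)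
  rcases cases φ h0 with e | ⟨t, ht, e, e'⟩ | ⟨d, hd, e, e'⟩
  · obtain ⟨x, hx, rfl⟩ := S.part hk (c _ e)
    rw [← map_mul, ← O0_cent u0 o1.1 o1.2.2.1 x hx, map_mul]
  · rcases S.p1 hu ht hk (c _ e) (e'.imp (c _) (c _)) with r | r <;> rw [r]
    · simp
    · rw [← S.e, ← map_mul, ← O0_cP u0 o1.1, map_mul]
  · exact (S.p3 hu hd hk (c _ e) (c _ e')).symm

end H29.S6
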