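import Cfsg.Agent.Lib.S6.OM1

/-! S6, package OM2 (see blueprint/S6/README.md). -/

set_option autoImplicit false
set_option linter.unusedSectionVars false

namespace H29.S6

open Subgroup Cfsg H29.F42
open H87.U6 (F3 V lin cm_inv cm_mul cm_pow cm_conj cm_of_mod mC gen9 eq_one_of_cop)
open H75.L7 (Nm T Ch2 Rk3 T_two)

variable {G : Type*} [Group G] [Finite G] {j ρ : V → G} {τ : G} {θ θ' : Sp →* G} {D : Subgroup G}

namespace OM2

open OM1

variable {s a b c x g : G}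

/-- equal modulo the involution `s` -/
def Md (s a b : G) : Prop := a = b ∨ a = s * b

theorem Md.symm (s2 : s * s = 1) (h : Md s a b) : Md s b a :=
  h.imp Eq.symm fun e => by rw [e, ← mul_assoc, s2, one_mul]

theorem Md.trans (s2 : s * s = 1) (h : Md s a b) (k : Md s b c) : Md s a c := by
  rcases h with h | h <;> rcases k with k | k <;> rw [h, k]
  exacts [Or.inl rfl, Or.inr rfl, Or.inr rfl, Or.inl (by rw [← mul_assoc, s2, one_mul])]

theorem Md.cj (e : g * s = s * g) (h : Md s a b) : Md s (g * a * g⁻¹) (g * b * g⁻¹) :=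
  h.imp (fun h => by rw [h]) fun h => by rw [h, ← mul_assoc, e]; group

theorem Md.cm (h : Md s a b) (e : g * s = s * g) (k : g * b = b * g) : g * a = a * g := by
  rcases h with h | h <;> rw [h]
  exacts [k, (cm_mul e.symm k.symm).symm]

/-- `R / ⟨s⟩` is trivial or a four-group permuted by `W` -/
theorem core {R : Subgroup G} {W t γ : G} (s2 : s * s = 1) (Rs : ∀ r ∈ R, r * s = s * r)
    (Ws : W * s = s * W) (ts : t * s = s * t) (γs : γ * s = s * γ) (W3 : W ^ 3 = 1) (γ3 : γ ^ 3 = 1)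
    (tW : t * W * t⁻¹ = W⁻¹) (γt : γ * t = t * γ) (nW : Nm W R) (nt : Nm t R) (nγ : Nm γ R)
    (γW : ∀ r ∈ R, γ * W * γ⁻¹ * r * (γ * W * γ⁻¹)⁻¹ = W * r * W⁻¹)
    (h : ∀ x ∈ R, ¬ Md s x 1 → x * (W * x * W⁻¹) ≠ W * x * W⁻¹ * x ∧
      ∀ r ∈ R, Md s r 1 ∨ Md s r x ∨ Md s r (W * x * W⁻¹) ∨ Md s r (W⁻¹ * x * W⁻¹⁻¹)) :
    ∀ r ∈ R, γ * r = r * γ := by
  have WW : W * W = W⁻¹ := eq_inv_of_mul_eq_one_left (by rw [← W3, pow_succ, sq])
  have tW' : t * W⁻¹ * t⁻¹ = W := by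
    calc _ = (t * W * t⁻¹)⁻¹ := by group
      _ = _ := by rw [tW, inv_inv]
  have n1 : ∀ {g x : G}, g * s = s * g → ¬ Md s x 1 → ¬ Md s (g * x * g⁻¹) 1 := fun {g x} e hx m =>
    hx (by simpa [mul_assoc] using m.cj (cm_inv e))
  have tc : ∀ {w w' : G} (y : G), t * w * t⁻¹ = w' → t * (w * y * w⁻¹) * t⁻¹ = w' * (t * y * t⁻¹) * w'⁻¹ :=
    fun y e => by rw [← e]; group
  have c1 : ∀ y : G, W * (W * y * W⁻¹) * W⁻¹ = W⁻¹ * y * W⁻¹⁻¹ := fun y => by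
    calc _ = W * W * y * (W * W)⁻¹ := by group
      _ = _ := by rw [WW]
  have c2 : ∀ y : G, W⁻¹ * (W⁻¹ * y * W⁻¹⁻¹) * W⁻¹⁻¹ = W * y * W⁻¹ := fun y => by
    rw [← c1 y]; group
  intro r hr
  by_cases r1 : Md s r 1
  · exact r1.cm γs (by simp)
  obtain ⟨x, hx, x1, fx⟩ : ∃ x ∈ R, ¬ Md s x 1 ∧ Md s (t * x * t⁻¹) x := by
    rcases (h r hr r1).2 _ (nt r hr) with m | m | m | m
    · exact absurd m (n1 ts r1)
    · exact ⟨r, hr, r1, m⟩
    · exact ⟨_, nW.inv r hr, n1 (cm_inv Ws) r1, by rw [tc r tW', ← c1]; exact m.cj Ws⟩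
    · exact ⟨_, nW r hr, n1 Ws r1, by rw [tc r tW, ← c2]; exact m.cj (cm_inv Ws)⟩
  obtain ⟨nc, cov⟩ := h x hx x1
  have d12 : ¬ Md s (W * x * W⁻¹) (W⁻¹ * x * W⁻¹⁻¹) := fun m => by
    have := m.cj (cm_inv Ws)
    rw [c2, show W⁻¹ * (W * x * W⁻¹) * W⁻¹⁻¹ = x by group] at this
    exact nc ((this.symm s2).cm (Rs x hx) rfl)
  have fx' : Md s (t * (γ * x * γ⁻¹) * t⁻¹) (γ * x * γ⁻¹) := by
    rw [tc x (show t * γ * t⁻¹ = γ by rw [← γt, mul_inv_cancel_right])]; exact fx.cj γs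
  have gx : γ * x = x * γ := by
    have m : Md s (γ * x * γ⁻¹) x := by
      rcases cov _ (nγ x hx) with m | m | m | m
      · exact absurd m (n1 γs x1)
      · exact m
      · have := m.cj ts
        rw [tc x tW] at this
        exact absurd (((m.symm s2).trans s2 (fx'.symm s2)).trans s2 (this.trans s2 (fx.cj (cm_inv Ws)))) d12
      · have := m.cj ts
        rw [tc x tW'] at this
        exact absurd (((m.symm s2).trans s2 (fx'.symm s2)).trans s2 (this.trans s2 (fx.cj Ws))).symm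
          (fun e => d12 (e s2))
    suffices k : x⁻¹ * γ = γ * x⁻¹ by simpa using (cm_inv k).symm
    refine cm_of_mod γ3 s2 γs (m.imp (fun e => ?_) fun e => ?_)
    · calc _ = x⁻¹ * (γ * x * γ⁻¹) * γ := by group
        _ = _ := by rw [e]; group
    · calc _ = x⁻¹ * (γ * x * γ⁻¹) * γ := by group
        _ = _ := by rw [e, ← Rs x hx, γs]; group
  have gW : ∀ y ∈ R, γ * y = y * γ → γ * (W * y * W⁻¹) = W * y * W⁻¹ * γ := fun y hy e => by
    calc _ = γ * W * γ⁻¹ * (γ * y) * γ⁻¹ * (γ * W * γ⁻¹)⁻¹ * γ := by group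
      _ = _ := by rw [e, ← γW y hy]; group
  rcases cov r hr with m | m | m | m
  · exact absurd m r1
  · exact m.cm γs gx
  · exact m.cm γs (gW x hx gx)
  · exact m.cm γs (c1 x ▸ gW _ (nW x hx) (gW x hx gx))

/-- generation by centralisers when `a, b` commute modulo an element `z` acting trivially -/
theorem gen9z {H : Subgroup G} (hH : IsPGroup 2 H) {z : G} (z3 : z ^ 3 = 1) (a3 : a ^ 3 = 1) (b3 : b ^ 3 = 1)
    (az : a * z = z * a) (bz : b * z = z * b) (Hz : ∀ k ∈ H, k * z = z * k) (ab : b * a * b⁻¹ = a * z⁻¹)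
    (z1 : z ≠ 1) (b1 : ∀ m n : ℕ, b ≠ a ^ m * z ^ n) (na : Nm a H) (nb : Nm b H)
    (h : ∀ x, x = b ∨ x = a * b ∨ x = a * b⁻¹ → ∀ k ∈ H, k * x = x * k → k * a = a * k) :
    ∀ k ∈ H, k * a = a * k := by
  let C := centralizer ({z} : Set G)
  let Z : Subgroup C := zpowers ⟨z, mC.2 rfl⟩
  have : Z.Normal := ⟨by
    rintro _ ⟨i, rfl⟩ g
    refine ⟨i, Subtype.ext ?_⟩
    change z ^ i = (g : G) * z ^ i * (g : G)⁻¹
    rw [(Commute.zpow_right (mC.1 g.2) i).eq, mul_inv_cancel_right]⟩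
  let π := QuotientGroup.mk' Z
  have ker : ∀ y : C, π y = 1 → ∃ n : ℕ, (y : G) = z ^ n := fun y e => by
    obtain ⟨n, hn⟩ := mem_powers_iff_mem_zpowers.2 ((QuotientGroup.eq_one_iff y).1 e)
    exact ⟨n, (congrArg Subtype.val hn).symm⟩
  have πz : π ⟨z, mC.2 rfl⟩ = 1 := (QuotientGroup.eq_one_iff _).2 (mem_zpowers _)
  have lift : ∀ k x : C, (k : G) ∈ H → Nm (x : G) H → π k * π x = π x * π k → (k : G) * x = x * k :=
    fun k x hk n e => by
      obtain ⟨m, hm⟩ := ker (x * k * x⁻¹ * k⁻¹) (by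
        rw [map_mul, map_mul, map_mul, ← e, map_inv, map_inv]; group)
      have m1 : (x : G) * k * (x : G)⁻¹ * (k : G)⁻¹ = 1 :=
        eq_one_of_cop (cop hH) (mul_mem (n _ hk) (inv_mem hk)) (n := 1) (by
          rw [show (x : G) * k * (x : G)⁻¹ * (k : G)⁻¹ = z ^ m from hm, ← pow_mul, mul_comm, pow_mul, pow_one, z3,
            one_pow])
      rw [mul_inv_eq_one, mul_inv_eq_iff_eq_mul] at m1
      exact m1.symm
  let a' : C := ⟨a, mC.2 az⟩
  let b' : C := ⟨b, mC.2 bz⟩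
  have nm : ∀ x : C, Nm (x : G) H → ∀ k ∈ (H.subgroupOf C).map π, π x * k * (π x)⁻¹ ∈ (H.subgroupOf C).map π :=
    fun x n => H75.L7.Nm.map π (H75.L7.Nm.comap C.subtype n)
  have red : ∀ x : C, Nm (x : G) H → ((x : G) = b ∨ (x : G) = a * b ∨ (x : G) = a * b⁻¹) →
      ∀ k ∈ (H.subgroupOf C).map π, k * π x = π x * k → k ∈ centralizer {π a'} := by
    rintro x n hx _ ⟨k, hk, rfl⟩ e
    refine mC.2 ?_
    rw [← map_mul, ← map_mul]
    exact congrArg π (Subtype.ext (h x hx k hk (lift k x hk n e)))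
  have key := gen9 (K := (H.subgroupOf C).map π) (B := centralizer {π a'})
    (cop ((hH.comap_of_injective C.subtype C.subtype_injective).map π)) (a := π a') (b := π b')
    (by rw [← map_pow, show a' ^ 3 = 1 from Subtype.ext a3, map_one])
    (by rw [← map_pow, show b' ^ 3 = 1 from Subtype.ext b3, map_one])
    (by
      have e : b' * a' * b'⁻¹ = a' * (⟨z, mC.2 rfl⟩ : C)⁻¹ := Subtype.ext ab
      have := congrArg π e
      rw [map_mul, map_mul, map_mul, map_inv, map_inv, πz, inv_one, mul_one, mul_inv_eq_iff_eq_mul] at this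
      exact this.symm)
    (fun e => by
      obtain ⟨n, hn⟩ := ker a' e
      change a = _ at hn
      rw [show b * a = a * b by rw [hn]; exact (cm_pow bz.symm n).symm, mul_inv_cancel_right] at ab
      exact z1 (by simpa using ab))
    (fun e => by
      obtain ⟨m, hm⟩ := mem_powers_iff_mem_zpowers.2 e
      obtain ⟨n, hn⟩ := ker ((a' ^ m)⁻¹ * b') (by rw [map_mul, map_inv, map_pow, inv_mul_eq_one]; exact hm)
      exact b1 m n (inv_mul_eq_iff_eq_mul.1 hn))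
    (nm a' na) (nm b' nb) (fun k _ e => mC.2 e) (red b' nb (Or.inl rfl))
    (by rw [← map_mul]; exact red (a' * b') (na.mul nb) (Or.inr (Or.inl rfl)))
    (by rw [← map_inv, ← map_mul]; exact red (a' * b'⁻¹) (na.mul nb.inv) (Or.inr (Or.inr rfl)))
  exact fun k hk => lift ⟨k, mC.2 (Hz k hk)⟩ a' hk na (mC.1 (key (mem_map_of_mem π hk)))

variable {ϑ χ : Sp →* G} {z i : Sp}

theorem mp {x y : Sp} (e : x * y = y * x) : θ x * θ y = θ y * θ x := by rw [← map_mul, e, map_mul]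

theorem nH (S : St j θ D ϑ s) {x : Sp} (e : x * z = z * x) : Nm (θ x) (T (zpowers s) ⊓ centralizer {θ z}) :=
  fun k hk => ⟨S.nQ x k hk.1, mC.2 (by
    have := cm_conj (mC.1 hk.2) (θ x)
    rwa [mp e, mul_inv_cancel_right] at this)⟩

theorem four (S : St j θ D ϑ s) (c' : Ch (fun v => j (rf (E3 1) (O1 v))) χ D) (e' : χ P12 = s) {r : G}
    (hr : r ∈ T (zpowers s) ⊓ centralizer {j (0, 1, 1, 1)} ⊓ centralizer {j (0, 1, -1, 0)}) (r1 : ¬ Md s r 1) :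
    r * (j e4 * r * (j e4)⁻¹) ≠ j e4 * r * (j e4)⁻¹ * r ∧
      ∀ r' ∈ T (zpowers s) ⊓ centralizer {j (0, 1, 1, 1)} ⊓ centralizer {j (0, 1, -1, 0)},
        Md s r' 1 ∨ Md s r' r ∨ Md s r' (j e4 * r * (j e4)⁻¹) ∨ Md s r' ((j e4)⁻¹ * r * (j e4)⁻¹⁻¹) := by
  have J := S.jm
  have χ0 : χ (ww 0) = j e4 := c'.w0.trans (congrArg j (by decide))
  have χ1 : χ (ww 1 * ww 2) = j (0, -1, -1, 0) := by
    rw [map_mul, c'.w1, c'.w2, ← J.add]; exact congrArg j (by decide)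
  have χz : χ (ww 0 * (ww 1 * ww 2)⁻¹) = j (0, 1, 1, 1) := by
    rw [map_mul, map_inv, χ0, χ1, ← J.jneg, ← J.add]; exact congrArg j (by decide)
  have pt : ∀ r ∈ T (zpowers s) ⊓ centralizer {j (0, 1, 1, 1)} ⊓ centralizer {j (0, 1, -1, 0)},
      ∃ x ∈ O0, x * (ww 0 * (ww 1 * ww 2)⁻¹) = ww 0 * (ww 1 * ww 2)⁻¹ * x ∧ r = χ x := by
    intro r hr
    obtain ⟨x, hx, rfl⟩ := part c' (T_two _) (fun k hk => by rw [e']; exact S.cQ hk) (by rw [χ0]; exact S.jQ _)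
      (by rw [χ1]; exact S.jQ _) hr.1.1 (by
        rw [show rf (E3 1) (O1 e1) = ((0, 1, -1, 0) : V) by decide]; exact mC.1 hr.2)
    exact ⟨x, hx, inj_cm c' (by rw [χz]; exact mC.1 hr.1.2), rfl⟩
  obtain ⟨x, hx, cx, rfl⟩ := pt r hr
  obtain ⟨-, nc, cov⟩ := o2 (Or.inr rfl) hx cx (fun e => r1 (Or.inl (by rw [e, map_one])))
    fun e => r1 (Or.inr (by rw [e, e', mul_one]))
  refine ⟨fun e => nc (c'.θi (by simpa only [map_mul, map_inv, χ0] using e)), fun r' hr' => ?_⟩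
  obtain ⟨x', hx', cx', rfl⟩ := pt r' hr'
  obtain ⟨k, e, hk⟩ := cov x' hx' cx'
  have m : Md s (χ x') (χ k) := e.imp (congrArg χ) fun e => by rw [e, map_mul, e']
  rcases hk with r | r | r | r <;> simp only [r, map_mul, map_inv, map_one, χ0] at m
  · exact Or.inl m
  · exact Or.inr (Or.inl m)
  · exact Or.inr (Or.inr (Or.inl m))
  · exact Or.inr (Or.inr (Or.inr (by rwa [inv_inv])))

theorem gR (S : St j θ D ϑ s) (c' : Ch (fun v => j (rf (E3 1) (O1 v))) χ D) (e' : χ P12 = s) {t γ : G}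
    (ht : Ac j t fun v => (v.1, -v.2)) (ts : t * s = s * t) (γs : γ * s = s * γ) (γ3 : γ ^ 3 = 1)
    (γt : γ * t = t * γ) (γz : γ * j (0, 1, 1, 1) = j (0, 1, 1, 1) * γ)
    (γi : γ * j (0, 1, -1, 0) * γ⁻¹ = j (0, 1, -1, 0) * (j (0, 1, 1, 1))⁻¹) (γw : γ * j e4 * γ⁻¹ = j e2) :
    ∀ r ∈ T (zpowers s) ⊓ centralizer {j (0, 1, 1, 1)} ⊓ centralizer {j (0, 1, -1, 0)}, γ * r = r * γ := by
  have J := S.jm
  have nQ : ∀ {g : G}, g * s = s * g → Nm g (T (zpowers s)) := fun e => (H75.L7.nm_zp e).T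
  refine core (W := j e4) (t := t) S.s2 (fun r hr => S.cQ hr.1.1) (S.js _) ts γs (J.j3 _) γ3
    (by rw [ht, ← J.jneg]; exact congrArg j (by decide)) γt
    (fun r hr => ⟨⟨S.jQ _ r hr.1.1, mC.2 ?_⟩, mC.2 ?_⟩)
    (fun r hr => ⟨⟨nQ ts r hr.1.1, mC.2 ?_⟩, mC.2 ?_⟩) (fun r hr => ?_)
    (fun r hr => ?_) fun r hr r1 => four S c' e' hr r1
  · have := cm_conj (mC.1 hr.1.2) (j e4)
    rwa [J.jc, mul_inv_cancel_right] at this
  · have := cm_conj (mC.1 hr.2) (j e4)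
    rwa [J.jc, mul_inv_cancel_right] at this
  · have := cm_conj (mC.1 hr.1.2) t
    rw [ht] at this
    exact J.cm2 _ this this ⟨-1, 0, by decide⟩
  · have := cm_conj (mC.1 hr.2) t
    rw [ht] at this
    exact J.cm2 _ this this ⟨-1, 0, by decide⟩
  · have h1 := cm_conj (mC.1 hr.1.2) γ
    rw [γz, mul_inv_cancel_right] at h1
    have h2 := cm_conj (mC.1 hr.2) γ
    rw [γi] at h2
    exact ⟨⟨nQ γs r hr.1.1, mC.2 h1⟩, mC.2 (by simpa using (cm_mul h2.symm h1.symm).symm)⟩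
  · have e : r * j (0, 1, 0, -1) = j (0, 1, 0, -1) * r := J.cm2 _ (mC.1 hr.1.2) (mC.1 hr.2) (by decide)
    have e2 : j e2 = j e4 * j (0, 1, 0, -1) := by rw [← J.add]; exact congrArg j (by decide)
    rw [γw, e2, mul_assoc (j e4), ← e]; group

theorem word (S : St j θ D ϑ s) {g y : Sp}
    (gR : ∀ r ∈ T (zpowers s) ⊓ centralizer {θ z} ⊓ centralizer {θ i}, θ g * r = r * θ g)
    (hw : ∃ u : Sp, u * z = z * u ∧ (∃ m : ℕ, u * i * u⁻¹ = z ^ m * y ∨ u * i * u⁻¹ = z ^ m * y⁻¹) ∧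
      ∃ l m n : ℕ, u⁻¹ * i * u = z ^ l * i ^ m * g ^ n) {k : G} (hk : k ∈ T (zpowers s) ⊓ centralizer {θ z})
    (e : k * θ y = θ y * k) : k * θ i = θ i * k := by
  obtain ⟨u, uz, ⟨m, hm⟩, l, m', n, e2⟩ := hw
  have e1 : θ (u * i * u⁻¹) * k = k * θ (u * i * u⁻¹) := by
    rcases hm with r | r <;> rw [r, map_mul, map_pow]
    · exact cm_mul (cm_pow (mC.1 hk.2).symm m) e.symm
    · rw [map_inv]; exact cm_mul (cm_pow (mC.1 hk.2).symm m) (cm_inv e.symm)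
  have r1 : θ u⁻¹ * k * (θ u⁻¹)⁻¹ ∈ T (zpowers s) ⊓ centralizer {θ z} ⊓ centralizer {θ i} :=
    ⟨nH S (cm_inv uz) k hk, mC.2 (by
      have := cm_conj e1.symm (θ u⁻¹)
      rwa [show θ u⁻¹ * θ (u * i * u⁻¹) * (θ u⁻¹)⁻¹ = θ i by simp [mul_assoc]] at this)⟩
  have e3 : θ (u⁻¹ * i * u) * (θ u⁻¹ * k * (θ u⁻¹)⁻¹) = θ u⁻¹ * k * (θ u⁻¹)⁻¹ * θ (u⁻¹ * i * u) := by
    rw [e2, map_mul, map_mul, map_pow, map_pow, map_pow]
    exact cm_mul (cm_mul (cm_pow (mC.1 r1.1.2).symm l) (cm_pow (mC.1 r1.2).symm m')) (cm_pow (gR _ r1) n)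
  simpa [mul_assoc] using cm_conj e3.symm (θ u)

theorem fin (S : St j θ D ϑ s) (c' : Ch (fun v => j (rf (E3 1) (O1 v))) χ D) (e' : χ P12 = s) {g t : Sp}
    (hz : θ z = j (0, 1, 1, 1)) (hi : θ i = j (0, 1, -1, 0)) (ht : Ac j (θ t) fun v => (v.1, -v.2))
    (g3 : g ^ 3 = 1) (gz : g * z = z * g) (gi : g * i * g⁻¹ = i * z⁻¹) (gw : g * ww 2 * g⁻¹ = ww 0)
    (gt : g * t = t * g) (g1 : ∀ m n : ℕ, g ≠ i ^ m * z ^ n)
    (hw : ∀ x, x = g ∨ x = i * g ∨ x = i * g⁻¹ → ∃ u : Sp, u * z = z * u ∧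
      (∃ m : ℕ, u * i * u⁻¹ = z ^ m * x ∨ u * i * u⁻¹ = z ^ m * x⁻¹) ∧
      ∃ l m n : ℕ, u⁻¹ * i * u = z ^ l * i ^ m * g ^ n) :
    ∀ k ∈ T (zpowers s) ⊓ centralizer {θ z}, k * θ i = θ i * k := by
  have J := S.jm
  have c0 := S.h.toCh.toCh0
  have γ3 : θ g ^ 3 = 1 := by rw [← map_pow, g3, map_one]
  have γi : θ g * θ i * (θ g)⁻¹ = θ i * (θ z)⁻¹ := by rw [← map_inv, ← map_mul, ← map_mul, gi, map_mul, map_inv]
  have key := gR S c' e' ht (S.cL _).symm (S.cL g).symm γ3 (mp gt) (by rw [← hz]; exact mp gz)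
    (by rw [← hz, ← hi, γi]) (by rw [← c0.w2, ← map_inv, ← map_mul, ← map_mul, gw, c0.w0])
  rw [← hz, ← hi] at key
  have iz : i * z = z * i := inj_cm S.h.toCh (by rw [hi, hz, J.jc])
  refine gen9z ((T_two _).to_le inf_le_left) (b := θ g) (z := θ z) (by rw [hz, J.j3]) (by rw [hi, J.j3]) γ3
    (mp iz) (mp gz) (fun k hk => mC.1 hk.2) γi (by rw [hz]; exact J.jne (by decide))
    (fun m n e => g1 m n (c0.θi (by rw [map_mul, map_pow, map_pow, e]))) (nH S iz) (nH S gz) fun x hx k hk e => ?_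
  rcases hx with r | r | r <;> rw [r] at e
  · exact word S key (hw _ (Or.inl rfl)) hk e
  · exact word S key (hw _ (Or.inr (Or.inl rfl))) hk (by rwa [map_mul])
  · exact word S key (hw _ (Or.inr (Or.inr rfl))) hk (by rwa [map_mul, map_inv])

theorem neg_I : ∀ v : V, rf (E3 0) (rf (E3 1) (rf (E3 2) v)) = (v.1, -v.2) := by decide +kernel

end OM2

open OM1 OM2 in
theorem om2 (h : Hy j θ D) {a : G} (ha : Ac j a O1) (hu : θc a θ u0 ∈ T (zpowers (θc a θ P12))) :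
    False := by
  have S := st h ha
  have c0 := h.toCh.toCh0
  have c' := h.toCh.cj ((c0.acT 1).mul ha)
  have e' : θc (θ (TT 1) * a) θ P12 = θc a θ P12 := by
    calc _ = θ (TT 1) * θc a θ P12 * (θ (TT 1))⁻¹ := by rw [θc_apply, θc_apply]; group
      _ = _ := by rw [← S.cL, mul_inv_cancel_right]
  generalize θc (θ (TT 1) * a) θ = χ at c' e'
  generalize θc a θ P12 = s at S hu e'
  generalize θc a θ = ϑ at S hu
  have J := S.jm
  obtain ⟨g3, gz, gi, gw, gt, g1, hw⟩ := omw rfl rfl rfl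
  have hz : θ (ww 0 * ww 1 * ww 2) = j (0, 1, 1, 1) := by
    rw [map_mul, map_mul, c0.w0, c0.w1, c0.w2, ← J.add, ← J.add]; exact congrArg j (by decide)
  have hi : θ (ww 0 * (ww 1)⁻¹) = j (0, 1, -1, 0) := by
    rw [map_mul, map_inv, c0.w0, c0.w1, ← J.jneg, ← J.add]; exact congrArg j (by decide)
  have ht : Ac j (θ (TT 0 * TT 1 * TT 2)) fun v => (v.1, -v.2) := by
    rw [map_mul, map_mul]
    exact (((c0.acT 0).mul (c0.acT 1)).mul (c0.acT 2)).congr neg_I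
  have u4 : ϑ u0 * j e4 = j e4 * ϑ u0 := by rw [← S.w0, ← map_mul, o1.2.2.1, map_mul]
  have key := fin S c' e' hz hi ht g3 gz gi gw gt g1 hw (ϑ u0)
    ⟨hu, mC.2 (by rw [hz]; exact J.cm2 _ (S.cy u0) u4 ⟨1, 1, by decide⟩)⟩
  rw [hi] at key
  have e : ϑ u0 * ϑ (ww 1 * ww 2) = ϑ (ww 1 * ww 2) * ϑ u0 := by
    rw [S.w12]; exact J.cm2 _ key key ⟨-1, 0, by decide⟩
  exact o1.2.2.2.2.2.2.1 (by rw [← inj_cm S.c e, mul_inv_cancel_right])

end H29.S6
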