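import Cfsg.Agent.Lib.S6.QA0

/-! S6, package PP (see blueprint/S6/README.md). -/

set_option autoImplicit false
set_option linter.unusedSectionVars false

namespace H29.S6

open Subgroup Cfsg H29.F42
open H87.U6 (F3 V lin mC nrm cm_mul cm_inv cm_conj)
open H75.L7 (Nm T Ch2 Rk3)

variable {G : Type*} [Group G] [Finite G] {j ρ : V → G} {τ : G} {θ θ' : Sp →* G} {D : Subgroup G}

namespace PP

/-- `C(j a) ≤ P` -/
def Gd (j : V → G) (P : Subgroup G) (a : V) : Prop := ∀ g, g * j a = j a * g → g ∈ P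

theorem Gd.cj {P : Subgroup G} {a c : V} (h : Gd j P a) {p : G} (hp : p ∈ P)
    (e : p * j a * p⁻¹ = j c) : Gd j P c := fun g hg => by
  rw [← e] at hg
  have := h (p⁻¹ * g * p) (by simpa [mul_assoc] using cm_conj hg p⁻¹)
  rwa [mul_mem_cancel_right hp, mul_mem_cancel_left (inv_mem hp)] at this

theorem mv (f : F1 j τ ρ) {P : Subgroup G} (k : ∀ c, q c ≠ 0 → ρ c ∈ P) {a c : V} (ha : q a ≠ 0)
    (e : q c = q a) : ∃ p ∈ P, p * j a * p⁻¹ = j c := by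
  have r : ∀ d, ∃ p ∈ P, ∀ v, p * j v * p⁻¹ = j (rf d v) := fun d => by
    by_cases e : q d = 0
    · exact ⟨1, one_mem _, fun v => by simp [F42.rf, e]⟩
    · exact ⟨_, k d e, f.ρj d e⟩
  obtain ⟨d, -, d', -, e⟩ := (by decide +kernel : ∀ a c : V, q a ≠ 0 → q c = q a →
    ∃ d ∈ [c - a, c + a], ∃ d' ∈ [0, a], rf d (rf d' a) = c) a c ha e
  obtain ⟨p, hp, e1⟩ := r d
  obtain ⟨p', hp', e2⟩ := r d'
  exact ⟨p * p', mul_mem hp hp', by rw [← e, ← e1, ← e2]; group⟩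

theorem all (f : F1 j τ ρ) {P : Subgroup G} (h1 : Gd j P (1, 1, 0, 0)) (r1 : ρ e2 ∈ P)
    (r2 : ρ (0, 1, -1, 0) ∈ P) : ∀ c, q c ≠ 0 → ρ c ∈ P := by
  have s : ∀ {a c a' : V}, Gd j P a → q c ≠ 0 → ρ c ∈ P → rf c a = a' → Gd j P a' :=
    fun h hc m e => h.cj m (e ▸ f.ρj _ hc _)
  have h2 : Gd j P (1, -1, 0, 0) := s h1 (by decide) r1 (by decide)
  have h3 : Gd j P (1, 0, 1, 0) := s h1 (by decide) r2 (by decide)
  have r3 : ρ e3 ∈ P := h1 _ (f.ρc (by decide) (by decide))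
  have r4 : ρ (1, 0, -1, 0) ∈ P := h3 _ (f.ρc (by decide) (by decide))
  have h4 : Gd j P (1, 0, -1, 0) := s h3 (by decide) r3 (by decide)
  have h5 : Gd j P (0, 1, 1, 0) := s h1 (by decide) r4 (by decide)
  have h6 : Gd j P (0, -1, 1, 0) := s h2 (by decide) r4 (by decide)
  intro c hc
  rcases (by decide +kernel : ∀ c : V, q c ≠ 0 → b c (1, 1, 0, 0) = 0 ∨ b c (1, -1, 0, 0) = 0 ∨
    b c (1, 0, 1, 0) = 0 ∨ b c (1, 0, -1, 0) = 0 ∨ b c (0, 1, 1, 0) = 0 ∨ b c (0, -1, 1, 0) = 0) c hc with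
    e | e | e | e | e | e
  exacts [h1 _ (f.ρc hc e), h2 _ (f.ρc hc e), h3 _ (f.ρc hc e), h4 _ (f.ρc hc e), h5 _ (f.ρc hc e),
    h6 _ (f.ρc hc e)]

theorem range_eq {θ θ' : Sp →* G} (i : Function.Injective θ) (i' : Function.Injective θ')
    (h : ∀ x, x * x = 1 → θ x ∈ θ'.range) : θ.range = θ'.range := by
  obtain ⟨-, -, t2, -, -, -, p2, p2', -, -, -, -, -, -, -, -, -, -, g2, -⟩ := sp_rel
  have e := gen2 (θ'.range.comap θ)
    (fun i => mul_mem (h _ (MD1.tv_sq (ff i)) : tv (ff i) ∈ θ'.range.comap θ) (h _ (MD1.tv_sq (gg i))))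
    (fun i => h _ (t2 i)) (h _ p2) (h _ p2') (h _ g2)
  refine eq_of_le_of_card_ge (by rintro _ ⟨x, rfl⟩; exact (e.ge (mem_top x) :)) (le_of_eq ?_)
  rw [← Nat.card_congr (MonoidHom.ofInjective i).toEquiv, ← Nat.card_congr (MonoidHom.ofInjective i').toEquiv]

def Nc : V → V := lin (0, 0, 1, 1) (0, 0, 1, -1) (1, -1, 0, 0) (-1, -1, 0, 0)

theorem simc : Sim Nc := sim_lin ⟨-1, by decide, by decide +kernel⟩

theorem inv4 (h : Fm j τ ρ) {s : G} (s2 : s * s = 1) (s1 : s ≠ 1)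
    (c : ∀ y : X3, s * j (0, y) = j (0, y) * s) : ∃ w, s = j w * ρ e1 * (j w)⁻¹ := by
  have f := h.toF1
  obtain ⟨θ, S⟩ := h.all Nc simc (by decide)
  obtain ⟨x, rfl⟩ := f.mem' simc S (n := 2) (by decide) (by rw [sq, s2]) (c (0, 1, 1)) (by decide)
  have a : θ (ww 1 * ww 2) = j (0, 1, 0, 0) := by
    rw [map_mul, S.w1, S.w2, ← f.add]; exact congrArg j (by decide)
  have a' : θ (ww 1 * (ww 2)⁻¹) = j (-e1) := by
    rw [map_mul, map_inv, S.w1, S.w2, ← f.jneg, ← f.add]; exact congrArg j (by decide)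
  have a0 : θ (ww 0) = j (0, 0, 1, -1) := S.w0.trans (congrArg j (by decide))
  rcases c0w (x := x) (S.inj (by rw [map_mul, s2, map_one]))
    (S.inj (by rw [map_mul, map_mul, a0]; exact c (0, 1, -1)))
    (S.inj (by rw [map_mul θ x, map_mul θ _ x, a]; exact c (1, 0, 0))) with rfl | ⟨n, rfl⟩
  · exact absurd (map_one θ) s1
  refine ⟨n • -e1, ?_⟩
  have p : θ P12 = ρ e1 := by
    rw [S.p12, ← f.ρneg (a := e1) (by decide)]; exact congrArg ρ (by decide)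
  have k := mul_inv_eq_iff_eq_mul.1 (f.ρj e1 (by decide) (n • -e1))
  have k' := mul_inv_eq_iff_eq_mul.1 (f.ρj e1 (by decide) (-(n • -e1)))
  rw [map_mul, map_pow, a', f.jpow, p, ← f.jneg, mul_assoc, k, k', ← mul_assoc, ← f.add,
    (by decide +kernel : ∀ n : F3, rf e1 (n • -e1) = n • -e1 + rf e1 (-(n • -e1))) n]

end PP

open PP in
theorem pp' (h : Fm j τ ρ) {θ0 θ1 θ2 : Sp →* G} {d : G} (c : F4c j ρ θ0 θ1) {P : Subgroup G}
    (hP : P = θ1.range ⊔ θ2.range) (hd : d ∈ P) (d4 : d * j (0, 0, 1, -1) = j (0, 0, 1, -1) * d)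
    (h2 : ∀ g, g ∈ θ2.range ↔ d⁻¹ * g * d ∈ θ0.range) :
    (∀ n, NJ j n → n ∈ normalizer (P : Set G)) ∧ centralizer (P : Set G) = ⊥ ∧
    (∀ g, g * ρ e1 = ρ e1 * g → g ∈ P) ∧
    (∀ s, s * s = 1 → s ≠ 1 → (∀ x, θ2 x * s = s * θ2 x) → ∃ p ∈ P, s = p * ρ e1 * p⁻¹) ∧
    (∀ g, ∀ k ∈ P, k * j (0, 0, 1, -1) * k⁻¹ * (g * ρ e1 * g⁻¹) =
      g * ρ e1 * g⁻¹ * (k * j (0, 0, 1, -1) * k⁻¹) → ∃ n, NJ j n ∧ ∃ p ∈ P, ∃ p' ∈ P, g = p * n * p') ∧
    ∀ n, NJ j n → n ∉ P → ∀ a, a * a = 1 → a * j (0, 0, 1, 1) = j (0, 0, 1, 1) * a →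
      a * j (0, 0, 1, -1) = j (0, 0, 1, -1) * a → T (zpowers a) ≤ P := by
  have f := h.toF1
  have s0 := c.c0
  have s1 := c.s1
  have m2 : ∀ x, d * θ0 x * d⁻¹ ∈ θ2.range := fun x => (h2 _).2 ⟨x, by group⟩
  have p0 : ∀ x, θ0 x ∈ P := fun x => by
    have : d * θ0 x * d⁻¹ ∈ P := hP ▸ mem_sup_right (m2 x)
    rwa [mul_mem_cancel_right (inv_mem hd), mul_mem_cancel_left hd] at this
  have p1 : ∀ x, θ1 x ∈ P := fun x => hP ▸ mem_sup_left ⟨x, rfl⟩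
  have w0 : ∀ y : X3, θ0 (wv y) = j (0, y) := fun y => by
    rw [F42.wv, map_mul, map_mul, map_pow, map_pow, map_pow, s0.w, s0.w, s0.w, f.jpow, f.jpow, f.jpow,
      ← f.add, ← f.add, E3_0, E3_1, E3_2]
    exact congrArg j (by obtain ⟨a, b, c⟩ := y; simp)
  have jP : ∀ v, j v ∈ P := fun v => by
    rw [(by decide +kernel : ∀ v : V, v = v.1 • N1 e2 + (0, v.2.1 + v.1, v.2.2.1, v.2.2.2)) v, f.add,
      ← f.jpow, ← s1.w0, ← w0 (v.2.1 + v.1, v.2.2.1, v.2.2.2)]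
    exact mul_mem (pow_mem (p1 _) _) (p0 _)
  have g0 : Gd j P (1, 1, 0, 0) := fun g hg => by
    obtain ⟨k, x, rfl⟩ := s1.dec g hg; exact mul_mem (jP _) (p1 _)
  have a1 := all f g0 (c.t 0 ▸ p0 _) (c.p01 ▸ p0 _)
  have gl : ∀ a, q a = 2 → Gd j P a := fun a ha => by
    obtain ⟨p, hp, e⟩ := mv f a1 (a := (1, 1, 0, 0)) (c := a) (by decide) (ha.trans (by decide))
    exact g0.cj hp e
  have dich : ∀ n, NJ j n → n ∉ P → ∀ a, q a ≠ 0 → Gd j P a := fun n hn nP => by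
    obtain ⟨N, hN, e⟩ := f.sim n hn
    obtain ⟨M, hM, e1', e2'⟩ := hN.inv
    obtain ⟨-, ε, -, hε⟩ := id hN
    have ql : q (M e1) = 2 := by
      by_contra k
      have k1 := hε (M e1)
      have k2 := hε (1, 1, 0, 0)
      rw [e2'] at k1
      obtain ⟨p, hp, e'⟩ := mv f a1 (a := N (1, 1, 0, 0)) (c := (1, 1, 0, 0))
        ((hN.q0 _).not.2 (by decide)) (by
          rw [k2]
          exact (by decide : ∀ ε t : F3, ¬t = 2 → q e1 = ε * t → q (1, 1, 0, 0) = ε * q (1, 1, 0, 0))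
            ε _ k k1)
      refine nP ((mul_mem_cancel_left hp).1 (g0 _ (H87.U6.cm_cj.2 ?_)))
      refine Eq.trans ?_ e'
      rw [← e]; group
    obtain ⟨θa, S⟩ := h.all M hM ql
    have ea : n * j (M e1) * n⁻¹ = j e1 := by rw [e, e2']
    have r := range_eq s0.inj (θ' := θc n θa) ((MulAut.conj n).injective.comp S.inj) fun x x2 => by
      obtain ⟨y, hy⟩ := f.mem' hM S (n := 2) (g := n⁻¹ * θ0 x * n) (by decide)
        (by rw [sq, show n⁻¹ * θ0 x * n * (n⁻¹ * θ0 x * n) = n⁻¹ * (θ0 x * θ0 x) * n by group,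
          ← map_mul, x2, map_one]; simp)
        (by have := cm_conj (s0.cy x) n⁻¹; rw [← ea] at this; simpa [mul_assoc] using this) rfl
      exact ⟨y, by rw [θc_apply, ← hy]; group⟩
    have g1 : Gd j P e1 := fun g hg => by
      obtain ⟨k, x, e'⟩ := S.dec (n⁻¹ * g * n) (by
        have := cm_conj hg n⁻¹; rw [← ea] at this; simpa [mul_assoc] using this)
      obtain ⟨y, hy⟩ : θc n θa x ∈ θ0.range := r ▸ ⟨x, rfl⟩
      have : g = n * j (M (k, 0, 0, 0)) * n⁻¹ * θ0 y := by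
        rw [hy, θc_apply, show g = n * (n⁻¹ * g * n) * n⁻¹ by group, e']; group
      rw [this, e]
      exact mul_mem (jP _) (p0 _)
    intro a ha
    by_cases k : q a = 2
    · exact gl a k
    obtain ⟨p, hp, e⟩ := mv f a1 (a := e1) (c := a) (by decide) (by
      generalize q a = t at ha k; revert t; decide)
    exact g1.cj hp e
  have c3 : ∀ g, g * ρ e1 = ρ e1 * g → g ∈ P := fun g hg => by
    obtain ⟨u, hu, x, rfl⟩ := s0.dec g hg
    refine mul_mem (sig_gen h (sig_T h) (a1 _ (by decide)) (fun k _ i ci => ?_) (fun k _ u hu cu => ?_) hu)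
      (p0 x)
    · obtain ⟨i', i'', h1, h2, h3⟩ := (by decide : ∀ i : Fin 3, ∃ i' i'', i' ≠ i ∧ i'' ≠ i ∧
        q (E3 i' + E3 i'') = 2) i
      exact gl _ h3 k (by rw [f.add]; exact (cm_mul (ci _ h1).symm (ci _ h2).symm).symm)
    · obtain ⟨v, h1, h2, h3⟩ := (by decide : ∀ u ∈ UU, ∃ v ∈ [((0, 1, 1, 0) : V), (0, 1, -1, 0)],
        v.1 = 0 ∧ b u v = 0 ∧ q v = 2) u hu |>.imp fun _ => And.right
      exact gl _ h3 k (cu v h1 h2)
  refine ⟨fun g hg => ?_, ?_, c3, fun s s2 s1 cs => ?_, fun g k hk e => ?_, fun n hn nP a a2 c1 c2 => ?_⟩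
  · by_cases gP : g ∈ P
    · exact le_normalizer gP
    obtain ⟨N, hN, e⟩ := f.sim g hg
    have k : ∀ a, q a ≠ 0 → ∀ x, x * j a = j a * x → x ∈ P.comap (MulAut.conj g).toMonoidHom :=
      fun a ha x hx => dich g hg gP (N a) (mt (hN.q0 a).1 ha) _ (by rw [← e]; exact cm_conj hx g)
    refine nrm (hP.le.trans (sup_le ?_ ?_) : P ≤ P.comap (MulAut.conj g).toMonoidHom)
    · rintro _ ⟨x, rfl⟩; exact k _ (by decide) _ (s1.cy x)
    · intro y hy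
      obtain ⟨x, hx⟩ := (h2 y).1 hy
      have := k _ (by decide) _ (s0.cy x)
      have hd' := k _ (by decide) _ d4
      rwa [hx, mul_mem_cancel_right hd', mul_mem_cancel_left (inv_mem hd')] at this
  · refine (eq_bot_iff_forall _).2 fun g hg => ?_
    obtain ⟨v, rfl⟩ := f.cJ g fun v => (hg _ (jP v)).symm
    have k : ∀ c, q c ≠ 0 → rf c v = v := fun c hc => f.jinj (by
      rw [← f.ρj c hc, hg _ (a1 c hc), mul_inv_cancel_right])
    rw [(by decide +kernel : ∀ v : V, rf e1 v = v → rf e2 v = v → rf e3 v = v → rf e4 v = v → v = 0) v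
      (k _ (by decide)) (k _ (by decide)) (k _ (by decide)) (k _ (by decide)), f.j0]
  · obtain ⟨w, hw⟩ := inv4 h (s := d⁻¹ * s * d) (by
      rw [show d⁻¹ * s * d * (d⁻¹ * s * d) = d⁻¹ * (s * s) * d by group, s2]; simp)
      (fun e => s1 (by rw [show s = d * (d⁻¹ * s * d) * d⁻¹ by group, e]; simp)) fun y => by
        obtain ⟨x, hx⟩ := m2 (wv y)
        rw [← w0]
        simpa [hx, mul_assoc] using (cm_conj (cs x) d⁻¹).symm
    exact ⟨d * j w, mul_mem hd (jP w), by rw [show s = d * (d⁻¹ * s * d) * d⁻¹ by group, hw]; group⟩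
  · obtain ⟨k', y, e1', e2'⟩ := s0.ord3 (g⁻¹ * (k * j (0, 0, 1, -1) * k⁻¹) * g)
      (by simpa [mul_assoc] using cm_conj e g⁻¹)
      (by rw [show g⁻¹ * (k * j (0, 0, 1, -1) * k⁻¹) * g = g⁻¹ * k * j (0, 0, 1, -1) * (g⁻¹ * k)⁻¹ by
        group, conj_pow, f.j3]; simp)
    obtain ⟨n, hn, e3'⟩ := h.fusb (k' * g⁻¹ * k) (0, 0, 1, -1) (0, y) (by decide) (by rw [← e2']; group)
    have m := gl (0, 0, 1, -1) (by decide) (n⁻¹ * (k' * g⁻¹ * k)) (H87.U6.cm_cj.2 (by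
      rw [← e2'] at e3'
      calc _ = n⁻¹ * (k' * (g⁻¹ * (k * j (0, 0, 1, -1) * k⁻¹) * g) * k'⁻¹) * n := by group
        _ = _ := by rw [← e3']; group))
    exact ⟨n⁻¹, f.nj_inv hn, _, mul_mem hk (inv_mem m), k', c3 _ e1', by group⟩
  · have gd := dich n hn nP
    refine H75.L7.gen4 (H75.L7.T_two _) (f.j3 (0, 0, 1, 1)) (f.j3 (0, 0, 1, -1)) (f.jc _ _)
      (f.jne (by decide)) (fun e => ?_) (H75.L7.nm_zp c1.symm).T (H75.L7.nm_zp c2.symm).T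
      (fun r _ e => gd _ (by decide) r e) (fun r _ e => gd _ (by decide) r e)
      (fun r _ e => gd ((0, 0, 1, 1) + (0, 0, 1, -1)) (by decide) r (by rw [f.add]; exact e))
      fun r _ e => gd ((0, 0, 1, 1) + -(0, 0, 1, -1)) (by decide) r (by rw [f.add, f.jneg]; exact e)
    obtain ⟨k, e⟩ := f.mem_zp.1 e
    exact (by decide : ∀ k : F3, ((0, 0, 1, -1) : V) ≠ k • (0, 0, 1, 1)) k (f.jinj e)

end H29.S6
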