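import Cfsg.Agent.Lib.S6.Bas
import Cfsg.Agent.Lib.S6.GEN
import Cfsg.Agent.Lib.S6.MDc

/-! S6, package QA0 (see blueprint/S6/README.md). -/

set_option autoImplicit false
set_option linter.unusedSectionVars false

namespace H29.S6

open Subgroup Cfsg H29.F42
open H87.U6 (F3 V lin)
open H75.L7 (Nm T Ch2 Rk3)

variable {G : Type*} [Group G] [Finite G] {j ρ : V → G} {τ : G} {θ θ' : Sp →* G} {D : Subgroup G}

namespace QA0

/-- the chart at a long vector `y` of `I` -/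
structure Cy (j : V → G) (s : G) (θ : Sp →* G) (y y' c : V) : Prop where
  inj : Function.Injective θ
  mem : ∀ g, g * j y = j y * g → ∀ n : ℕ, n.Coprime 3 → g ^ n = 1 → ∃ x, g = θ x
  cy : ∀ x, θ x * j y = j y * θ x
  w0 : θ (ww 0) = j y'
  w12 : θ (ww 1 * ww 2) = j c
  p12 : θ P12 = s
  y1 : y'.1 = 0
  c1 : c.1 = 0

theorem tab : ∀ (i : Fin 3) (y : V), y.1 = 0 ∧ q y = 2 ∧ b y (E3 i) = 0 → ∀ y' : V,
    y'.1 = 0 ∧ q y' = 2 ∧ b y' (E3 i) = 0 ∧ b y y' = 0 →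
    (∀ v, q (lin y y' (e1 - E3 i) (-e1 - E3 i) v) = -1 * q v) ∧
      lin y y' (e1 - E3 i) (-e1 - E3 i) e1 = y ∧ lin y y' (e1 - E3 i) (-e1 - E3 i) e2 = y' ∧
      lin y y' (e1 - E3 i) (-e1 - E3 i) e3 + lin y y' (e1 - E3 i) (-e1 - E3 i) e4 = E3 i ∧
      lin y y' (e1 - E3 i) (-e1 - E3 i) (0, 0, 1, -1) = -e1 ∧ (E3 i).1 = 0 := by
  decide +kernel

theorem exC (h : Fm j τ ρ) (i : Fin 3) {y y' : V} (hy : y.1 = 0 ∧ q y = 2 ∧ b y (E3 i) = 0)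
    (hy' : y'.1 = 0 ∧ q y' = 2 ∧ b y' (E3 i) = 0 ∧ b y y' = 0) : ∃ θ, Cy j (ρ e1) θ y y' (E3 i) := by
  obtain ⟨hq, k1, k2, k3, k4, k5⟩ := tab i y hy y' hy'
  have sN := sim_lin ⟨-1, by decide, hq⟩
  obtain ⟨θ, t⟩ := h.all _ sN (by rw [k1]; exact hy.2.1)
  refine ⟨θ, t.inj, fun g c n hn e => h.toF1.mem' sN t hn e c k1, fun x => ?_, ?_, ?_, ?_, hy'.1, k5⟩
  · have := t.cy x
    rwa [k1] at this
  · rw [t.w0, k2]
  · rw [map_mul, t.w1, t.w2, ← h.add, k3]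
  · rw [t.p12, k4, h.toF1.ρneg (by decide)]

theorem oth : ∀ (i : Fin 3) (y : V), y.1 = 0 ∧ q y = 2 ∧ b y (E3 i) = 0 → ∃ y' : V,
    y'.1 = 0 ∧ q y' = 2 ∧ b y' (E3 i) = 0 ∧ b y y' = 0 := by decide +kernel

theorem sn (h : Fm j τ ρ) {F : Subgroup G} (S : Sig j ρ F) {v : V} (hv : v.1 = 0) : Nm (j v) F := by
  have := h.toF1.jm.nm3 S.n2 S.n3 S.n4 v.2
  rwa [← hv] at this

theorem cm_of (hθ : Function.Injective θ) {x y : Sp} (e : θ x * θ y = θ y * θ x) : x * y = y * x :=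
  hθ (by rw [map_mul, map_mul, e])

theorem cm_map {x y : Sp} (e : x * y = y * x) : θ x * θ y = θ y * θ x := by rw [← map_mul, e, map_mul]

theorem nm_c {g x : G} (c : g * x = x * g) : Nm g (centralizer ({x} : Set G)) := fun _ hk =>
  H87.U6.mC.2 (H87.U6.cm_mul (H87.U6.cm_mul c (H87.U6.mC.1 hk)) (H87.U6.cm_inv c))

theorem part (h : Fm j τ ρ) {y y' c : V} (C : Cy j (ρ e1) θ y y' c) {F : Subgroup G} (S : Sig j ρ F)
    {k : G} (hk : k ∈ F) (e : k * j y = j y * k) : ∃ x ∈ O0, k = θ x := by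
  obtain ⟨x, rfl⟩ := C.mem k e _ S.cop (congrArg Subtype.val (pow_card_eq_one' (x := (⟨k, hk⟩ : F))))
  refine ⟨x, O0_max (F.comap θ) (S.cop.coprime_dvd_left (card_comap_dvd_of_injective F θ C.inj))
    (fun g hg => cm_of C.inj (by rw [C.p12]; exact S.c _ hg)) (H75.L7.Nm.comap θ ?_)
    (H75.L7.Nm.comap θ ?_) hk, rfl⟩
  · rw [C.w0]; exact sn h S C.y1
  · rw [C.w12]; exact sn h S C.c1

theorem pl (h : Fm j τ ρ) {k : G} (i : Fin 3) (c : ∀ i', i' ≠ i → k * j (E3 i') = j (E3 i') * k) {v : V}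
    (h1 : v.1 = 0) (h2 : b v (E3 i) = 0) : k * j v = j v * k := by
  obtain ⟨i1, i2, a1, a2, e⟩ := (by decide +kernel : ∀ (i : Fin 3) (v : V), v.1 = 0 → b v (E3 i) = 0 →
    ∃ i1 i2, i1 ≠ i ∧ i2 ≠ i ∧ ∃ k l : F3, v = k • E3 i1 + l • E3 i2) i v h1 h2
  exact h.toF1.cm2 v (c i1 a1) (c i2 a2) e

theorem cop2 {X : Subgroup G} (hX : IsPGroup 2 X) : (Nat.card X).Coprime 3 := by
  have : Fact (Nat.Prime 2) := ⟨Nat.prime_two⟩
  obtain ⟨k, hk⟩ := hX.exists_card_eq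
  rw [hk]
  exact Nat.Coprime.pow_left k (by decide)

theorem nmT (h : Fm j τ ρ) {v : V} (hv : b e1 v = 0) : Nm (j v) (T (zpowers (ρ e1))) :=
  (H75.L7.nm_zp (h.toF1.ρc (by decide) hv).symm).T

theorem nm_cen {g : G} {X : Subgroup G} (n : Nm g X) : Nm g (centralizer (X : Set G)) := fun z hz =>
  mem_centralizer_iff.2 fun x hx => by
    have := mem_centralizer_iff.1 hz _ (n.inv x hx)
    calc x * (g * z * g⁻¹) = g * (g⁻¹ * x * g⁻¹⁻¹ * z) * g⁻¹ := by group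
      _ = _ := by rw [this]; group

theorem nm_sup {g : G} {X Y : Subgroup G} (a : Nm g X) (c : Nm g Y) : Nm g (X ⊔ Y) := fun z hz => by
  have : X ⊔ Y ≤ (X ⊔ Y).comap (MulAut.conj g).toMonoidHom :=
    sup_le (fun x hx => mem_sup_left (a x hx)) fun x hx => mem_sup_right (c x hx)
  exact this hz

end QA0

open QA0

theorem sig_T (h : Fm j τ ρ) : Sig j ρ (T (zpowers (ρ e1))) :=
  ⟨cop2 (H75.L7.T_two _), fun _ hk => H75.L7.T_zp_comm (h.ρ2 _ (by decide)) hk, nmT h (by decide),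
    nmT h (by decide), nmT h (by decide)⟩

theorem sig_ZQ (h : Fm j τ ρ) : Sig j ρ (ZQ (ρ e1)) := by
  have n : ∀ v, b e1 v = 0 → Nm (j v) (ZQ (ρ e1)) := fun v hv => (nmT h hv).inf (nm_cen (nmT h hv))
  exact ⟨cop2 ((H75.L7.T_two _).to_le inf_le_left), fun k hk => (sig_T h).c k hk.1, n _ (by decide),
    n _ (by decide), n _ (by decide)⟩

theorem sig_sup (h : Fm j τ ρ) {F : Subgroup G} (S : Sig j ρ F) : Sig j ρ (T (zpowers (ρ e1)) ⊔ F) := by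
  have S0 := sig_T h
  refine ⟨(Nat.Coprime.mul_left S0.cop S.cop).coprime_dvd_left
    (H3.card_sup_dvd fun k hk => (H75.L7.nm_zp (S.c k hk)).T.mem), fun k hk => H87.U6.mC.1 ?_,
    nm_sup S0.n2 S.n2, nm_sup S0.n3 S.n3, nm_sup S0.n4 S.n4⟩
  have : T (zpowers (ρ e1)) ⊔ F ≤ centralizer {ρ e1} :=
    sup_le (fun x hx => H87.U6.mC.2 (S0.c x hx)) fun x hx => H87.U6.mC.2 (S.c x hx)
  exact this hk

theorem sig_o (h : Fm j τ ρ) {F : Subgroup G} (S : Sig j ρ F) {k : G} (hk : k ∈ F) (i : Fin 3) {y : V}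
    (hy : y.1 = 0 ∧ q y = 2 ∧ b y (E3 i) = 0) (c1 : k * j (E3 i) = j (E3 i) * k)
    (c2 : k * j y = j y * k) : k = 1 ∨ k = ρ e1 := by
  obtain ⟨y', hy'⟩ := oth i y hy
  obtain ⟨θ, C⟩ := exC h i hy hy'
  obtain ⟨x, hx, rfl⟩ := part h C S hk c2
  rcases o3 hx (cm_of C.inj (by rw [C.w12]; exact c1)) with rfl | rfl
  · exact Or.inl (map_one θ)
  · exact Or.inr C.p12

theorem sig_gen (h : Fm j τ ρ) {F B : Subgroup G} (S : Sig j ρ F) (hs : ρ e1 ∈ B)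
    (h1 : ∀ k ∈ F, ∀ i, (∀ i', i' ≠ i → k * j (E3 i') = j (E3 i') * k) → k ∈ B)
    (h2 : ∀ k ∈ F, ∀ u ∈ UU, (∀ v : V, v.1 = 0 → b u v = 0 → k * j v = j v * k) → k ∈ B) :
    F ≤ B := by
  refine gen27 S.cop (fun x => j (0, x)) (fun x y => by rw [← h.add, Prod.mk_add_mk (0 : F3), add_zero])
    (fun x e => congrArg Prod.snd (h.inj _ e)) (fun x => sn h S rfl) fun φ h0 k hk c => ?_
  have c' : ∀ v : V, v.1 = 0 → dot φ v.2 = 0 → k * j v = j v * k := fun v hv e => by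
    have := c v.2 e
    rwa [← hv] at this
  rcases (by decide +kernel : ∀ φ : X3, φ ≠ 0 →
      (∃ i, ∀ i', i' ≠ i → (E3 i').1 = 0 ∧ dot φ (E3 i').2 = 0) ∨
      (∃ i, ∃ y : V, (y.1 = 0 ∧ q y = 2 ∧ b y (E3 i) = 0) ∧ (E3 i).1 = 0 ∧ dot φ (E3 i).2 = 0 ∧
        dot φ y.2 = 0) ∨
      ∃ u ∈ UU, ∀ v : V, v.1 = 0 → b u v = 0 → dot φ v.2 = 0) φ h0 with ⟨i, e⟩ | ⟨i, y, hy, a1, a2, a3⟩ | ⟨u, hu, e⟩
  · exact h1 k hk i fun i' hi => c' _ (e i' hi).1 (e i' hi).2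
  · rcases sig_o h S hk i hy (c' _ a1 a2) (c' _ hy.1 a3) with rfl | rfl
    · exact one_mem _
    · exact hs
  · exact h2 k hk u hu fun v hv hb => c' v hv (e v hv hb)

theorem sig_four (h : Fm j τ ρ) {F : Subgroup G} (S : Sig j ρ F) {k : G} (hk : k ∈ F) {y : V}
    (hy : y.1 = 0 ∧ q y = 2) (c : k * j y = j y * k) : k ^ 4 = 1 := by
  obtain ⟨i, hi⟩ := (by decide +kernel : ∀ y : V, y.1 = 0 ∧ q y = 2 → ∃ i, b y (E3 i) = 0) y hy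
  obtain ⟨y', hy'⟩ := oth i y ⟨hy.1, hy.2, hi⟩
  obtain ⟨θ, C⟩ := exC h i ⟨hy.1, hy.2, hi⟩ hy'
  obtain ⟨x, hx, rfl⟩ := part h C S hk c
  rw [← map_pow, MD1.O0_four hx, map_one]

theorem sig_sq (h : Fm j τ ρ) {F : Subgroup G} (S : Sig j ρ F) {k : G} (hk : k ∈ F) (i : Fin 3)
    (c : ∀ i', i' ≠ i → k * j (E3 i') = j (E3 i') * k) : k * k = 1 := by
  obtain ⟨y, hy⟩ := (by decide +kernel : ∀ i, ∃ y : V, y.1 = 0 ∧ q y = 2 ∧ b y (E3 i) = 0) i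
  obtain ⟨y', hy'⟩ := oth i y hy
  obtain ⟨θ, C⟩ := exC h i hy hy'
  obtain ⟨x, hx, rfl⟩ := part h C S hk (pl h i c hy.1 hy.2.2)
  obtain ⟨-, pO, -, -, u2, -, -, a⟩ := o1
  obtain ⟨x0, e, e'⟩ := a x hx (cm_of C.inj (by rw [C.w0]; exact pl h i c hy'.1 hy'.2.2.1))
  have x2 : x0 * x0 = 1 := by
    rcases e' with rfl | rfl | rfl | rfl
    · exact one_mul 1
    · exact u2
    · rw [conj_mul, u2, mul_one, mul_inv_cancel]
    · calc _ = (ww 1 * ww 2)⁻¹ * (u0 * u0) * (ww 1 * ww 2) := by group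
        _ = 1 := by rw [u2, mul_one, inv_mul_cancel]
  rw [← map_mul, ← map_one θ]
  congr 1
  rcases e with rfl | rfl
  · exact x2
  · have p2 : P12 * P12 = 1 := sp_rel.2.2.2.2.2.2.2.1
    have := O0_cP _ hx
    calc P12 * x0 * (P12 * x0) = P12 * x0 * P12 * x0 := by group
      _ = 1 := by rw [this, ← mul_assoc, p2, one_mul, x2]

theorem sig_cu (h : Fm j τ ρ) {U F : Subgroup G} (S : Sig j ρ U) (S' : Sig j ρ F) (i : Fin 3) {x k : G}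
    (hx : x ∈ U) (cx : ∀ i', i' ≠ i → x * j (E3 i') = j (E3 i') * x) (hk : k ∈ F) {y : V}
    (hy : y.1 = 0 ∧ q y = 2 ∧ b y (E3 i) = 0) (c : k * j y = j y * k) : x * k = k * x := by
  obtain ⟨y', hy'⟩ := oth i y hy
  obtain ⟨θ, C⟩ := exC h i hy hy'
  obtain ⟨x0, h0, rfl⟩ := part h C S hx (pl h i cx hy.1 hy.2.2)
  obtain ⟨k0, h1, rfl⟩ := part h C S' hk c
  exact cm_map (O0_cent x0 h0 (cm_of C.inj (by rw [C.w0]; exact pl h i cx hy'.1 hy'.2.2.1)) k0 h1)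

theorem sig_r (h : Fm j τ ρ) {F : Subgroup G} (S : Sig j ρ F) (ab : ∀ k ∈ F, ∀ k' ∈ F, k * k' = k' * k)
    {u : V} (hu : u ∈ UU) {k : G} (hk : k ∈ F) (c : ∀ v : V, v.1 = 0 → b u v = 0 → k * j v = j v * k) :
    k = 1 ∨ k = ρ e1 := by
  obtain ⟨y, hy, y', hy', a1, a2, a3, a4⟩ := (by decide +kernel : ∀ u ∈ UU, ∃ y : V,
    (y.1 = 0 ∧ q y = 2 ∧ b y (E3 0) = 0) ∧ ∃ y' : V, (y'.1 = 0 ∧ q y' = 2 ∧ b y' (E3 0) = 0 ∧ b y y' = 0) ∧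
      b u y = 0 ∧ u.1 = 0 ∧ b u u = 0 ∧ u = y' + E3 0) u hu
  obtain ⟨θ, C⟩ := exC h 0 hy hy'
  obtain ⟨x, hx, rfl⟩ := part h C S hk (c y hy.1 a1)
  by_cases g1 : x = 1
  · exact Or.inl (by rw [g1, map_one])
  by_cases gP : x = P12
  · exact Or.inr (by rw [gP, C.p12])
  refine absurd (cm_of C.inj ?_) (o2 (Or.inl rfl) hx (cm_of C.inj ?_) g1 gP).2.1
  · refine ab _ hk _ ?_
    rw [map_mul, map_mul, map_inv, C.w0]
    exact sn h S C.y1 _ hk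
  · rw [map_mul θ (ww 0), C.w0, C.w12, ← h.add, ← a4]
    exact c u a2 a3

theorem sig_u (h : Fm j τ ρ) : ∃ (U : Subgroup G) (v : G), Sig j ρ U ∧ v ∈ U ∧ v ≠ 1 ∧
    v * j e3 = j e3 * v ∧ v * j e4 = j e4 * v ∧ v * (j e2 * v * (j e2)⁻¹) * ((j e2)⁻¹ * v * j e2) = 1 ∧
    ∀ F, Sig j ρ F → ∀ k ∈ F, k * j e3 = j e3 * k → k * j e4 = j e4 * k →
      ∃ k', (k = k' ∨ k = ρ e1 * k') ∧
        (k' = 1 ∨ k' = v ∨ k' = j e2 * v * (j e2)⁻¹ ∨ k' = (j e2)⁻¹ * v * j e2) := by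
  obtain ⟨θ, C⟩ := exC h 0 (y := (0, 0, 1, 1)) (y' := (0, 0, 1, -1)) (by decide) (by decide)
  obtain ⟨uO, -, uw, u1, -, un, -, a⟩ := o1
  have w12 : θ (ww 1 * ww 2) = j e2 := C.w12
  have cU : ∀ k ∈ (O0 ⊓ centralizer {ww 0}).map θ, ∀ w : V,
      (∃ m l : F3, w = m • ((0, 0, 1, 1) : V) + l • ((0, 0, 1, -1) : V)) → k * j w = j w * k := by
    rintro _ ⟨x, hx, rfl⟩ w e
    exact h.toF1.cm2 w (C.cy x) (by rw [← C.w0]; exact cm_map (H87.U6.mC.1 hx.2)) e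
  have vU : θ u0 ∈ (O0 ⊓ centralizer {ww 0}).map θ := ⟨u0, ⟨uO, H87.U6.mC.2 uw⟩, rfl⟩
  refine ⟨(O0 ⊓ centralizer {ww 0}).map θ, θ u0, ⟨cop2 ((O0_two.to_le inf_le_left).map θ), ?_, ?_,
    H75.L7.Nm.of_comm fun k hk => (cU k hk _ (by decide)).symm,
    H75.L7.Nm.of_comm fun k hk => (cU k hk _ (by decide)).symm⟩, vU,
    fun e => u1 (C.inj (e.trans (map_one θ).symm)), cU _ vU _ (by decide), cU _ vU _ (by decide), ?_,
    fun F S k hk c3 c4 => ?_⟩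
  · rintro _ ⟨x, hx, rfl⟩
    rw [← C.p12]
    exact cm_map (O0_cP x hx.1)
  · rw [← w12]
    refine H75.L7.Nm.map θ (H75.L7.Nm.inf (O0_norm _ (cm_of C.inj ?_)) (nm_c (cm_of C.inj ?_)))
    · rw [w12, C.p12]; exact (h.toF1.ρc (by decide) (by decide)).symm
    · rw [w12, C.w0]; exact h.toF1.jc _ _
  · have := congrArg θ un
    simpa only [map_mul θ _ u0, map_mul θ u0, map_mul θ (_ * u0), map_mul θ (u0 * _), map_inv, w12,
      map_one] using this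
  · obtain ⟨x, hx, rfl⟩ := part h C S hk (h.toF1.cm2 _ c3 c4 (by decide))
    obtain ⟨x0, e, e'⟩ := a x hx (cm_of C.inj (by rw [C.w0]; exact h.toF1.cm2 _ c3 c4 (by decide)))
    refine ⟨θ x0, e.imp (congrArg θ) fun e => by rw [e, map_mul, C.p12], ?_⟩
    rw [← w12, ← map_inv, ← map_mul, ← map_mul, ← map_mul, ← map_mul, ← map_one θ]
    exact e'.imp (congrArg θ) (Or.imp (congrArg θ) (Or.imp (congrArg θ) (congrArg θ)))

end H29.S6
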