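import Cfsg.Agent.Lib.S6.QA0

/-! S6, package QA1 (see blueprint/S6/README.md). -/

set_option autoImplicit false
set_option linter.unusedSectionVars false

namespace H29.S6

open Subgroup Cfsg H29.F42
open H87.U6 (F3 V lin)
open H75.L7 (Nm T Ch2 Rk3)

variable {G : Type*} [Group G] [Finite G] {j ρ : V → G} {τ : G} {θ θ' : Sp →* G} {D : Subgroup G}

namespace QA1

open H87.U6 (cm_cj cm_mul cm_inv cm_pow mC)

theorem sigN {F : Subgroup G} (S : Sig j ρ F) (i : Fin 3) : Nm (j (E3 i)) F := by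
  fin_cases i
  exacts [S.n2, S.n3, S.n4]

theorem nm_c {g x : G} (e : g * x = x * g) : Nm g (centralizer {x}) := fun _ hk =>
  mC.2 (cm_mul (cm_mul e (mC.1 hk)) (cm_inv e))

theorem nm_cs {g : G} {X : Subgroup G} (h : Nm g X) : Nm g (centralizer (X : Set G)) :=
  fun c hc => mem_centralizer_iff.2 fun x hx => by
    have h1 := mem_centralizer_iff.1 hc _ (h.inv x hx)
    rw [inv_inv] at h1
    calc x * (g * c * g⁻¹) = g * (g⁻¹ * x * g * c) * g⁻¹ := by group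
      _ = _ := by rw [h1]; group

/-- the norm with respect to `w` -/
def nr (w a : G) : G := a * (w * a * w⁻¹) * (w⁻¹ * a * w)

theorem nr_df (w a : G) : nr w a = a * (w * a * w⁻¹) * (w⁻¹ * a * w) := rfl

theorem nr_s {w a s : G} (s2 : s * s = 1) (ws : w * s = s * w) (as : a * s = s * a) :
    nr w (s * a) = s * nr w a := by
  have h1 : w * (s * a) * w⁻¹ = s * (w * a * w⁻¹) := by rw [← mul_assoc, ws]; group
  have h2 : w⁻¹ * (s * a) * w = s * (w⁻¹ * a * w) := by rw [← mul_assoc, cm_inv ws]; group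
  have h3 : w * a * w⁻¹ * s = s * (w * a * w⁻¹) := cm_mul (cm_mul ws as) (cm_inv ws)
  rw [nr_df, nr_df, h1, h2]
  calc _ = s * (a * s) * (w * a * w⁻¹ * s) * (w⁻¹ * a * w) := by group
    _ = s * (s * a) * (s * (w * a * w⁻¹)) * (w⁻¹ * a * w) := by rw [as, h3]
    _ = s * s * (a * s) * (w * a * w⁻¹) * (w⁻¹ * a * w) := by group
    _ = _ := by rw [s2, as]; group

theorem sT (h : Fm j τ ρ) : ρ e1 ∈ T (zpowers (ρ e1)) :=
  H75.L7.self_le_T (H75.L7.two_zp h.toF1.rel.s2) (mem_zpowers _)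

end QA1

open QA1 H87.U6 in
theorem qa_u (h : Fm j τ ρ) {U : Subgroup G} (S : Sig j ρ U) (i : Fin 3) {x : G} (hx : x ∈ U)
    (cx : ∀ i', i' ≠ i → x * j (E3 i') = j (E3 i') * x) : x ∈ ZQ (ρ e1) := by
  have f := h.toF1
  have r := f.rel
  have key : T (zpowers (ρ e1)) ≤ centralizer {x} := by
    refine sig_gen h (sig_T h) (mC.2 (S.c x hx).symm) (fun k hk i0 ck => mC.2 ?_)
      fun k hk u hu ck => mC.2 ?_
    · by_cases e : i0 = i
      · subst e
        obtain ⟨a, c, ha, hc, hy⟩ := (by decide : ∀ i : Fin 3, ∃ a c, a ≠ i ∧ c ≠ i ∧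
          (E3 a + E3 c).1 = 0 ∧ q (E3 a + E3 c) = 2 ∧ b (E3 a + E3 c) (E3 i) = 0) i0
        refine (sig_cu h S (sig_T h) i0 hx cx hk hy ?_).symm
        rw [f.add]
        exact (cm_mul (ck a ha).symm (ck c hc).symm).symm
      · obtain ⟨m, m1, m2, y1, y2⟩ := (by decide : ∀ i i0 : Fin 3, i0 ≠ i → ∃ m, m ≠ i ∧ m ≠ i0 ∧
          ((E3 i + E3 i0).1 = 0 ∧ q (E3 i + E3 i0) = 2 ∧ b (E3 i + E3 i0) (E3 m) = 0) ∧
          ((E3 i + -E3 i0).1 = 0 ∧ q (E3 i + -E3 i0) = 2 ∧ b (E3 i + -E3 i0) (E3 m) = 0)) i i0 e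
        have S' := sig_sup h S
        refine (bil (K := (T (zpowers (ρ e1)) ⊔ U) ⊓ centralizer {j (E3 m)})
          (S'.cop.coprime_dvd_left (card_dvd_of_le inf_le_left)) r.s2
          ⟨mem_sup_left (sT h), mC.2 (r.ws m).symm⟩ (fun k hk => S'.c k hk.1) (r.ws i) (r.ws i0)
          (f.j3 _) (f.j3 _) (f.jc _ _) ((sigN S' i).inf (nm_c (f.jc _ _)))
          ((sigN S' i0).inf (nm_c (f.jc _ _)))
          (fun k hk c => sig_o h S' hk.1 m y1 (mC.1 hk.2) (by rwa [f.add]))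
          (fun k hk c => sig_o h S' hk.1 m y2 (mC.1 hk.2) (by rwa [f.add, f.jneg]))
          x ⟨mem_sup_right hx, mC.2 (cx m m1)⟩ k ⟨mem_sup_left hk, mC.2 (ck m m2)⟩ (cx i0 e)
          (ck i (Ne.symm e))).symm
    · obtain ⟨y, hy, hu'⟩ := (by decide +kernel : ∀ u ∈ UU, ∀ i : Fin 3, ∃ y : V,
        (y.1 = 0 ∧ q y = 2 ∧ b y (E3 i) = 0) ∧ b u y = 0) u hu i
      exact (sig_cu h S (sig_T h) i hx cx hk hy (ck y hy.1 hu')).symm
  exact ⟨h.ch.mem (H75.L7.two_zp r.s2) (fun e => r.s1 (zpowers_eq_bot.1 e))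
    fun t ht => (mC.1 (key ht)).symm, mem_centralizer_iff.2 fun t ht => mC.1 (key ht)⟩

open QA1 H87.U6 in
theorem qa_tri (h : Fm j τ ρ) : Tri (ρ e1) (ZQ (ρ e1)) (fun i => j (E3 i)) (fun i => ρ (E3 i))
    (ρ (0, 1, -1, 0)) (ρ (0, 0, 1, -1)) := by
  have f := h.toF1
  have r := f.rel
  have S := sig_ZQ h
  have sA : ρ e1 ∈ ZQ (ρ e1) :=
    ⟨sT h, mem_centralizer_iff.2 fun t ht => H75.L7.T_zp_comm r.s2 ht⟩
  have ab : ∀ a ∈ ZQ (ρ e1), ∀ a' ∈ ZQ (ρ e1), a * a' = a' * a := fun a ha a' ha' =>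
    mem_centralizer_iff.1 ha'.2 a ha.1
  refine ⟨r, sA, ab, fun a ha => ?_, fun g c => ?_, ?_, ?_⟩
  · let B : Subgroup G := sgOf
      { carrier := {a | a ∈ ZQ (ρ e1) ∧ a * a = 1}
        one_mem' := ⟨one_mem _, mul_one _⟩
        mul_mem' := fun {a a'} ha ha' => ⟨mul_mem ha.1 ha'.1, by
          rw [mul_assoc, ← mul_assoc a', ← ab a ha.1 a' ha'.1, mul_assoc, ha'.2, mul_one, ha.2]⟩ }
    refine (sig_gen (B := B) h S ⟨sA, r.s2⟩ (fun k hk i c => ⟨hk, sig_sq h S hk i c⟩)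
      (fun k hk u hu c => ⟨hk, ?_⟩) ha).2
    rcases sig_r h S ab hu hk c with rfl | rfl
    exacts [mul_one _, r.s2]
  · have := (H75.L7.nm_zp c).T
    exact this.inf (nm_cs this)
  · have hs : ρ e1 ∈ closure ({ρ e1} ∪ VV (ZQ (ρ e1)) (fun i => j (E3 i)) 0 ∪
        VV (ZQ (ρ e1)) (fun i => j (E3 i)) 1 ∪ VV (ZQ (ρ e1)) (fun i => j (E3 i)) 2) :=
      subset_closure (Or.inl (Or.inl (Or.inl rfl)))
    refine sig_gen h S hs (fun k hk i c => ?_) fun k hk u hu c => ?_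
    · have hV : ∀ a ∈ VV (ZQ (ρ e1)) (fun i => j (E3 i)) i, a ∈ closure ({ρ e1} ∪
          VV (ZQ (ρ e1)) (fun i => j (E3 i)) 0 ∪ VV (ZQ (ρ e1)) (fun i => j (E3 i)) 1 ∪
          VV (ZQ (ρ e1)) (fun i => j (E3 i)) 2) := fun a ha => subset_closure (by
        fin_cases i
        exacts [Or.inl (Or.inl (Or.inr ha)), Or.inl (Or.inr ha), Or.inr ha])
      have n1 := sigN S i
      have k1 := n1 k hk
      have k2 : (j (E3 i))⁻¹ * k * j (E3 i) ∈ ZQ (ρ e1) := by simpa only [inv_inv] using n1.inv k hk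
      have hν : nr (j (E3 i)) k ∈ ZQ (ρ e1) := mul_mem (mul_mem hk k1) k2
      have c1 : nr (j (E3 i)) k * j (E3 i) = j (E3 i) * nr (j (E3 i)) k := by
        have w3 : j (E3 i) * j (E3 i) = (j (E3 i))⁻¹ :=
          eq_inv_of_mul_eq_one_left (by rw [← f.j3 (E3 i), pow_succ, pow_two])
        have w4 : (j (E3 i))⁻¹ * (j (E3 i))⁻¹ = j (E3 i) := by rw [← mul_inv_rev, w3, inv_inv]
        refine (cm_cj.2 ?_).symm
        calc _ = j (E3 i) * k * (j (E3 i))⁻¹ *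
              (j (E3 i) * j (E3 i) * k * ((j (E3 i))⁻¹ * (j (E3 i))⁻¹)) * k := by rw [nr_df]; group
          _ = _ := by rw [w3, w4, ab _ (mul_mem k1 k2) k hk, nr_df, mul_assoc k]
      have c2 : ∀ i', i' ≠ i → nr (j (E3 i)) k * j (E3 i') = j (E3 i') * nr (j (E3 i)) k :=
        fun i' e => cm_mul (cm_mul (c i' e) (cm_mul (cm_mul (f.jc _ _) (c i' e)) (cm_inv (f.jc _ _))))
          (cm_mul (cm_mul (cm_inv (f.jc _ _)) (c i' e)) (f.jc _ _))
      obtain ⟨a, a', ha, ha', hy⟩ := (by decide : ∀ i : Fin 3, ∃ a c, a ≠ i ∧ c ≠ i ∧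
        (E3 a + E3 c).1 = 0 ∧ q (E3 a + E3 c) = 2 ∧ b (E3 a + E3 c) (E3 i) = 0) i
      rcases sig_o h S hν i hy c1 (by
        rw [f.add]; exact (cm_mul (c2 a ha).symm (c2 a' ha').symm).symm) with e | e
      · exact hV k ⟨hk, c, e⟩
      · have := hV (ρ e1 * k) ⟨mul_mem sA hk, fun i' e => cm_mul (r.ws i').symm (c i' e),
          (nr_s r.s2 (r.ws i) (S.c k hk)).trans (by rw [e, r.s2])⟩
        have := mul_mem hs this
        rwa [← mul_assoc, r.s2, one_mul] at this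
    · rcases sig_r h S ab hu hk c with rfl | rfl
      exacts [one_mem _, hs]
  · obtain ⟨U, v, SU, hv, v1, v3, v4, vn, hall⟩ := sig_u h
    have cv : ∀ i', i' ≠ 0 → v * j (E3 i') = j (E3 i') * v := fun i' e => by
      fin_cases i'
      exacts [absurd rfl e, v3, v4]
    refine ⟨v, v1, ⟨qa_u h SU 0 hv cv, cv, vn⟩, fun a ha => ?_⟩
    obtain ⟨k, e | e, hk⟩ := hall _ S a ha.1 (ha.2.1 1 (by decide)) (ha.2.1 2 (by decide))
    · exact e ▸ hk
    · exfalso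
      have k1 : nr (j e2) k = 1 := by
        rcases hk with rfl | rfl | rfl | rfl
        · rw [nr_df]; group
        · exact vn
        · rw [show nr (j e2) (j e2 * v * (j e2)⁻¹) = j e2 * nr (j e2) v * (j e2)⁻¹ by
            rw [nr_df, nr_df]; group, nr_df, vn]
          group
        · rw [show nr (j e2) ((j e2)⁻¹ * v * j e2) = (j e2)⁻¹ * nr (j e2) v * j e2 by
            rw [nr_df, nr_df]; group, nr_df, vn]
          group
      have k2 : k * ρ e1 = ρ e1 * k := by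
        have := S.c a ha.1
        rw [e, mul_assoc] at this
        exact mul_left_cancel this
      have k3 : nr (j e2) a = 1 := ha.2.2
      rw [e, nr_s (w := j e2) r.s2 (r.ws 0) k2, k1, mul_one] at k3
      exact r.s1 k3

end H29.S6
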