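import Cfsg.Agent.Lib.S6.QA1
import Cfsg.Agent.Lib.S6.CH

/-! S6, package QA2 (see blueprint/S6/README.md). -/

set_option autoImplicit false
set_option linter.unusedSectionVars false

namespace H29.S6

open Subgroup Cfsg H29.F42
open H87.U6 (F3 V lin)
open H75.L7 (Nm T Ch2 Rk3)

variable {G : Type*} [Group G] [Finite G] {j ρ : V → G} {τ : G} {θ θ' : Sp →* G} {D : Subgroup G}

namespace QA2

theorem exI (h : Jm j) : ∃ I : Subgroup G, IsPGroup 3 I ∧ ∀ g, g ∈ I ↔ ∃ y : X3, g = j (0, y) := by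
  refine ⟨sgOf ⟨⟨{g | ∃ y : X3, g = j (0, y)}, ?_⟩, 0, h.j0.symm⟩, fun g => ?_, fun _ => Iff.rfl⟩
  · rintro _ _ ⟨y, rfl⟩ ⟨y', rfl⟩
    exact ⟨y + y', by rw [← h.add]; simp⟩
  · obtain ⟨y, e⟩ : ∃ y : X3, g.1 = j (0, y) := g.2
    exact ⟨1, Subtype.ext (by rw [pow_one, SubgroupClass.coe_pow, e]; exact h.j3 _)⟩

theorem cen3 {K I : Subgroup G} (hI : IsPGroup 3 I) (n : ∀ a ∈ I, Nm a K) (d : 3 ∣ Nat.card K) :
    ∃ x ∈ K, orderOf x = 3 ∧ ∀ a ∈ I, a * x = x * a := by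
  haveI := Fact.mk Nat.prime_three
  obtain ⟨y, hy, o⟩ := H1.exists_mem_orderOf_eq_prime Nat.prime_three d
  obtain ⟨S, k, hk, h1, h2⟩ := H4.exists_conj_le_common_sylow (K := normalizer (K : Set G)) hI
    (fun a ha => (n a ha).mem) (B := zpowers y) (IsPGroup.of_card (n := 1) (by rw [Nat.card_zpowers, o]; rfl))
    ((zpowers_le.2 hy).trans le_normalizer)
  have hW : IsPGroup 3 (K ⊓ S : Subgroup G) := S.2.to_inf_right
  obtain ⟨x, hx, o'⟩ := H69.exists_orderOf_eq_prime hW.to_inf_left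
    (H69.inf_centralizer_ne_bot hW hI (fun a ha => ((n a ha).inf (Nm.of_mem (h1 ha))).mem) fun e => by
      have : k * y * k⁻¹ ∈ K ⊓ (S : Subgroup G) := ⟨H87.U6.cjn hk hy, h2 y (mem_zpowers y)⟩
      rw [e, mem_bot, conj_eq_one_iff] at this
      rw [this, orderOf_one] at o
      omega)
  exact ⟨x, hx.1.1, o', hx.2⟩

theorem exK {s : G} (s2 : s * s = 1) (A : Subgroup G) : ∃ K : Subgroup G, ∀ g, g ∈ K ↔
    g * s = s * g ∧ ∀ a ∈ A, g * a * g⁻¹ = a ∨ g * a * g⁻¹ = a * s := by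
  refine ⟨sgOf ⟨⟨{g | g * s = s * g ∧ ∀ a ∈ A, g * a * g⁻¹ = a ∨ g * a * g⁻¹ = a * s}, ?_⟩,
    by rw [one_mul, mul_one], fun a _ => Or.inl (by group)⟩, fun _ => Iff.rfl⟩
  intro g k hg hk
  refine ⟨H87.U6.cm_mul hg.1 hk.1, fun a ha => ?_⟩
  rw [show g * k * a * (g * k)⁻¹ = g * (k * a * k⁻¹) * g⁻¹ by group]
  rcases hk.2 a ha with e | e <;> rw [e]
  · exact hg.2 a ha
  · rw [← conj_mul, H87.U6.cm_cj.1 hg.1]
    rcases hg.2 a ha with e | e <;> rw [e]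
    · exact Or.inr rfl
    · exact Or.inl (by rw [mul_assoc, s2, mul_one])

end QA2

theorem qa_cz (h : Fm j τ ρ) {F : Subgroup G} (S : Sig j ρ F) :
    ∀ k ∈ F, ∀ a ∈ ZQ (ρ e1), k * a = a * k := fun k hk a ha => by
  have tr := qa_tri h
  refine (mem_centralizer_iff.1 (sig_gen h (B := centralizer (ZQ (ρ e1) : Set G)) S
    (mem_centralizer_iff.2 fun a ha => tr.comm a ha _ tr.sA)
    (fun k hk i c => mem_centralizer_iff.2 fun a ha => tr.comm a ha _ (qa_u h S i hk c))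
    (fun k hk u hu c => mem_centralizer_iff.2 fun a ha => ?_) hk) a ha).symm
  have v : ∀ i, ∀ x ∈ VV (ZQ (ρ e1)) (fun i => j (E3 i)) i, x * k = k * x := fun i x hx => by
    obtain ⟨y, hy, e⟩ := (by decide +kernel : ∀ u ∈ UU, ∀ i, ∃ y : V,
      (y.1 = 0 ∧ q y = 2 ∧ b y (E3 i) = 0) ∧ b u y = 0) u hu i
    exact sig_cu h (sig_ZQ h) S i hx.1 hx.2.1 hk hy (c y hy.1 e)
  refine (H75.L7.comm_closure (g := k) ?_ a (tr.gen ha)).symm
  rintro x (((hx | hx) | hx) | hx)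
  · rw [hx]; exact S.c k hk
  · exact (v 0 x hx).symm
  · exact (v 1 x hx).symm
  · exact (v 2 x hx).symm

theorem qa_sig2 (h : Fm j τ ρ) {F : Subgroup G} (S : Sig j ρ F) (c : ∀ k ∈ F, k * j e2 = j e2 * k) :
    F ≤ ZQ (ρ e1) := by
  have tr := qa_tri h
  refine sig_gen h S tr.sA (fun k hk i c => qa_u h S i hk c) fun k hk u hu c' => ?_
  obtain ⟨y, hy, e⟩ := (by decide +kernel : ∀ u ∈ UU, ∃ y : V,
    (y.1 = 0 ∧ q y = 2 ∧ b y (E3 0) = 0) ∧ b u y = 0) u hu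
  rcases sig_o h S hk 0 hy (c k hk) (c' y hy.1 e) with e | e <;> rw [e]
  · exact one_mem _
  · exact tr.sA

theorem qa_sga (h : Fm j τ ρ) {F F' : Subgroup G} (S : Sig j ρ F) (S' : Sig j ρ F')
    (c : ∀ k ∈ F', k * j e2 = j e2 * k) {d : G} (hd : d * ρ e1 = ρ e1 * d) :
    ∀ g ∈ F, ∀ k ∈ F', g * (d * k * d⁻¹) = d * k * d⁻¹ * g := fun g hg k hk =>
  qa_cz h S g hg _ ((qa_tri h).nm d hd k (qa_sig2 h S' c hk))

open QA2 in
theorem qa_ker (h : Fm j τ ρ) {g : G} (c : g * ρ e1 = ρ e1 * g)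
    (t : ∀ a ∈ ZQ (ρ e1), g * a * g⁻¹ = a ∨ g * a * g⁻¹ = a * ρ e1) : g ∈ T (zpowers (ρ e1)) := by
  have tr := qa_tri h
  have jm := h.toF1.jm
  obtain ⟨K, hK⟩ := exK tr.s2 (ZQ (ρ e1))
  obtain ⟨I, hI, mI⟩ := exI jm
  have nK : ∀ d, d * ρ e1 = ρ e1 * d → Nm d K := fun d hd k hk => by
    refine (hK _).2 ⟨H87.U6.cm_mul (H87.U6.cm_mul hd ((hK k).1 hk).1) (H87.U6.cm_inv hd), fun a ha => ?_⟩
    rw [show d * k * d⁻¹ * a * (d * k * d⁻¹)⁻¹ = d * (k * (d⁻¹ * a * d⁻¹⁻¹) * k⁻¹) * d⁻¹ by group]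
    rcases ((hK k).1 hk).2 _ (tr.nm _ (H87.U6.cm_inv hd) a ha) with e | e <;> rw [e]
    · exact Or.inl (by group)
    · exact Or.inr (by rw [← conj_mul, H87.U6.cm_cj.1 hd]; group)
  have Is : ∀ y : X3, j (0, y) * ρ e1 = ρ e1 * j (0, y) := fun y =>
    (h.toF1.ρc (by decide) ((by decide +kernel : ∀ y : X3, b e1 (0, y) = 0) y)).symm
  have nI : ∀ a ∈ I, Nm a K := fun a ha => by
    obtain ⟨y, rfl⟩ := (mI a).1 ha
    exact nK _ (Is y)
  have IK : ∀ y : X3, j (0, y) ∈ K → y = 0 := fun y hy => by_contra fun y0 => by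
    obtain ⟨i, i1, i2, n1, n2, z, hz, e⟩ := (by decide +kernel : ∀ y : X3, y ≠ 0 →
      ∃ i i1 i2 : Fin 3, i1 ≠ i ∧ i2 ≠ i ∧ ∃ z : V, (∃ k l : F3, z = k • E3 i1 + l • E3 i2) ∧
        (((0, y) : V) = E3 i + z ∨ -((0, y) : V) = E3 i + z)) y y0
    obtain ⟨a, ha, m1, m2⟩ := tr.ntr i
    have m : j (E3 i) * j z ∈ K := by
      rw [← jm.add]
      rcases e with e | e <;> rw [← e]
      · exact hy
      · rw [jm.jneg]; exact inv_mem hy
    have := ((hK _).1 m).2 a ha.1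
    rw [show j (E3 i) * j z * a * (j (E3 i) * j z)⁻¹ = j (E3 i) * (j z * a * (j z)⁻¹) * (j (E3 i))⁻¹ by group,
      H87.U6.cm_cj.1 (jm.cm2 z (ha.2.1 i1 n1) (ha.2.1 i2 n2) hz).symm] at this
    exact this.elim m1 m2
  have cop : (Nat.card K).Coprime 3 := by
    refine ((Nat.Prime.coprime_iff_not_dvd Nat.prime_three).2 fun d => ?_).symm
    obtain ⟨x, hx, o, cx⟩ := cen3 hI nI d
    have x3 : x ^ 3 = 1 := o ▸ pow_orderOf_eq_one x
    have cy : ∀ (y : X3) (n : ℕ), x ^ n * j (0, y) = j (0, y) * x ^ n := fun y n =>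
      H87.U6.cm_pow (cx _ ((mI _).2 ⟨y, rfl⟩)).symm n
    have jm' : Jm fun v : V => x ^ v.1.val * j (0, v.2) := by
      refine ⟨fun u v => ?_, fun v e => ?_⟩
      · rw [Prod.fst_add, H87.U6.pw_add x3, show ((0, (u + v).2) : V) = (0, u.2) + (0, v.2) by simp, jm.add]
        calc _ = x ^ u.1.val * (x ^ v.1.val * j (0, u.2)) * j (0, v.2) := by group
          _ = _ := by rw [cy]; group
      · have e2 := IK v.2 (by rw [eq_inv_of_mul_eq_one_right e]; exact inv_mem (pow_mem hx _))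
        rw [e2, show ((0, 0) : V) = 0 from rfl, jm.j0, mul_one] at e
        have d := orderOf_dvd_of_pow_eq_one e
        rw [o] at d
        exact Prod.ext ((by decide : ∀ k : F3, 3 ∣ k.val → k = 0) _ d) e2
    exact tr.s1 (zpowers_eq_bot.1 (jm'.rk h.rk (H75.L7.two_zp tr.s2) fun v =>
      H75.L7.nm_zp (H87.U6.cm_mul (H87.U6.cm_pow ((hK x).1 hx).1 _) (Is _))))
  have K2 : IsPGroup 2 K := by
    refine IsPGroup.of_card (Nat.eq_prime_pow_of_unique_prime_dvd Nat.card_pos.ne' fun {p} hp d => ?_)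
    by_contra p2
    haveI := Fact.mk hp
    obtain ⟨P, hP, P0, Pp, nP⟩ := inv_syl cop hI nI d
    have S : Sig j ρ P := ⟨cop.coprime_dvd_left (card_dvd_of_le hP), fun k hk => ((hK k).1 (hP hk)).1,
      nP _ ((mI _).2 ⟨_, rfl⟩), nP _ ((mI _).2 ⟨_, rfl⟩), nP _ ((mI _).2 ⟨_, rfl⟩)⟩
    have tv : ∀ k ∈ P, ∀ m, k ^ 2 ^ m = 1 → k = 1 := fun k hk m e => by
      obtain ⟨n, hn⟩ := Pp ⟨k, hk⟩
      exact H75.L7.eq_one_of_two_odd e (hp.odd_of_ne_two p2).pow (congrArg Subtype.val hn)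
    have le := sig_gen h (B := zpowers (ρ e1)) S (mem_zpowers _)
      (fun k hk i c => by rw [tv k hk 1 (by rw [pow_one, sq]; exact sig_sq h S hk i c)]; exact one_mem _)
      fun k hk u hu c => by
        obtain ⟨y, hy, e⟩ := (by decide +kernel : ∀ u ∈ UU, ∃ y : V,
          (y.1 = 0 ∧ q y = 2) ∧ b u y = 0) u hu
        rw [tv k hk 2 (sig_four h S hk hy (c y hy.1 e))]
        exact one_mem _
    refine P0 (eq_bot_iff.2 fun k hk => mem_bot.2 ?_)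
    obtain ⟨m, e⟩ := H75.L7.two_pow (H75.L7.two_zp tr.s2) (le hk)
    exact tv k hk m e
  exact H75.L7.le_T K2 (fun y hy => H75.L7.nm_zp ((hK y).1 hy).1)
    (fun d hd => nK d (H75.L7.comm_of_nm_zp tr.s2 hd)) ((hK g).2 ⟨c, t⟩)

theorem qa_no5 (h : Fm j τ ρ) {g : G} (c : g * ρ e1 = ρ e1 * g)
    (c' : g * (j e3 * j e4) = j e3 * j e4 * g) (e : g ^ 5 = 1) : g = 1 := by
  have hN : Sim (lin (0, 0, 1, 1) (0, 0, 1, -1) (-1, 1, 0, 0) (1, 1, 0, 0)) :=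
    sim_lin ⟨-1, by decide, by decide +kernel⟩
  obtain ⟨θ, s⟩ := h.all _ hN (by decide +kernel)
  rw [← h.add] at c'
  obtain ⟨x, rfl⟩ := h.toF1.mem' hN s (by decide) e c' (by decide +kernel)
  have p : θ P12 = ρ e1 := s.p12.trans (congrArg ρ (by decide +kernel))
  rw [← p, ← map_mul, ← map_mul] at c
  rw [P12_35 x (s.inj c) (s.inj (by rw [map_pow, map_one, show 35 = 5 * 7 from rfl, pow_mul, e, one_pow])),
    map_one]

end H29.S6
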