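import Cfsg.Agent.Lib.S6.Defs
import Cfsg.Agent.Lib.LocStruct.SylowIn

/-! S6, package S8a (see blueprint/S6/README.md). -/

set_option autoImplicit false
set_option linter.unusedSectionVars false

namespace H29.S6

open Subgroup Cfsg H29.F42
open H87.U6 (F3 V lin)
open H75.L7 (Nm T Ch2 Rk3)

variable {G : Type*} [Group G] [Finite G] {j ρ : V → G} {τ : G} {θ θ' : Sp →* G} {D : Subgroup G}

open Matrix

theorem ac8_mul (g h : Sp8) (x : W8) : ac8 (g * h) x = ac8 g (ac8 h x) :=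
  (mulVec_mulVec x g.1 h.1).symm
theorem ac8_one (x : W8) : ac8 1 x = x := one_mulVec x
theorem ac8_add (g : Sp8) (x y : W8) : ac8 g (x + y) = ac8 g x + ac8 g y := mulVec_add g.1 x y
theorem ac8_ext {g h : Sp8} (e : ∀ x, ac8 g x = ac8 h x) : g = h :=
  Subtype.ext (Matrix.ext_of_mulVec_single fun _ => e _)

theorem S8a.om_J (x y : W8) : om8 x y = x ⬝ᵥ (J (Fin 4) (ZMod 2) *ᵥ y) := by
  have : J (Fin 4) (ZMod 2) *ᵥ y = fun a => y a.swap := by
    ext a
    rcases a with i | i <;>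
      simp [J, mulVec, dotProduct, Fintype.sum_sum_type, Matrix.one_apply, CharTwo.neg_eq]
  rw [this]
  rfl

theorem ac8_om (g : Sp8) (x y : W8) : om8 (ac8 g x) (ac8 g y) = om8 x y := by
  have h := SymplecticGroup.mem_iff'.1 g.2
  rw [S8a.om_J, S8a.om_J, ac8, ac8, mulVec_mulVec, dotProduct_mulVec, vecMul_mulVec,
    ← dotProduct_mulVec, ← Matrix.mul_assoc, h]

theorem ac8_tv (w x : W8) : ac8 (tv8 w) x = x + om8 x w • w := by
  ext a
  have : ∑ c, w a * w c.swap * x c = om8 x w * w a := by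
    rw [om8, Finset.sum_mul]
    exact Finset.sum_congr rfl fun c _ => by ring
  simp only [ac8, tv8, tvM8, mulVec, dotProduct, add_mul, Finset.sum_add_distrib, this, ite_mul, one_mul,
    zero_mul, Finset.sum_ite_eq, Finset.mem_univ, if_true, Pi.add_apply, Pi.smul_apply, smul_eq_mul]

namespace S8a

theorem ac_smul (g : Sp8) (c : ZMod 2) (x : W8) : ac8 g (c • x) = c • ac8 g x := mulVec_smul g.1 c x
theorem ac_zero (g : Sp8) : ac8 g 0 = 0 := mulVec_zero g.1
theorem ac_inv (g : Sp8) (x : W8) : ac8 g⁻¹ (ac8 g x) = x := by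
  rw [← ac8_mul, inv_mul_cancel, ac8_one]
theorem ac_inv' (g : Sp8) (x : W8) : ac8 g (ac8 g⁻¹ x) = x := by
  rw [← ac8_mul, mul_inv_cancel, ac8_one]
theorem om_inv (g : Sp8) (x y : W8) : om8 (ac8 g⁻¹ x) y = om8 x (ac8 g y) := by
  rw [← ac8_om g, ac_inv']
theorem aa (x : W8) : x + x = 0 := CharTwo.add_self_eq_zero x
theorem aa' (x y : W8) : x + (x + y) = y := by rw [← add_assoc, aa, zero_add]
theorem aa'' (x y : W8) : y + x + x = y := by rw [add_assoc, aa, add_zero]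

theorem om_comm (x y : W8) : om8 x y = om8 y x := by
  simp only [om8, Fintype.sum_sum_type, Sum.swap_inl, Sum.swap_inr]
  rw [add_comm]
  simp only [mul_comm]

theorem om_sf (x : W8) : om8 x x = 0 := by
  simp only [om8, Fintype.sum_sum_type, Sum.swap_inl, Sum.swap_inr]
  rw [Finset.sum_congr rfl fun i _ => mul_comm (x (.inr i)) _, CharTwo.add_self_eq_zero]

theorem om_ad (x y v : W8) : om8 (x + y) v = om8 x v + om8 y v := by
  simp only [om8, Pi.add_apply, add_mul, Finset.sum_add_distrib]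

theorem om_add' (v x y : W8) : om8 v (x + y) = om8 v x + om8 v y := by
  rw [om_comm, om_ad, om_comm x, om_comm y]

theorem om_smul (c : ZMod 2) (x y : W8) : om8 (c • x) y = c * om8 x y := by
  simp only [om8, Pi.smul_apply, smul_eq_mul, Finset.mul_sum, mul_assoc]

theorem om_zero (y : W8) : om8 0 y = 0 := by simp [om8]

theorem z2 : ∀ c : ZMod 2, c = 0 ∨ c = 1 := by decide

theorem om_nd {w : W8} (h : w ≠ 0) : ∃ x, om8 x w = 1 := by
  obtain ⟨a, ha⟩ := Function.ne_iff.1 h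
  exact ⟨Pi.single a.swap 1, by
    simpa [om8, Pi.single_apply] using (z2 (w a)).resolve_left ha⟩

theorem ne_zero {u v : W8} (h : om8 u v = 1) : u ≠ 0 := fun e => by
  rw [e, om_zero] at h
  exact zero_ne_one h

end S8a

open S8a

theorem tv8_cj (g : Sp8) (w : W8) : g * tv8 w * g⁻¹ = tv8 (ac8 g w) :=
  ac8_ext fun x => by rw [ac8_mul, ac8_mul, ac8_tv, ac8_tv, ac8_add, ac_inv', ac_smul, om_inv]

theorem tv8_sq (w : W8) : tv8 w * tv8 w = 1 := ac8_ext fun x => by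
  rw [ac8_mul, ac8_tv, ac8_tv, ac8_one, om_ad, om_smul, om_sf, mul_zero, add_zero, aa'']

theorem tv8_inj {w w' : W8} (e : tv8 w = tv8 w') : w = w' := by
  have k : ∀ x, om8 x w • w = om8 x w' • w' := fun x => by
    have := congrArg (ac8 · x) e
    simpa only [ac8_tv, add_right_inj] using this
  by_cases h : w = 0
  · by_cases h' : w' = 0
    · rw [h, h']
    obtain ⟨x, hx⟩ := om_nd h'
    have := k x
    rw [hx, h, smul_zero, one_smul] at this
    exact absurd this.symm h'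
  obtain ⟨x, hx⟩ := om_nd h
  have := k x
  rw [hx, one_smul] at this
  rcases z2 (om8 x w') with e' | e' <;> rw [e'] at this
  · exact absurd (by rw [this, zero_smul]) h
  · rwa [one_smul] at this

namespace S8a

theorem tv_zero : tv8 0 = 1 := ac8_ext fun x => by rw [ac8_tv, ac8_one, smul_zero, add_zero]

theorem tv_comm {g : Sp8} {w : W8} (e : ac8 g w = w) : g * tv8 w = tv8 w * g := by
  have := tv8_cj g w
  rw [e] at this
  exact mul_inv_eq_iff_eq_mul.1 this

theorem fix_of_comm {g : Sp8} {w : W8} (e : g * tv8 w = tv8 w * g) : ac8 g w = w :=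
  tv8_inj (by rw [← tv8_cj, e, mul_inv_cancel_right])

theorem tv_fix {w x : W8} (h : om8 x w = 0) : ac8 (tv8 w) x = x := by rw [ac8_tv, h, zero_smul, add_zero]

theorem tv_mv {w x : W8} (h : om8 x w = 1) : ac8 (tv8 w) x = x + w := by rw [ac8_tv, h, one_smul]

theorem tv_to {u v : W8} (h : om8 u v = 1) : ac8 (tv8 (u + v)) u = v := by
  rw [tv_mv (by rw [om_add', om_sf, h, zero_add]), aa']

theorem cm {u v : W8} (h : om8 u v = 0) : Commute (tv8 v) (tv8 u) := tv_comm (tv_fix h)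

theorem mv1 {u u' : W8} (h : u ≠ 0) (h' : u' ≠ 0) : ∃ g, ac8 g u = u' := by
  obtain ⟨w, h1, h2⟩ : ∃ w, om8 w u = 1 ∧ om8 w u' = 1 := by
    obtain ⟨x, hx⟩ := om_nd h
    obtain ⟨y, hy⟩ := om_nd h'
    rcases z2 (om8 x u') with a | a
    · rcases z2 (om8 y u) with b | b
      · exact ⟨x + y, by rw [om_ad, hx, b, add_zero], by rw [om_ad, hy, a, zero_add]⟩
      · exact ⟨y, b, hy⟩
    · exact ⟨x, hx, a⟩
  exact ⟨tv8 (w + u') * tv8 (u + w), by rw [ac8_mul, tv_to (om_comm w u ▸ h1), tv_to h2]⟩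

theorem mv2 {u v v' : W8} (h : om8 u v = 1) (h' : om8 u v' = 1) : ∃ g, ac8 g u = u ∧ ac8 g v = v' := by
  have one : ∀ {v v' : W8}, om8 u v = 1 → om8 u v' = 1 → om8 v v' = 1 →
      ac8 (tv8 (v + v')) u = u ∧ ac8 (tv8 (v + v')) v = v' := fun h h' k =>
    ⟨tv_fix (by rw [om_add', h, h']; decide), tv_to k⟩
  rcases z2 (om8 v v') with a | a
  · have h1 : om8 u (u + v) = 1 := by rw [om_add', om_sf, h, zero_add]
    obtain ⟨b1, b2⟩ := one h h1 (by rw [om_add', om_sf, om_comm, h, add_zero])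
    obtain ⟨c1, c2⟩ := one h1 h' (by rw [om_ad, h', a, add_zero])
    exact ⟨_ * _, by rw [ac8_mul, b1, c1], by rw [ac8_mul, b2, c2]⟩
  · exact ⟨_, one h h' a⟩

theorem card : Nat.card Sp8 = 47377612800 := by
  rw [Cfsg.Agent.S0245.result (F := ZMod 2) (q := 2) (by simp) 4]
  decide

theorem center_bot : center Sp8 = ⊥ := Subgroup.eq_bot_of_card_eq _ (by
  rw [Cfsg.Agent.S0246.result (F := ZMod 2) (q := 2) (by simp) 4 (by norm_num)]; decide)

theorem v0_ne : up4 (ff 0 + gg 0) ≠ 0 := by decide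

end S8a

/-- transitivity on hyperbolic pairs -/
theorem hyp8 {u v u' v' : W8} (h : om8 u v = 1) (h' : om8 u' v' = 1) :
    ∃ g, ac8 g u = u' ∧ ac8 g v = v' := by
  obtain ⟨g, rfl⟩ := mv1 (ne_zero h) (ne_zero h')
  obtain ⟨k, h1, h2⟩ := mv2 ((ac8_om g u v).trans h) h'
  exact ⟨k * g, by rw [ac8_mul, h1], by rw [ac8_mul, h2]⟩

theorem s8_iso : Nonempty (Sp8 ≃* PSp 4 (ZMod 2)) :=
  ⟨((QuotientGroup.quotientMulEquivOfEq center_bot).trans QuotientGroup.quotientBot).symm⟩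

theorem s8_simple : IsSimpleGroup Sp8 := by
  have h := Cfsg.Agent.S0270.result (F := ZMod 2) 4 (by norm_num) (by norm_num)
  exact ((QuotientGroup.quotientMulEquivOfEq center_bot).trans QuotientGroup.quotientBot).symm.isSimpleGroup

theorem tv8_gen (K : Subgroup Sp8) (h : ∀ w, tv8 w ∈ K) : K = ⊤ := by
  haveI := s8_simple
  have h1 : normalClosure {r8} = ⊤ :=
    (IsSimpleGroup.eq_bot_or_eq_top_of_normal _ inferInstance).resolve_left fun e =>
      v0_ne (tv8_inj ((e.le (subset_normalClosure rfl)).trans tv_zero.symm))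
  refine eq_top_iff.2 (h1.ge.trans ((closure_le K).2 fun x hx => ?_))
  obtain ⟨_, rfl, e⟩ := Group.mem_conjugatesOfSet_iff.1 hx
  obtain ⟨g, rfl⟩ := isConj_iff.1 e
  exact (tv8_cj g _).symm ▸ h _

theorem s8_facts : ¬ IsMulCommutative Sp8 ∧ (∀ n : ℕ, ¬ Nonempty (Sp8 ≃* alternatingGroup (Fin n))) ∧
    IsTwoCentralInvolution r8 ∧ t4 * t4 = 1 ∧ t4 ≠ 1 ∧ t4 ≠ r8 ∧ r8 * t4 = t4 * r8 := by
  have c01 : Commute r8 (tv8 (up1 (ff 0 + gg 0))) := cm (by decide)
  have c02 : Commute r8 (tv8 (up1 (ff 1 + gg 1))) := cm (by decide)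
  have c03 : Commute r8 (tv8 (up1 (ff 2 + gg 2))) := cm (by decide)
  have c12 : Commute (tv8 (up1 (ff 0 + gg 0))) (tv8 (up1 (ff 1 + gg 1))) := cm (by decide)
  have c13 : Commute (tv8 (up1 (ff 0 + gg 0))) (tv8 (up1 (ff 2 + gg 2))) := cm (by decide)
  have c23 : Commute (tv8 (up1 (ff 1 + gg 1))) (tv8 (up1 (ff 2 + gg 2))) := cm (by decide)
  have r2 : r8 * r8 = 1 := tv8_sq _
  have f1 : ac8 r8 (up1 (ff 2)) = up1 (ff 2) := tv_fix (by decide)
  have f2 : ac8 t4 (up1 (ff 2)) ≠ up1 (ff 2) := by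
    rw [t4, ac8_mul, ac8_mul, ac8_mul, tv_mv (x := up1 (ff 2)) (by decide),
      tv_fix (w := up1 (ff 1 + gg 1)) (by decide), tv_fix (w := up1 (ff 0 + gg 0)) (by decide), r8,
      tv_fix (by decide)]
    decide
  refine ⟨fun h => ?_, fun n ⟨e⟩ => ?_, ⟨orderOf_eq_prime (by rw [sq, r2])
    fun e => v0_ne (tv8_inj (e.trans tv_zero.symm)), ?_⟩, ?_, fun e => f2 (by rw [e, ac8_one]),
    fun e => f2 (by rw [e, f1]), (((Commute.refl r8).mul_right c01).mul_right c02).mul_right c03⟩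
  · exact f2 (fix_of_comm (h.1.1 _ _))
  · have h3 := Nat.card_congr e.toEquiv
    rw [card] at h3
    by_cases hn : 11 ≤ n
    · have : Nontrivial (Fin n) := Fin.nontrivial_iff_two_le.2 (by omega)
      have h4 := two_mul_nat_card_alternatingGroup (α := Fin n)
      rw [← h3, Nat.card_perm, Nat.card_fin] at h4
      have := h4 ▸ Nat.dvd_factorial (by norm_num) hn
      norm_num at this
    · have h4 := card_subgroup_dvd_card (alternatingGroup (Fin n))
      rw [← h3, Nat.card_perm, Nat.card_fin] at h4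
      have := (h4.trans (Nat.factorial_dvd_factorial (show n ≤ 10 by omega)))
      norm_num [Nat.factorial] at this
  · letI : MulAction Sp8 W8 := { smul := ac8, one_smul := ac8_one, mul_smul := ac8_mul }
    obtain ⟨P⟩ : Nonempty (Sylow 2 Sp8) := inferInstance
    obtain ⟨w, hw, w0⟩ := P.isPGroup'.exists_fixed_point_of_prime_dvd_card_of_fixed_point W8
      (by simp) (a := 0) fun g => ac_zero _
    obtain ⟨g, hg⟩ := mv1 w0.symm v0_ne
    have h1 : ∀ x ∈ g • P, x * r8 = r8 * x := by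
      rintro _ ⟨x, hx, rfl⟩
      refine tv_comm (g := g * x * g⁻¹) ?_
      rw [← hg, ac8_mul, ac_inv, ac8_mul, show ac8 x w = w from hw ⟨x, hx⟩]
    refine ⟨g • P, ((g • P).is_maximal' (H69.isPGroup_sup_of_le_normalizer_right (g • P).isPGroup'
      (H75.L7.two_zp r2) fun u hu => (H75.L7.nm_zp (h1 u hu)).mem) le_sup_left).le
        (mem_sup_right (mem_zpowers r8)), h1⟩
  · rw [← sq, t4, ((c03.mul_left c13).mul_left c23).mul_pow, (c02.mul_left c12).mul_pow, c01.mul_pow]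
    simp only [sq, r2, tv8_sq, mul_one]

theorem o2r (X : Subgroup Sp8) (hX : IsPGroup 2 X) (n : ∀ g, g * r8 = r8 * g → Nm g X) {u : Sp8}
    (hu : u ∈ X) (c : u * r8 = r8 * u) (e : IsConj r8 u) : u = r8 := by
  obtain ⟨g, rfl⟩ := isConj_iff.1 e
  rw [r8] at *
  rw [tv8_cj] at *
  have v1 : ac8 g (up4 (ff 0 + gg 0)) ≠ 0 := fun e => v0_ne (by rw [← ac_inv g (up4 _), e, ac_zero])
  generalize ac8 g (up4 (ff 0 + gg 0)) = v at *
  generalize up4 (ff 0 + gg 0) = v₀ at *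
  by_contra hn
  obtain ⟨w, h1, h2⟩ : ∃ w, om8 w v = 1 ∧ om8 w v₀ = 0 := by
    obtain ⟨x, hx⟩ := om_nd v1
    obtain ⟨y, hy⟩ := om_nd (w := v + v₀) fun e => hn (by rw [← aa'' v₀ v, e, zero_add])
    rw [om_add'] at hy
    rcases z2 (om8 x v₀) with a | a
    · exact ⟨x, hx, a⟩
    rcases z2 (om8 y v₀) with b | b <;> rw [b] at hy
    · exact ⟨y, by rwa [add_zero] at hy, b⟩
    · exact ⟨x + y, by rw [om_ad, hx, add_eq_right.1 hy, add_zero], by rw [om_ad, a, b]; decide⟩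
  have h3 := n (tv8 w) (cm (om_comm w v₀ ▸ h2)) _ hu
  rw [tv8_cj, tv_mv (om_comm w v ▸ h1)] at h3
  have h4 : om8 v (v + w) = 1 := by rw [om_add', om_sf, om_comm, h1, zero_add]
  have iv : ∀ x, (tv8 x)⁻¹ = tv8 x := fun x => inv_eq_of_mul_eq_one_right (tv8_sq x)
  have a1 := tv8_cj (tv8 v) (v + w)
  have a2 := tv8_cj (tv8 (v + w)) v
  rw [iv, tv_mv (om_comm v _ ▸ h4), add_comm _ v, aa'] at a1
  rw [iv, tv_mv h4, aa'] at a2
  obtain ⟨k, hk⟩ := H75.L7.two_pow hX (mul_mem hu h3)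
  have h5 := H75.L7.eq_one_of_two_odd hk (by decide : Odd 3) (by
    rw [← tv8_sq w, ← congrArg₂ (· * ·) a1 a2]
    simp only [pow_succ, pow_zero, one_mul, mul_assoc])
  rw [mul_eq_one_iff_inv_eq, iv] at h5
  exact ne_zero h1 (left_eq_add.1 (tv8_inj h5))

end H29.S6
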