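import Cfsg.Agent.Lib.S6.S8a

/-! S6: the Siegel radical of `Sp₈(2)` in coordinates. -/

set_option autoImplicit false

namespace H29.S6.S8n

open Subgroup Matrix

abbrev M4 := Matrix (Fin 4) (Fin 4) (ZMod 2)
abbrev C := Fin 10 → ZMod 2

def sym (c : C) : M4 :=
  !![c 0, c 1, c 2, c 3; c 1, c 4, c 5, c 6; c 2, c 5, c 7, c 8; c 3, c 6, c 8, c 9]

theorem sym_t (c : C) : (sym c)ᵀ = sym c := by
  ext i j; fin_cases i <;> fin_cases j <;> rfl

theorem sym_add (c d : C) : sym (c + d) = sym c + sym d := by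
  ext i j; fin_cases i <;> fin_cases j <;> rfl

theorem sym_inj {c d : C} (h : sym c = sym d) : c = d := by
  have k := fun i j => congrFun (congrFun h i) j
  funext i
  fin_cases i
  exacts [k 0 0, k 0 1, k 0 2, k 0 3, k 1 1, k 1 2, k 1 3, k 2 2, k 2 3, k 3 3]

theorem exists_sym {S : M4} (h : Sᵀ = S) : ∃ c, sym c = S := by
  have k := fun i j => congrFun (congrFun h i) j
  refine ⟨![S 0 0, S 0 1, S 0 2, S 0 3, S 1 1, S 1 2, S 1 3, S 2 2, S 2 3, S 3 3], ?_⟩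
  ext i j
  fin_cases i <;> fin_cases j <;> first | rfl | exact k _ _

/-- the radical -/
def nS (c : C) : Sp8 := ⟨fromBlocks 1 (sym c) 0 1, by
  rw [SymplecticGroup.mem_iff, J, fromBlocks_transpose, fromBlocks_multiply, fromBlocks_multiply, sym_t]
  simp⟩

theorem nS_val (c : C) : (nS c).1 = fromBlocks 1 (sym c) 0 1 := rfl

theorem nS_add (c d : C) : nS (c + d) = nS c * nS d := Subtype.ext (by
  change _ = (nS c).1 * (nS d).1
  rw [nS_val, nS_val, nS_val, fromBlocks_multiply, sym_add]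
  simp [add_comm])

theorem nS_zero : nS 0 = 1 := left_eq_mul.1 ((congrArg nS (add_zero 0)).symm.trans (nS_add 0 0))

theorem nS_inj {c d : C} (h : nS c = nS d) : c = d :=
  sym_inj (fromBlocks_inj.1 (congrArg Subtype.val h)).2.1

def gen : Fin 5 → M4
  | 0 => !![0, 1, 0, 0; 1, 0, 0, 0; 0, 0, 1, 0; 0, 0, 0, 1]
  | 1 => !![1, 0, 0, 0; 0, 0, 1, 0; 0, 1, 0, 0; 0, 0, 0, 1]
  | 2 => !![1, 0, 0, 0; 0, 1, 0, 0; 0, 0, 0, 1; 0, 0, 1, 0]
  | 3 => !![0, 1, 1, 1; 1, 0, 1, 1; 1, 1, 0, 1; 1, 1, 1, 0]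
  | 4 => !![1, 1, 0, 0; 0, 1, 0, 0; 0, 0, 1, 0; 0, 0, 0, 1]

def mvF (m : Fin 5) (c : C) : C := match m with
  | 0 => ![c 4, c 1, c 5, c 6, c 0, c 2, c 3, c 7, c 8, c 9]
  | 1 => ![c 0, c 2, c 1, c 3, c 7, c 5, c 8, c 4, c 6, c 9]
  | 2 => ![c 0, c 1, c 3, c 2, c 4, c 6, c 5, c 9, c 8, c 7]
  | 3 => ![c 4 + c 5 + c 6 + c 5 + c 7 + c 8 + c 6 + c 8 + c 9,
      c 1 + c 5 + c 6 + c 2 + c 7 + c 8 + c 3 + c 8 + c 9,
      c 1 + c 4 + c 6 + c 2 + c 5 + c 8 + c 3 + c 6 + c 9,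
      c 1 + c 4 + c 5 + c 2 + c 5 + c 7 + c 3 + c 6 + c 8,
      c 0 + c 2 + c 3 + c 2 + c 7 + c 8 + c 3 + c 8 + c 9,
      c 0 + c 1 + c 3 + c 2 + c 5 + c 8 + c 3 + c 6 + c 9,
      c 0 + c 1 + c 2 + c 2 + c 5 + c 7 + c 3 + c 6 + c 8,
      c 0 + c 1 + c 3 + c 1 + c 4 + c 6 + c 3 + c 6 + c 9,
      c 0 + c 1 + c 2 + c 1 + c 4 + c 5 + c 3 + c 6 + c 8,
      c 0 + c 1 + c 2 + c 1 + c 4 + c 5 + c 2 + c 5 + c 7]
  | 4 => ![c 0 + c 1 + c 1 + c 4,
      c 1 + c 4,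
      c 2 + c 5,
      c 3 + c 6,
      c 4,
      c 5,
      c 6,
      c 7,
      c 8,
      c 9]

theorem gen_sq : ∀ m, gen m * gen m = 1 := by decide +kernel

theorem gen_sym (m : Fin 5) (c : C) : gen m * sym c * (gen m)ᵀ = sym (mvF m c) := by
  ext i j
  fin_cases m <;> fin_cases i <;> fin_cases j <;>
    simp [gen, sym, mvF, Matrix.mul_apply, Fin.sum_univ_four] <;> ring

/-- Levi elements -/
def lv (m : Fin 5) : Sp8 := ⟨fromBlocks (gen m) 0 0 (gen m)ᵀ, by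
  rw [SymplecticGroup.mem_iff, J, fromBlocks_transpose, fromBlocks_multiply, fromBlocks_multiply]
  simp [gen_sq, ← transpose_mul]⟩

theorem lv_val (m : Fin 5) : (lv m).1 = fromBlocks (gen m) 0 0 (gen m)ᵀ := rfl

theorem lv_cj (m : Fin 5) (c : C) : lv m * nS c * (lv m)⁻¹ = nS (mvF m c) := by
  rw [mul_inv_eq_iff_eq_mul]
  refine Subtype.ext ?_
  change (lv m).1 * (nS c).1 = (nS _).1 * (lv m).1
  rw [nS_val, nS_val, lv_val, fromBlocks_multiply, fromBlocks_multiply, ← gen_sym]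
  simp [Matrix.mul_assoc, gen_sq, ← transpose_mul]

/-- binary codes -/
def dec (n : ℕ) : C := fun i => if n.testBit i then 1 else 0

theorem dec_xor (a b : ℕ) : dec (a ^^^ b) = dec a + dec b := by
  funext i
  simp only [dec, Nat.testBit_xor, Pi.add_apply]
  cases a.testBit i <;> cases b.testBit i <;> decide

def enc (c : C) : ℕ := (c 0).val + 2 * (c 1).val + 4 * (c 2).val + 8 * (c 3).val + 16 * (c 4).val +
  32 * (c 5).val + 64 * (c 6).val + 128 * (c 7).val + 256 * (c 8).val + 512 * (c 9).val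

theorem dec_enc : ∀ c, enc c < 1024 ∧ dec (enc c) = c := by decide +kernel

def tb : Fin 5 → ℕ
  | 0 => 0x8010020008010011002000810
  | 1 => 0x8004004100080800200201001
  | 2 => 0x2010080020100100100800801
  | 3 => 0x2dd6c96d6a59b8d5392e1bbf0
  | 4 => 0x8010020048090130200400801

def lx (t n : ℕ) : ℕ → ℕ
  | 0 => 0
  | k + 1 => (if n.testBit k then (t >>> (10 * k)) % 1024 else 0) ^^^ lx t n k

def mN (m : Fin 5) (n : ℕ) : ℕ := lx (tb m) n 10

theorem lx_xor (t a b : ℕ) : ∀ k, lx t (a ^^^ b) k = lx t a k ^^^ lx t b k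
  | 0 => (Nat.xor_self 0).symm
  | k + 1 => by
    rw [lx, lx, lx, lx_xor t a b k, Nat.testBit_xor]
    refine Nat.eq_of_testBit_eq fun i => ?_
    generalize (t >>> (10 * k)) % 1024 = s
    cases a.testBit k <;> cases b.testBit k <;> simp only [Nat.testBit_xor] <;>
      cases (lx t a k).testBit i <;> cases (lx t b k).testBit i <;> simp

theorem mvF_add (m : Fin 5) (c d : C) : mvF m (c + d) = mvF m c + mvF m d := sym_inj (by
  rw [sym_add, ← gen_sym, ← gen_sym, ← gen_sym, sym_add, Matrix.mul_add, Matrix.add_mul])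

theorem mN_lo : ∀ m, ∀ n < 32, mN m n < 2 ^ 10 ∧ dec (mN m n) = mvF m (dec n) := by decide +kernel

theorem mN_hi : ∀ m, ∀ n < 32, mN m (32 * n) < 2 ^ 10 ∧ dec (mN m (32 * n)) = mvF m (dec (32 * n)) := by
  decide +kernel

theorem split32 : ∀ n < 1024, n % 32 ^^^ 32 * (n / 32) = n := by decide +kernel

theorem dec_mN (m : Fin 5) (n : ℕ) (h : n < 1024) :
    mN m n < 1024 ∧ dec (mN m n) = mvF m (dec n) := by
  obtain ⟨a1, a2⟩ := mN_lo m (n % 32) (by omega)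
  obtain ⟨b1, b2⟩ := mN_hi m (n / 32) (by omega)
  have e : mN m n = mN m (n % 32) ^^^ mN m (32 * (n / 32)) := by
    rw [mN, mN, mN, ← lx_xor, split32 n h]
  refine ⟨e ▸ Nat.xor_lt_two_pow a1 b1, ?_⟩
  rw [e, dec_xor, a2, b2, ← mvF_add, ← dec_xor, split32 n h]

/-- apply the moves listed in the hexadecimal digits of `w` -/
def run (f : ℕ → ℕ → ℕ) : ℕ → ℕ → ℕ → ℕ
  | 0, _, n => n
  | k + 1, w, n => run f k (w / 16) (f (w % 16) n)

theorem run_ind {f : ℕ → ℕ → ℕ} {P : ℕ → Prop} (h : ∀ d n, P n → P (f d n)) :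
    ∀ k w n, P n → P (run f k w n)
  | 0, _, _, p => p
  | k + 1, _, _, p => run_ind h k _ _ (h _ _ p)

/-- congruence moves -/
def mc (d n : ℕ) : ℕ := if h : d < 5 then mN ⟨d, h⟩ n else n

theorem run_cj (k w : ℕ) {n : ℕ} (h : n < 1024) :
    ∃ g, g * nS (dec n) * g⁻¹ = nS (dec (run mc k w n)) :=
  (run_ind (P := fun x => x < 1024 ∧ ∃ g, g * nS (dec n) * g⁻¹ = nS (dec x)) (fun d x ⟨a, g, b⟩ => by
    unfold mc
    split_ifs with e
    · refine ⟨(dec_mN _ x a).1, lv ⟨d, e⟩ * g, ?_⟩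
      rw [(dec_mN _ x a).2, ← lv_cj, ← b]; group
    · exact ⟨a, g, b⟩) k w n ⟨h, 1, by simp⟩).2

def Zz : Sp8 := ⟨fromBlocks 1 0 1 1, by rw [SymplecticGroup.mem_iff]; decide +kernel⟩

theorem t4_val : t4.1 = fromBlocks 0 1 1 0 := by decide +kernel

theorem t4_eq : t4 = Zz * nS (dec 657) * Zz⁻¹ := by
  rw [eq_mul_inv_iff_mul_eq]
  refine Subtype.ext ?_
  change t4.1 * Zz.1 = Zz.1 * (nS _).1
  rw [t4_val]
  decide +kernel

theorem s8n_eqns : True := by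
  have := @sym.eq_1; have := @nS.eq_1; have := @lv.eq_1; have := @dec.eq_1; have := @enc.eq_1
  have := @mN.eq_1; have := @mc.eq_1; have := @Zz.eq_1; have := @run.eq_1; have := @lx.eq_1
  have := @gen.eq_1; have := @mvF.eq_1; have := @tb.eq_1
  trivial

end H29.S6.S8n
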