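import Cfsg.Agent.Lib.S6.MDa
import Cfsg.Agent.Lib.LocStruct.SylowIn
import Cfsg.Agent.S0814

/-! S6, package SET1 (see blueprint/S6/README.md). -/

set_option autoImplicit false
set_option linter.unusedSectionVars false

namespace H29.S6

open Subgroup Cfsg H29.F42
open H87.U6 (F3 V lin)
open H75.L7 (Nm T Ch2 Rk3)

variable {G : Type*} [Group G] [Finite G] {j ρ : V → G} {τ : G} {θ θ' : Sp →* G} {D : Subgroup G}

namespace SET1

open H69

theorem cen (x : Sp) (h : ∀ y, x * y = y * x) : x = 1 := mod2 x (h _) (h _) (h _) (h _)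

theorem w1 : wv (1, 0, 0) = ww 0 := by show ww 0 ^ 1 * ww 1 ^ 0 * ww 2 ^ 0 = _; simp
theorem w2 : wv (0, 1, 0) = ww 1 := by show ww 0 ^ 0 * ww 1 ^ 1 * ww 2 ^ 0 = _; simp
theorem w3 : wv (0, 0, 1) = ww 2 := by show ww 0 ^ 0 * ww 1 ^ 0 * ww 2 ^ 1 = _; simp

/-- change of field -/
def mp {F K : Type*} [Field F] [Field K] (σ : F →+* K) :
    Matrix.symplecticGroup (Fin 3) F →* Matrix.symplecticGroup (Fin 3) K :=
  (σ.mapMatrix.toMonoidHom.comp (Matrix.symplecticGroup (Fin 3) F).subtype).codRestrict _ fun g => by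
    have := congrArg σ.mapMatrix (SymplecticGroup.mem_iff.1 g.2)
    rw [SymplecticGroup.mem_iff]
    simpa [Matrix.map_mul, Matrix.transpose_map, Matrix.map_J] using this

theorem mp_val {F K : Type*} [Field F] [Field K] (σ : F →+* K) (g : Matrix.symplecticGroup (Fin 3) F) (a c) :
    (mp σ g).1 a c = σ (g.1 a c) := rfl

theorem iso {F : Type*} [Field F] [Fintype F] (hF : Fintype.card F = 2) : Nonempty (PSp 3 F ≃* Sp) := by
  let σ : F ≃+* ZMod 2 := FiniteField.ringEquivOfCardEq (by simpa using hF)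
  let e : Matrix.symplecticGroup (Fin 3) F ≃* Sp := MonoidHom.toMulEquiv (mp σ.toRingHom) (mp σ.symm.toRingHom)
    (by ext g a c; simp [mp_val]) (by ext g a c; simp [mp_val])
  have c : center (Matrix.symplecticGroup (Fin 3) F) = ⊥ := eq_bot_iff.2 fun x hx =>
    (map_eq_one_iff e e.injective).1 (cen _ fun y => by
      obtain ⟨y, rfl⟩ := e.surjective y
      rw [← map_mul, ← map_mul, mem_center_iff.1 hx])
  exact ⟨((QuotientGroup.quotientMulEquivOfEq c).trans QuotientGroup.quotientBot).trans e⟩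

theorem inner {F : Type*} [Field F] [Fintype F] (hF : Fintype.card F = 2) (α : MulAut Sp) :
    ∃ x, MulAut.conj x = α := by
  obtain ⟨e⟩ := iso hF
  have := Cfsg.Agent.S0814.result 2 1 le_rfl hF 3 (by norm_num) (by norm_num)
  rw [Nat.card_congr (MulAut.congr e).toEquiv, Nat.card_congr e.toEquiv] at this
  refine (Function.Injective.bijective_of_nat_card_le (f := (MulAut.conj : Sp →* MulAut Sp))
    ((injective_iff_map_eq_one _).2 fun x hx => cen x fun y => ?_) (by simpa using this.le)).2 α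
  exact mul_inv_eq_iff_eq_mul.1 (DFunLike.congr_fun hx y)

/-- the data extracted from the hypotheses -/
structure St (b : G) (θ : Sp →* G) : Prop where
  hb : orderOf b = 3
  θi : Function.Injective θ
  cy : ∀ x, θ x * b = b * θ x
  dec : ∀ g, g * b = b * g → ∃ x e, (∀ y, e * θ y = θ y * e) ∧ g = θ x * e
  cyc : ∀ P : Subgroup G, IsPGroup 3 P → (∀ e ∈ P, ∀ y, e * θ y = θ y * e) → IsCyclic P

/-- the chart -/
def J (b : G) (θ : Sp →* G) (v : V) : G := b ^ v.1.val * θ (wv v.2)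

variable {b : G} (h : St b θ)
include h

theorem St.cm (n : ℕ) (x : Sp) : θ x * b ^ n = b ^ n * θ x := (Commute.pow_right (h.cy x) n).eq

theorem St.b3 : b ^ 3 = 1 := h.hb ▸ pow_orderOf_eq_one b

theorem St.md (n : ℕ) : b ^ (n % 3) = b ^ n := by rw [← h.hb, pow_mod_orderOf]

theorem St.one {x : Sp} (c : ∀ y, θ x * θ y = θ y * θ x) : x = 1 :=
  cen x fun y => h.θi (by rw [map_mul, map_mul, c])

theorem St.add (u v : V) : J b θ (u + v) = J b θ u * J b θ v := by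
  rw [J, J, J, Prod.fst_add, Prod.snd_add, ZMod.val_add, h.md, MD2.wv_add, map_mul, pow_add, mul_assoc, mul_assoc,
    ← mul_assoc (θ _), h.cm, mul_assoc]

theorem St.j1 : J b θ e1 = b := by
  show b ^ 1 * θ (wv 0) = b
  simp [MD2.wv0]

theorem St.uq {e : G} (c : ∀ y, e * θ y = θ y * e) {v : V} (hv : e = J b θ v) : v.2 = 0 ∧ e = b ^ v.1.val := by
  have : wv v.2 = 1 := h.one fun y => mul_left_cancel (a := b ^ v.1.val) (by
    rw [← mul_assoc, ← mul_assoc, ← h.cm _ y, mul_assoc (θ y)]; exact (show J b θ v * _ = _ * J b θ v from hv ▸ c y))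
  exact ⟨wv_inj (this.trans MD2.wv0.symm), by rw [hv, J, this, map_one, mul_one]⟩

theorem St.inj (v : V) (e : J b θ v = 1) : v = 0 := by
  obtain ⟨e1, e2⟩ := h.uq (e := 1) (by simp) e.symm
  refine Prod.ext ((ZMod.val_eq_zero _).1 (Nat.eq_zero_of_dvd_of_lt ?_ (ZMod.val_lt _))) e1
  exact h.hb.symm.dvd.trans (orderOf_dvd_of_pow_eq_one e2.symm)

theorem St.j0 : J b θ 0 = 1 := by simpa using h.add 0 0

theorem St.neg (v : V) : J b θ (-v) = (J b θ v)⁻¹ := eq_inv_of_mul_eq_one_left (by rw [← h.add, neg_add_cancel, h.j0])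

theorem St.e3 {e : G} (c : ∀ y, e * θ y = θ y * e) (cb : e * b = b * e) (e3 : e ^ 3 = 1) : e ∈ zpowers b := by
  have m : ∀ x ∈ zpowers b ⊔ zpowers e, x ^ 3 = 1 ∧ ∀ y, x * θ y = θ y * x := fun x hx => by
    obtain ⟨_, ⟨i, rfl⟩, _, ⟨k, rfl⟩, rfl⟩ := (mem_sup_of_le_normalizer_left (le_normalizer_of_le_centralizer
      (zpowers_le.2 (centralizer_zpowers b ▸ mem_centralizer_singleton_iff.2 cb)))).1 hx
    refine ⟨?_, fun y => (Commute.mul_left (Commute.zpow_left (h.cy y).symm i) (Commute.zpow_left (c y) k)).eq⟩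
    have k3 : ∀ (x : G) (i : ℤ), x ^ 3 = 1 → (x ^ i) ^ 3 = 1 := fun x i e => by
      rw [← zpow_natCast, zpow_comm, zpow_natCast, e, one_zpow]
    rw [(Commute.zpow_zpow cb.symm i k).mul_pow, k3 _ _ h.b3, k3 _ _ e3, mul_one]
  have := h.cyc _ (isPGroup_iff_mem.2 fun x hx => ⟨1, (m x hx).1⟩) fun x hx => (m x hx).2
  have d : Nat.card (zpowers b ⊔ zpowers e : Subgroup G) ∣ 3 := this.exponent_eq_card ▸
    Monoid.exponent_dvd_of_forall_pow_eq_one fun x => Subtype.ext (m x x.2).1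
  rw [eq_of_le_of_card_ge (le_sup_left : zpowers b ≤ _ ⊔ zpowers e)
    (by rw [Nat.card_zpowers, h.hb]; exact Nat.le_of_dvd three_pos d)]
  exact mem_sup_right (mem_zpowers e)

theorem St.zp {e : G} (he : e ∈ zpowers b) : ∃ k : F3, e = b ^ k.val := by
  obtain ⟨n, rfl⟩ := mem_powers_iff_mem_zpowers.2 he
  exact ⟨n, by rw [ZMod.val_natCast, h.md]⟩

theorem St.cb {x : Sp} {e : G} (c : θ x * e * b = b * (θ x * e)) : e * b = b * e := by
  rwa [← mul_assoc, ← h.cy, mul_assoc, mul_assoc, mul_right_inj] at c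

theorem St.ord3 {g : G} (c : g * b = b * g) (g3 : g ^ 3 = 1) : ∃ (k : F3) (x : Sp), x ^ 3 = 1 ∧ g = b ^ k.val * θ x := by
  obtain ⟨x, e, he, rfl⟩ := h.dec g c
  rw [(show Commute (θ x) e from (he x).symm).mul_pow, ← map_pow] at g3
  have x3 : x ^ 3 = 1 := h.one fun y => by
    rw [eq_inv_of_mul_eq_one_left g3]; exact (Commute.pow_left (he y) 3).inv_left.eq
  obtain ⟨k, rfl⟩ := h.zp (h.e3 he (h.cb c) (by simpa [x3] using g3))
  exact ⟨k, x, x3, h.cm _ _⟩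

theorem St.jc (u v : V) : J b θ u * J b θ v = J b θ v * J b θ u := by rw [← h.add, ← h.add, add_comm]

theorem St.j3 (u : V) : J b θ u ^ 3 = 1 := by
  rw [pow_three, ← h.add, ← h.add, show u + (u + u) = 0 by revert u; decide, h.j0]

/-- `J` as a subgroup -/
def St.K : Subgroup G where
  carrier := Set.range (J b θ)
  one_mem' := ⟨0, h.j0⟩
  mul_mem' := by rintro _ _ ⟨u, rfl⟩ ⟨v, rfl⟩; exact ⟨_, h.add u v⟩
  inv_mem' := by rintro _ ⟨u, rfl⟩; exact ⟨_, h.neg u⟩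

theorem St.mK {g : G} : g ∈ h.K ↔ ∃ v, J b θ v = g := Iff.rfl

theorem St.fusb (g : G) (v : V) (e : g * b * g⁻¹ = J b θ v) : ∃ n, NJ (J b θ) n ∧ n * b * n⁻¹ = J b θ v := by
  let B := (h.K ^ᶜ g⁻¹).comap θ
  have mb : b ∈ h.K ^ᶜ g⁻¹ := mem_cj.2 (by rw [inv_inv, e]; exact ⟨v, rfl⟩)
  have mB : ∀ x ∈ B, ∃ w, θ x = g⁻¹ * J b θ w * g := fun x hx => by
    obtain ⟨_, ⟨w, rfl⟩, e⟩ := mem_cj'.1 hx
    exact ⟨w, by simpa using e⟩
  have k : ∀ w, ∃ p : F3 × B, g⁻¹ * J b θ w * g = b ^ p.1.val * θ p.2 := fun w => by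
    obtain ⟨k, x, -, e'⟩ := h.ord3 (g := g⁻¹ * J b θ w * g) (by
      have := h.jc w v
      rw [← e] at this
      rw [← mul_left_inj g⁻¹, ← mul_right_inj g]; simpa [mul_assoc] using this)
      (by rw [← inv_inv g, inv_inv g⁻¹, conj_pow, h.j3]; simp)
    refine ⟨(k, ⟨x, (mul_mem_cancel_left (pow_mem mb k.val)).1 ?_⟩), e'⟩
    rw [← e']; exact mem_cj.2 ⟨w, by simp [mul_assoc]⟩
  choose p hp using k
  have c := Nat.card_le_card_of_injective p fun w w' e => by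
    have : J b θ w = J b θ w' := mul_left_cancel (mul_right_cancel ((hp w).trans (e ▸ (hp w').symm)))
    exact sub_eq_zero.1 (h.inj _ (by rw [sub_eq_add_neg, h.add, h.neg, this, mul_inv_cancel]))
  obtain ⟨c1, c2⟩ := ab27 B (fun a ha a' ha' => h.θi (by
      obtain ⟨w, e⟩ := mB a ha
      obtain ⟨w', e'⟩ := mB a' ha'
      rw [map_mul, map_mul, e, e', ← mul_left_inj g⁻¹]; simpa [mul_assoc] using h.jc w w'))
    fun a ha => h.θi (by
      obtain ⟨w, e⟩ := mB a ha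
      rw [map_pow, e, ← inv_inv g, inv_inv g⁻¹, conj_pow, h.j3]; simp)
  obtain ⟨l, hl⟩ := c2 (by simp [Nat.card_prod] at c; omega)
  refine ⟨g * (θ l)⁻¹, fun w => ?_, by rw [← e, mul_assoc g, (Commute.inv_left (h.cy l)).eq]; group⟩
  obtain ⟨u, hu⟩ := mem_cj.1 (mul_mem (pow_mem mb w.1.val) (show l⁻¹ * wv w.2 * l ∈ B from (hl _).2 ⟨w.2, by group⟩))
  refine ⟨u, Eq.trans ?_ hu.symm⟩
  rw [J, mul_assoc g, ← mul_assoc (θ l)⁻¹, ← map_inv, h.cm, map_mul, map_mul, map_inv]; group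

theorem St.mv (hwc : ∃ g : G, g * b * g⁻¹ ∈ centralizer ({b} : Set G) ∧ zpowers (g * b * g⁻¹) ≠ zpowers b) :
    ∃ g v, g * b * g⁻¹ = J b θ v ∧ v ≠ e1 ∧ v ≠ -e1 := by
  obtain ⟨g, hg, n⟩ := hwc
  obtain ⟨k, x, x3, e⟩ := h.ord3 (mem_centralizer_singleton_iff.1 hg) (by rw [conj_pow, h.b3]; simp)
  obtain ⟨l, y, e'⟩ := S6.ord3 x x3
  have e2 : θ l * (g * b * g⁻¹) * (θ l)⁻¹ = J b θ (k, y) := by
    rw [e, J, ← e', ← mul_assoc, h.cm, map_mul, map_mul, map_inv]; group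
  have c := Commute.inv_left (h.cy l)
  refine ⟨θ l * g, (k, y), by rw [← e2]; group, fun e3 => n ?_, fun e3 => n ?_⟩ <;> rw [e3] at e2
  · rw [h.j1, mul_inv_eq_iff_eq_mul, ← h.cy, mul_right_inj] at e2
    rw [e2]
  · rw [h.neg, h.j1, mul_inv_eq_iff_eq_mul, ← (Commute.inv_right (h.cy l)).eq, mul_right_inj] at e2
    rw [e2, zpowers_inv]

theorem St.no9 {g : G} {v : V} (e : g * b * g⁻¹ = J b θ v) (n1 : v ≠ e1) (n2 : v ≠ -e1) {c : G}
    (hc : ∀ y, c * θ y = θ y * c) : c ^ 3 ≠ b := by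
  intro c3
  obtain ⟨n, hn, e⟩ := h.fusb g v e
  have nK : n ∈ 𝐍(h.K) := mem_normalizer_of_cj_le fun x hx => by
    obtain ⟨_, ⟨w, rfl⟩, rfl⟩ := mem_cj'.1 hx
    obtain ⟨u, hu⟩ := hn w
    exact ⟨u, hu.symm⟩
  have cb : Commute c b := c3 ▸ Commute.self_pow c 3
  have cj : ∀ w, n * c * n⁻¹ * J b θ w = J b θ w * (n * c * n⁻¹) := fun w => by
    obtain ⟨u, hu⟩ := h.mK.1 (conj_mem_of_mem_normalizer' nK ⟨w, rfl⟩)
    have : c * J b θ u = J b θ u * c := (Commute.mul_right (cb.pow_right _) (hc _)).eq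
    rw [show J b θ w = n * J b θ u * n⁻¹ by rw [hu]; simp [mul_assoc], conj_mul, conj_mul, this]
  obtain ⟨x, d, hd, e'⟩ := h.dec _ (h.j1 ▸ cj e1)
  have cw : ∀ y, x * wv y = wv y * x := fun y => h.θi (mul_right_cancel (b := d) (by
    have := cj (0, y)
    rw [e', show J b θ (0, y) = θ (wv y) by simp [J], mul_assoc, hd] at this
    rw [map_mul, map_mul, mul_assoc, this, mul_assoc]))
  obtain ⟨y, rfl⟩ := MD2.cwv x (w1 ▸ cw _) (w2 ▸ cw _) (w3 ▸ cw _)
  have d3 : d ^ 3 = J b θ v := by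
    have := h.j3 (0, y)
    rw [show J b θ (0, y) = θ (wv y) by simp [J]] at this
    rw [← e, ← c3, ← conj_pow, e', (show Commute (θ _) d from (hd _).symm).mul_pow, this, one_mul]
  have := (h.uq (fun y => (Commute.pow_left (hd y) 3).eq) d3).1
  have v0 : v ≠ 0 := fun e0 => by
    rw [e0, h.j0] at e
    have := h.hb
    simp_all
  exact (by decide : ∀ v : V, v ≠ e1 → v ≠ -e1 → v.2 = 0 → v = 0) v n1 n2 this |> v0

theorem St.syl {g : G} {v : V} (e : g * b * g⁻¹ = J b θ v) (n1 : v ≠ e1) (n2 : v ≠ -e1) {c : G}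
    (hc : ∀ y, c * θ y = θ y * c) (cb : c * b = b * c) {k : ℕ} (ck : c ^ 3 ^ k = 1) : c ∈ zpowers b := by
  induction k generalizing c with
  | zero => simp_all
  | succ k ih =>
    obtain ⟨i, hi⟩ := h.zp (ih (fun y => (Commute.pow_left (hc y) 3).eq) (Commute.pow_left cb 3).eq
      (by rw [← pow_mul, ← pow_succ', ck]))
    have := ZMod.val_lt i
    rcases (by omega : i.val = 0 ∨ i.val = 1 ∨ i.val = 2) with e' | e' | e' <;> rw [e'] at hi
    · exact h.e3 hc cb (by simpa using hi)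
    · exact (h.no9 e n1 n2 hc (by simpa using hi)).elim
    · refine (h.no9 e n1 n2 (c := c ^ 2) (fun y => (Commute.pow_left (hc y) 2).eq) ?_).elim
      rw [← pow_mul, mul_comm, pow_mul, hi, ← pow_mul, ← h.md]; simp

end SET1

open SET1 H69 in
theorem set1 (b : G) (hb : orderOf b = 3) (L : Subgroup G) (hLC : L ≤ centralizer ({b} : Set G))
    (hLn : (L.subgroupOf (centralizer ({b} : Set G))).Normal)
    {F : Type*} [Field F] [Fintype F] (hF : Fintype.card F = 2) (hLX : Nonempty (↥L ≃* PSp 3 F))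
    (hcyc : ∀ R : Sylow 3 ↥(centralizer (L : Set G)), IsCyclic ↥(R : Subgroup ↥(centralizer (L : Set G))))
    (hwc : ∃ g : G, g * b * g⁻¹ ∈ centralizer ({b} : Set G) ∧ zpowers (g * b * g⁻¹) ≠ zpowers b) :
    ∃ (j : V → G) (θ : Sp →* G) (D : Subgroup G), Ch0 j θ D ∧ j e1 = b ∧
      (∀ g v, g * j e1 * g⁻¹ = j v → ∃ n, NJ j n ∧ n * j e1 * n⁻¹ = j v) ∧
      ∃ g v, g * j e1 * g⁻¹ = j v ∧ v ≠ e1 ∧ v ≠ -e1 := by
  obtain ⟨e⟩ := hLX
  obtain ⟨e'⟩ := iso hF
  let ε := (e.trans e').symm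
  let θ : Sp →* G := L.subtype.comp ε.toMonoidHom
  have cL : ∀ g, g ∈ 𝐂(L) ↔ ∀ y, g * θ y = θ y * g := fun g =>
    ⟨fun hg y => (hg _ (ε y).2).symm, fun hg l hl => by
      obtain ⟨y, hy⟩ := ε.surjective ⟨l, hl⟩
      rw [show l = θ y from congrArg Subtype.val hy.symm, hg]⟩
  have h : St b θ :=
    { hb := hb
      θi := L.subtype_injective.comp ε.injective
      cy := fun x => mem_centralizer_singleton_iff.1 (hLC (ε x).2)
      dec := fun g hg => by
        have n : g ∈ 𝐍(L) := (normal_subgroupOf_iff_le_normalizer hLC).1 hLn (mem_centralizer_singleton_iff.2 hg)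
        obtain ⟨x, hx⟩ := inner hF (MulAut.congr ε.symm (L.normalizerMonoidHom ⟨g, n⟩))
        refine ⟨x, (θ x)⁻¹ * g, fun y => ?_, by group⟩
        have : θ (x * y * x⁻¹) = g * θ y * g⁻¹ :=
          (congrArg θ (DFunLike.congr_fun hx y)).trans (congrArg Subtype.val (ε.apply_symm_apply _))
        rw [mul_assoc, mul_inv_eq_iff_eq_mul.1 this.symm, map_mul, map_mul, map_inv]; group
      cyc := fun P hP c => by
        have le : P ≤ 𝐂(L) := fun g hg => (cL g).2 (c g hg)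
        obtain ⟨R, hR⟩ := (isPGroup_subgroupOf hP 𝐂(L)).exists_le_sylow
        have := hcyc R
        have := isCyclic_of_le hR
        exact isCyclic_of_surjective _ (subgroupOfEquivOfLe le).surjective }
  obtain ⟨g, v, e0, n1, n2⟩ := h.mv hwc
  let E := 𝐂(L) ⊓ centralizer {b}
  have bE : zpowers b ≤ E := zpowers_le.2 ⟨(cL b).2 fun y => (h.cy y).symm, mem_centralizer_singleton_iff.2 rfl⟩
  have s : IsSylowIn 3 (zpowers b) E := ⟨bE, .of_card (n := 1) (by rw [Nat.card_zpowers, hb]; rfl), fun R h1 h2 h3 =>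
    le_antisymm (fun c hc => by
      obtain ⟨k, hk⟩ := isPGroup_iff_mem.1 h3 c hc
      exact h.syl e0 n1 n2 ((cL c).1 (h2 hc).1) (mem_centralizer_singleton_iff.1 (h2 hc).2) hk) h1⟩
  have : ((zpowers b).subgroupOf E).Normal := (normal_subgroupOf_iff_le_normalizer bE).2
    (le_normalizer_of_le_centralizer (centralizer_zpowers b ▸ inf_le_right))
  have c3 := (Nat.Prime.coprime_iff_not_dvd Nat.prime_three).2 s.not_dvd_relIndex
  obtain ⟨H, hH⟩ := exists_right_complement'_of_coprime (N := (zpowers b).subgroupOf E)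
    (by rwa [card_subgroupOf bE, Nat.card_zpowers, hb])
  refine ⟨J b θ, θ, H.map E.subtype, ⟨h.add, h.inj, h.θi, h.j1.symm ▸ h.cy, ?_, ?_, ?_, ?_, ?_, ?_, fun g hg => ?_⟩, h.j1,
    h.j1.symm ▸ h.fusb, g, v, h.j1.symm ▸ e0, n1, n2⟩
  · show _ = b ^ 0 * θ (wv (1, 0, 0)); rw [w1, pow_zero, one_mul]
  · show _ = b ^ 0 * θ (wv (0, 1, 0)); rw [w2, pow_zero, one_mul]
  · show _ = b ^ 0 * θ (wv (0, 0, 1)); rw [w3, pow_zero, one_mul]
  · rw [card_map_subtype, ← hH.symm.index_eq_card]; exact c3.symm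
  · rintro _ ⟨d, -, rfl⟩; exact (cL _).1 d.2.1
  · rintro _ ⟨d, -, rfl⟩; rw [h.j1]; exact mem_centralizer_singleton_iff.1 d.2.2
  rw [h.j1] at hg
  obtain ⟨x, d, hd, rfl⟩ := h.dec g hg
  obtain ⟨⟨u, w⟩, e1, -⟩ := hH.existsUnique ⟨d, (cL d).2 hd, mem_centralizer_singleton_iff.2 (h.cb hg)⟩
  obtain ⟨k, hk⟩ := h.zp u.2
  refine ⟨k, x, w, mem_map_of_mem _ w.2, ?_⟩
  rw [show J b θ (k, 0, 0, 0) = b ^ k.val * θ (wv 0) from rfl, MD2.wv0, map_one, mul_one, ← h.cm, ← hk, mul_assoc]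
  exact congrArg _ (congrArg Subtype.val e1).symm

end H29.S6
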