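import Cfsg.Agent.Lib.S6.MDa

/-! S6, package SET2 (see blueprint/S6/README.md). -/

set_option autoImplicit false
set_option linter.unusedSectionVars false

namespace H29.S6

open Subgroup Cfsg H29.F42
open H87.U6 (F3 V lin)
open H75.L7 (Nm T Ch2 Rk3)

variable {G : Type*} [Group G] [Finite G] {j ρ : V → G} {τ : G} {θ θ' : Sp →* G} {D : Subgroup G}

theorem ch2_of (hG : IsCharacteristicTwoType G) : Ch2 G := fun X hX h1 g hg => by
  have hc : ∀ t ∈ T X, Commute g t := fun t ht => (mem_centralizer_iff.1 hg t ht).symm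
  have hn : g ∈ normalizer (X : Set G) :=
    (H75.L7.Nm.of_comm fun x hx => hc x (H75.L7.self_le_T hX hx)).mem
  refine ⟨⟨g, hn⟩, hG.2 X hX h1 (mem_centralizer_iff.2 fun t ht => Subtype.ext ?_), rfl⟩
  exact (hc t ⟨t, ht, rfl⟩).symm.eq

namespace SET2

theorem zsp {x : Sp} (h : ∀ m, x * m = m * x) : x = 1 :=
  ac_ext fun w => by rw [MD1.fix_of_comm (h _), ac_one]

theorem j0 (h : Ch0 j θ D) : j 0 = 1 := mul_eq_left.1 (show j 0 * j 0 = j 0 by rw [← h.add, add_zero])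

theorem jpow (h : Ch0 j θ D) (v : V) (k : F3) : j (k • v) = j v ^ k.val := by
  rcases (by decide : ∀ k : F3, k = 0 ∨ k = 1 ∨ k = 2) k with rfl | rfl | rfl
  · rw [zero_smul, j0 h]; exact (pow_zero _).symm
  · rw [one_smul]; exact (pow_one _).symm
  · rw [two_smul, h.add]; exact (pow_two _).symm

theorem jc (h : Ch0 j θ D) (u v : V) : j u * j v = j v * j u := by rw [← h.add, add_comm, h.add]

theorem j3 (h : Ch0 j θ D) (v : V) : j v ^ 3 = 1 := by
  rw [pow_three', ← h.add, ← h.add, (by decide +kernel : ∀ v : V, v + v + v = 0), j0 h]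

theorem jk (h : Ch0 j θ D) {g : G} (c : g * j e1 = j e1 * g) (k : F3) :
    Commute g (j (k, 0, 0, 0)) := by
  rw [show ((k, 0, 0, 0) : V) = k • e1 by simp, jpow h]
  exact (show Commute g _ from c).pow_right _

theorem jD (h : Ch0 j θ D) {d : G} (hd : d ∈ D) (v : V) : Commute d (j v) := by
  have c : ∀ x, Commute d (θ x) := h.Dθ d hd
  rw [show v = (v.1, 0, 0, 0) + v.2.1 • e2 + v.2.2.1 • e3 + v.2.2.2 • e4 by simp, h.add, h.add,
    h.add, jpow h, jpow h, jpow h, ← h.w0, ← h.w1, ← h.w2]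
  exact (((jk h (h.Dy d hd) _).mul_right ((c _).pow_right _)).mul_right
    ((c _).pow_right _)).mul_right ((c _).pow_right _)

theorem exψ (h : Ch0 j θ D) (z : ∀ g, g * j e1 = j e1 * g) :
    ∃ ψ : G →* Sp, ∀ g, ψ g = 1 → ∃ k : F3, ∃ d ∈ D, g = j (k, 0, 0, 0) * d := by
  choose k x d hd e using fun g => h.dec g (z g)
  have a : ∀ g m, g * θ m * g⁻¹ = θ (x g * m * (x g)⁻¹) := fun g m => by
    rw [mul_inv_eq_iff_eq_mul]
    refine (congrArg (· * θ m) (e g)).trans (Eq.trans ?_ (congrArg (_ * ·) (e g).symm))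
    rw [mul_assoc, h.Dθ _ (hd g), ← mul_assoc, ← mul_assoc, ← mul_assoc,
      (jk h (z (θ (x g * m * (x g)⁻¹))) _).eq, mul_assoc (j _) (θ _) (θ _),
      mul_assoc (j _) (θ _) (θ _), ← map_mul, ← map_mul, inv_mul_cancel_right]
  refine ⟨MonoidHom.mk' x fun g g' => (inv_mul_eq_one.1 (zsp fun m => ?_)).symm,
    fun g hg => ⟨k g, d g, hd g, ?_⟩⟩
  · have : θ (x (g * g') * m * (x (g * g'))⁻¹) = θ (x g * (x g' * m * (x g')⁻¹) * (x g)⁻¹) := by
      rw [← a, ← a, ← a]; group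
    calc _ = (x g * x g')⁻¹ * (x (g * g') * m * (x (g * g'))⁻¹) * x (g * g') := by group
      _ = _ := by rw [h.θi this]; group
  · have := e g
    rwa [show x g = 1 from hg, map_one, mul_one] at this

theorem card_le (h : Ch0 j θ D) {ψ : G →* Sp}
    (k : ∀ g, ψ g = 1 → ∃ k : F3, ∃ d ∈ D, g = j (k, 0, 0, 0) * d) {A : Subgroup G}
    (e : ∀ a ∈ A, a ^ 3 = 1) : Nat.card A ≤ 3 * Nat.card (A.map ψ) := by
  have h1 : Nat.card (ψ.domRestrict A).ker ≤ 3 := by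
    have : ∀ a : (ψ.domRestrict A).ker, ∃ k : F3, ((a : A) : G) = j (k, 0, 0, 0) := fun a => by
      obtain ⟨k, d, hd, e1⟩ := k ((a : A) : G) a.2
      have := e _ a.1.2
      rw [e1, (jD h hd _).symm.mul_pow, j3 h, one_mul] at this
      have d1 : d = 1 := orderOf_eq_one_iff.1 (Nat.eq_one_of_dvd_coprimes h.cop
        (D.orderOf_dvd_natCard hd) (orderOf_dvd_of_pow_eq_one this))
      exact ⟨k, by rw [e1, d1, mul_one]⟩
    choose f hf using this
    refine (Nat.card_le_card_of_injective f fun a b e => Subtype.ext (Subtype.ext ?_)).trans_eq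
      (by simp)
    rw [hf, hf, e]
  rw [← MonoidHom.domRestrict_range, ← (ψ.domRestrict A).ker.card_mul_index, index_ker]
  exact Nat.mul_le_mul_right _ h1

theorem ker2 (h : Ch0 j θ D) {ψ : G →* Sp}
    (k : ∀ g, ψ g = 1 → ∃ k : F3, ∃ d ∈ D, g = j (k, 0, 0, 0) * d) {A X : Subgroup G}
    (c : ∀ a ∈ A, ∀ a' ∈ A, a * a' = a' * a) (e : ∀ a ∈ A, a ^ 3 = 1) :
    Nat.card A ≤ 81 ∧ (27 < Nat.card A → IsPGroup 2 X → (∀ a ∈ A, Nm a X) → ∀ g ∈ X, ψ g = 1) := by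
  have e' : ∀ a ∈ A.map ψ, a ^ 3 = 1 := by
    rintro _ ⟨a, ha, rfl⟩
    rw [← map_pow, e a ha, map_one]
  obtain ⟨h1, h2⟩ := ab27 (A.map ψ) (by
    rintro _ ⟨a, ha, rfl⟩ _ ⟨a', ha', rfl⟩
    rw [← map_mul, c a ha a' ha', map_mul]) e'
  have h3 := card_le h k e
  refine ⟨by omega, fun hc hX n g hg => ?_⟩
  have : Fact (Nat.Prime 3) := ⟨Nat.prime_three⟩
  obtain ⟨m, hm⟩ := IsPGroup.iff_card.1 (show IsPGroup 3 (A.map ψ) from fun a =>
    ⟨1, Subtype.ext (by rw [pow_one]; exact e' _ a.2)⟩)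
  obtain ⟨l, hl⟩ := h2 (by
    rw [hm] at h1 h3 ⊢
    have : m < 4 := (Nat.pow_lt_pow_iff_right (a := 3) (by norm_num)).1 (by omega)
    interval_cases m <;> omega)
  have := no2 (X.map ((MulAut.conj l).toMonoidHom.comp ψ)) (hX.map _) fun i => by
    obtain ⟨y, hy⟩ : ∃ y, ww i = wv y := by
      fin_cases i
      exacts [⟨(1, 0, 0), by simp [wv, ZMod.val_one]⟩, ⟨(0, 1, 0), by simp [wv, ZMod.val_one]⟩,
        ⟨(0, 0, 1), by simp [wv, ZMod.val_one]⟩]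
    obtain ⟨a, ha, ea⟩ := (hl (l⁻¹ * ww i * l)).2 ⟨y, by rw [← hy]; group⟩
    have := (n a ha).map ((MulAut.conj l).toMonoidHom.comp ψ)
    rwa [show ((MulAut.conj l).toMonoidHom.comp ψ) a = ww i by simp [ea, mul_assoc]] at this
  have := this.le ⟨g, hg, rfl⟩
  simpa using this

theorem main (h : Ch0 j θ D) (z : ∀ g, g * j e1 = j e1 * g)
    (hA5 : ∀ B : Subgroup G, IsElementaryAbelian 3 B → (∃ H : Subgroup G, IsTwoLocal H ∧ B ≤ H) →
      (∀ B' : Subgroup G, IsElementaryAbelian 3 B' → (∃ H : Subgroup G, IsTwoLocal H ∧ B' ≤ H) →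
        Nat.card B' ≤ Nat.card B) →
      ∃ Q : Subgroup G, IsPGroup 2 Q ∧ B ≤ normalizer (Q : Set G) ∧ ⁅Q, B⁆ ≠ ⊥) :
    Odd (Nat.card D) ∧ TwoLocalPRankLE 3 3 G := by
  obtain ⟨ψ, k⟩ := exψ h z
  have od : Odd (Nat.card D) := by
    by_contra hn
    have : Fact (Nat.Prime 2) := ⟨Nat.prime_two⟩
    obtain ⟨d, hd⟩ := exists_prime_orderOf_dvd_card' 2 (Nat.not_odd_iff_even.1 hn).two_dvd
    have d2 : (d : G) * d = 1 := by
      rw [← pow_two, ← hd, ← coe_pow, pow_orderOf_eq_one, coe_one]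
    let φ : Multiplicative V →* G := MonoidHom.mk' (fun v => j v.toAdd) fun u v => h.add _ _
    have c : ∀ a ∈ φ.range, ∀ a' ∈ φ.range, a * a' = a' * a := by
      rintro _ ⟨u, rfl⟩ _ ⟨v, rfl⟩
      exact jc h _ _
    have e : ∀ a ∈ φ.range, a ^ 3 = 1 := by
      rintro _ ⟨u, rfl⟩
      exact j3 h _
    have cJ : Nat.card φ.range = 81 := by
      rw [← Nat.card_congr (MonoidHom.ofInjective (f := φ)
        ((injective_iff_map_eq_one _).2 fun u e => h.inj _ e)).toEquiv]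
      simp [Nat.card_eq_fintype_card]
    obtain ⟨Q, hQ, n, ne⟩ := hA5 φ.range ⟨⟨⟨fun a b => Subtype.ext (c _ a.2 _ b.2)⟩⟩, e⟩
      ⟨_, ⟨zpowers (d : G), H75.L7.two_zp d2, fun e => by
        rw [show d = 1 from Subtype.ext (zpowers_eq_bot.1 e), orderOf_one] at hd
        omega, rfl⟩, by
          rintro _ ⟨v, rfl⟩
          exact (H75.L7.nm_zp (jD h d.2 _).symm).mem⟩ fun B hB _ => cJ ▸ (ker2 (X := ⊥) h k
        (fun a ha b hb => congrArg Subtype.val (hB.1.1.1 ⟨a, ha⟩ ⟨b, hb⟩)) hB.2).1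
    refine ne (commutator_eq_bot_iff_le_centralizer.2 fun g hg => mem_centralizer_iff.2 ?_)
    rintro _ ⟨v, rfl⟩
    obtain ⟨l, d, hd, rfl⟩ := k g ((ker2 h k c e).2 (by omega) hQ
      (fun a ha => H75.L7.nm_of_mem (n ha)) g hg)
    exact ((show Commute (j v.toAdd) _ from jc h _ _).mul_right (jD h hd _).symm).eq
  refine ⟨od, ?_⟩
  rintro _ ⟨X, hX, h1, rfl⟩ A hA e
  by_contra hn
  refine h1 (eq_bot_iff.2 fun g hg => ?_)
  obtain ⟨l, d, hd, rfl⟩ := k g ((ker2 (A := A.map (normalizer (X : Set G)).subtype) h k (by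
    rintro _ ⟨a, ha, rfl⟩ _ ⟨b, hb, rfl⟩
    exact congrArg (fun x : A => ((x : normalizer (X : Set G)) : G)) (hA.1.1 ⟨a, ha⟩ ⟨b, hb⟩)) (by
    rintro _ ⟨a, ha, rfl⟩
    exact congrArg Subtype.val (e a ha))).2 (by rw [card_map_of_injective (subtype_injective _)]; omega) hX
      (by rintro _ ⟨a, -, rfl⟩; exact H75.L7.nm_of_mem a.2) g hg)
  obtain ⟨m, hm⟩ := H75.L7.two_pow hX hg
  refine H75.L7.eq_one_of_two_odd hm (n := 3 * Nat.card D) (Odd.mul (by decide) od) ?_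
  rw [(jD h hd _).symm.mul_pow, pow_mul, j3 h, one_pow, one_mul, mul_comm, pow_mul,
    orderOf_dvd_iff_pow_eq_one.1 (D.orderOf_dvd_natCard hd), one_pow]

end SET2

theorem set2 (h : Ch0 j θ D) {b : G} (hb : j e1 = b)
    (hrk : ∀ k : ℕ, TwoLocalPRankLE 3 k G ↔ TwoLocalPRankLE 3 k ↥(centralizer ({b} : Set G)))
    (hA5 : ∀ B : Subgroup ↥(centralizer ({b} : Set G)), IsElementaryAbelian 3 B →
      (∃ H : Subgroup ↥(centralizer ({b} : Set G)), IsTwoLocal H ∧ B ≤ H) →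
      (∀ B' : Subgroup ↥(centralizer ({b} : Set G)), IsElementaryAbelian 3 B' →
        (∃ H : Subgroup ↥(centralizer ({b} : Set G)), IsTwoLocal H ∧ B' ≤ H) →
          Nat.card ↥B' ≤ Nat.card ↥B) →
      ∃ Q : Subgroup ↥(centralizer ({b} : Set G)), IsPGroup 2 ↥Q ∧
        B ≤ normalizer (Q : Set ↥(centralizer ({b} : Set G))) ∧ ⁅Q, B⁆ ≠ ⊥) :
    Odd (Nat.card D) ∧ Rk3 G := by
  subst hb
  have m : ∀ {g : G}, g ∈ centralizer ({j e1} : Set G) ↔ g * j e1 = j e1 * g := H75.L7.mem_cent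
  have DC : D ≤ centralizer ({j e1} : Set G) := fun d hd => m.2 (h.Dy d hd)
  have cD := Nat.card_congr (subgroupOfEquivOfLe DC).toEquiv
  obtain ⟨od, rk⟩ := SET2.main (j := fun v => (⟨j v, m.2 (SET2.jc h _ _)⟩ : centralizer ({j e1} : Set G)))
    (θ := θ.codRestrict _ fun x => m.2 (h.cy x)) (D := D.subgroupOf _)
    ⟨fun u v => Subtype.ext (h.add u v), fun v e => h.inj v (congrArg Subtype.val e),
      fun x y e => h.θi (congrArg Subtype.val e), fun x => Subtype.ext (h.cy x), Subtype.ext h.w0,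
      Subtype.ext h.w1, Subtype.ext h.w2, cD ▸ h.cop, fun d hd x => Subtype.ext (h.Dθ _ hd x),
      fun d hd => Subtype.ext (h.Dy _ hd), fun g _ => by
        obtain ⟨k, x, d, hd, e⟩ := h.dec g (m.1 g.2)
        exact ⟨k, x, ⟨d, DC hd⟩, hd, Subtype.ext e⟩⟩ (fun g => Subtype.ext (m.1 g.2)) hA5
  refine ⟨cD ▸ od, fun X A hX h1 hn hc h3 => ?_⟩
  have hle : A ≤ normalizer (X : Set G) := fun a ha => (hn a ha).mem
  have := (hrk 3).2 rk _ ⟨X, hX, h1, rfl⟩ (A.subgroupOf _)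
    ⟨⟨fun a b => Subtype.ext (Subtype.ext (hc _ a.2 _ b.2))⟩⟩ fun a ha => Subtype.ext (h3 _ ha)
  rwa [Nat.card_congr (subgroupOfEquivOfLe hle).toEquiv] at this

end H29.S6
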