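import Cfsg.Agent.Lib.S6.Defs
import Cfsg.Agent.Lib.H4.G168
import Cfsg.Agent.Lib.H4.SylRules
import Cfsg.Agent.Lib.GL.Basic
import Cfsg.Agent.Lib.LocStruct.Conj
import Cfsg.Agent.S0811
import Cfsg.Agent.S0812
import Cfsg.Agent.S0493

/-! S6, package Z3T1 (see blueprint/S6/README.md). -/

set_option autoImplicit false
set_option linter.unusedSectionVars false

namespace H29.S6

open Subgroup Cfsg H29.F42
open H87.U6 (F3 V lin)
open H75.L7 (Nm T Ch2 Rk3)

variable {G : Type*} [Group G] [Finite G] {j ρ : V → G} {τ : G} {θ θ' : Sp →* G} {D : Subgroup G}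

namespace Z3T1

open H69

variable {S : Type*} [Group S] [Finite S]

theorem fix (K : Set (Subgroup S))
    (hK : ∀ β : MulAut S, ∀ X ∈ K, X.map β.toMonoidHom ∈ K) (h3 : ¬ 3 ∣ K.ncard)
    (B : Subgroup (MulAut S)) (hB : IsPGroup 3 B) : ∃ X ∈ K, ∀ β ∈ B, ∀ g ∈ X, β g ∈ X := by
  have : Fact (Nat.Prime 3) := ⟨Nat.prime_three⟩
  let _ : MulAction B K :=
    { smul := fun β X => ⟨X.1.map β.1.toMonoidHom, hK _ _ X.2⟩
      one_smul := fun X => Subtype.ext (map_id X.1)
      mul_smul := fun a b X => Subtype.ext (map_map X.1 a.1.toMonoidHom b.1.toMonoidHom).symm }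
  obtain ⟨X, hX⟩ := hB.nonempty_fixed_point_of_prime_not_dvd_card K h3
  refine ⟨X.1, X.2, fun β hβ g hg => ?_⟩
  have e : X.1.map β.toMonoidHom = X.1 := congrArg Subtype.val (hX ⟨β, hβ⟩)
  exact e.le (mem_map_of_mem _ hg)

theorem ncard_cj (X : Subgroup S) :
    {W | ∃ g : S, W = X.map (MulAut.conj g).toMonoidHom}.ncard = (normalizer (X : Set S)).index := by
  let _ : MulAction S (Subgroup S) :=
    { smul := fun g A => A ^ᶜ g
      one_smul := cj_one
      mul_smul := fun g h A => (cj_cj A h g).symm }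
  have e : MulAction.stabilizer S X = normalizer (X : Set S) := by
    ext g
    exact cj_eq_self_iff
  rw [← e, MulAction.index_stabilizer]
  congr 1
  ext W
  exact ⟨fun ⟨g, h⟩ => ⟨g, h.symm⟩, fun ⟨g, h⟩ => ⟨g, h.symm⟩⟩

theorem klein_map {X : Subgroup S} (h : IsKleinFour X) (β : MulAut S) :
    IsKleinFour (X.map β.toMonoidHom) :=
  ⟨by rw [card_map_of_injective β.injective, h.card_four], by
    rw [← Monoid.exponent_eq_of_mulEquiv (X.equivMapOfInjective β.toMonoidHom β.injective),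
      h.exponent_two]⟩

theorem c168 [IsSimpleGroup S] (h : Nat.card S = 168) (B : Subgroup (MulAut S)) (hB : IsPGroup 3 B) :
    ∃ X : Subgroup S, X ≠ ⊥ ∧ IsPGroup 2 X ∧ ∀ β ∈ B, ∀ g ∈ X, β g ∈ X := by
  obtain ⟨V₁, V₂, h1, h2, hne, hall⟩ := H4.G168.two_classes h
  have idx : ∀ X : Subgroup S, IsKleinFour X → (normalizer (X : Set S)).index = 7 := fun X hX => by
    have := (normalizer (X : Set S)).card_mul_index
    rw [H4.G168.card_norm_klein h hX, h] at this
    omega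
  have e : {X : Subgroup S | IsKleinFour X} = {W | ∃ g : S, W = V₁.map (MulAut.conj g).toMonoidHom} ∪
      {W | ∃ g : S, W = V₂.map (MulAut.conj g).toMonoidHom} := by
    ext W
    refine ⟨hall W, ?_⟩
    rintro (⟨g, rfl⟩ | ⟨g, rfl⟩)
    exacts [klein_map h1 _, klein_map h2 _]
  obtain ⟨X, hX, k⟩ := fix {X : Subgroup S | IsKleinFour X} (fun β X hX => klein_map hX β) (by
    rw [e, Set.ncard_union_eq, ncard_cj, ncard_cj, idx _ h1, idx _ h2]
    · norm_num
    · refine Set.disjoint_left.2 ?_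
      rintro W ⟨g, rfl⟩ ⟨g', e'⟩
      have e2 : V₁ ^ᶜ g = V₂ ^ᶜ g' := e'
      refine hne ⟨g'⁻¹ * g, ?_⟩
      rw [← cj_cj, e2, cj_cj_inv]) B hB
  have h4 : Nat.card X = 4 := IsKleinFour.card_four (self := hX)
  exact ⟨X, fun e => by rw [e, card_bot] at h4; omega, IsPGroup.of_card (n := 2) h4, k⟩

theorem c60 [IsSimpleGroup S] (hn : ¬ IsMulCommutative S) (h : Nat.card S = 60)
    (B : Subgroup (MulAut S)) (hB : IsPGroup 3 B) :
    ∃ X : Subgroup S, X ≠ ⊥ ∧ IsPGroup 2 X ∧ ∀ β ∈ B, ∀ g ∈ X, β g ∈ X := by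
  have : Fact (Nat.Prime 3) := ⟨Nat.prime_three⟩
  have h1 := H4.burnside_rule (p := 2) (k := 2) (r := 15) hn (by norm_num) le_rfl h (by norm_num)
  have h2 := (H4.sylow_rule (p := 2) (k := 2) (r := 15) hn (by norm_num) h (by norm_num)).1
  have h3 : ¬ 3 ∣ Nat.card (Sylow 2 S) := by
    have := Nat.le_of_dvd (by norm_num) h2
    generalize Nat.card (Sylow 2 S) = n at *
    interval_cases n <;> simp_all
  obtain ⟨P, hP⟩ := hB.nonempty_fixed_point_of_prime_not_dvd_card (Sylow 2 S) h3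
  refine ⟨P, P.ne_bot_of_dvd_card (by rw [h]; norm_num), P.isPGroup', fun β hβ g hg => ?_⟩
  have e := congrArg (fun Q : Sylow 2 S => (Q : Subgroup S)) (hP ⟨β, hβ⟩)
  exact e.le (mem_map_of_mem _ hg)

theorem dih (hd : ∀ c t : S, t * t = 1 → t * c * t⁻¹ = c⁻¹ → 3 ∣ orderOf c → orderOf c = 3)
    {P : Type*} [Group P] (e : S ≃* P) {H : Subgroup P} {n : ℕ} (f : H ≃* DihedralGroup n)
    (h : 3 ∣ n) : n = 3 := by
  let φ : DihedralGroup n →* S := (e.symm.toMonoidHom.comp H.subtype).comp f.symm.toMonoidHom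
  have hφ : Function.Injective φ := e.symm.injective.comp (H.subtype_injective.comp f.symm.injective)
  have o : orderOf (φ (.r 1)) = n := by rw [orderOf_injective φ hφ, DihedralGroup.orderOf_r_one]
  rw [← o]
  refine hd _ (φ (.sr 0)) ?_ ?_ (o.symm ▸ h)
  · rw [← map_mul, DihedralGroup.sr_mul_self, map_one]
  · rw [← map_inv, ← map_inv, ← map_mul, ← map_mul]
    congr 1
    simp

end Z3T1

open Z3T1 in
/-- `L₂(q)` -/
theorem z3t1 {S : Type*} [Group S] [Finite S] [IsSimpleGroup S] (hn : ¬ IsMulCommutative S)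
    (h3 : 3 ∣ Nat.card S) (h9 : ¬ 9 ∣ Nat.card S)
    (hd : ∀ c t : S, t * t = 1 → t * c * t⁻¹ = c⁻¹ → 3 ∣ orderOf c → orderOf c = 3)
    {F : Type} [Field F] [Fintype F] (e : S ≃* Matrix.ProjectiveSpecialLinearGroup (Fin 2) F)
    (B : Subgroup (MulAut S)) (hB : IsPGroup 3 B) :
    ∃ X : Subgroup S, X ≠ ⊥ ∧ IsPGroup 2 X ∧ ∀ β ∈ B, ∀ g ∈ X, β g ∈ X := by
  have hc := H10.card_PSL_two (F := F)
  rw [← Nat.card_congr e.toEquiv, Nat.card_eq_fintype_card (α := F)] at hc
  have small : Nat.card S ≤ 100 → Nat.card S = 60 :=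
    Cfsg.Agent.S0493.result fun h => hn h.isMulCommutative
  obtain ⟨p, k, hp, hk, hq⟩ := Fintype.isPrimePow_card_of_field (α := F)
  have two : 1 < Fintype.card F := Fintype.one_lt_card
  have a := fun h => Cfsg.Agent.S0811.result (F := F) rfl h
  have b := fun h => Cfsg.Agent.S0812.result (F := F) rfl h
  have hg : Nat.gcd 2 (Fintype.card F - 1) = 1 ∨ Nat.gcd 2 (Fintype.card F - 1) = 2 :=
    (Nat.dvd_prime Nat.prime_two).1 (Nat.gcd_dvd_left _ _)
  have hg' := Nat.gcd_dvd_right 2 (Fintype.card F - 1)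
  suffices Nat.card S = 60 ∨ Nat.card S = 168 from
    this.elim (fun h => c60 hn h B hB) fun h => c168 h B hB
  generalize Fintype.card F = q at *
  have val : q = 2 ∨ q = 3 ∨ q = 4 ∨ q = 5 ∨ q = 7 → Nat.card S = 60 ∨ Nat.card S = 168 := by
    rintro (rfl | rfl | rfl | rfl | rfl) <;> norm_num at hc <;> omega
  refine val ?_
  by_cases r0 : q % 3 = 0
  · obtain rfl : 3 = p := (Nat.prime_dvd_prime_iff_eq Nat.prime_three hp.nat_prime).1
      (Nat.prime_three.dvd_of_dvd_pow (hq ▸ Nat.dvd_of_mod_eq_zero r0))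
    rcases k with _ | _ | k
    · omega
    · omega
    · have : 9 ∣ Nat.gcd 2 (q - 1) * Nat.card S :=
        hc ▸ ((Dvd.intro (3 ^ k) (by rw [← hq]; ring) : 9 ∣ q).mul_right _).mul_right _
      rcases hg with g | g <;> rw [g] at this <;> omega
  by_cases r1 : q % 3 = 1
  · by_cases q7 : q = 7
    · omega
    obtain ⟨H, -, ⟨f⟩⟩ := b (by simp; omega)
    have := dih hd e f (by rcases hg with g | g <;> rw [g] at hg' ⊢ <;> omega)
    rcases hg with g | g <;> rw [g] at hg' this <;> omega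
  · by_cases q2 : q = 2
    · omega
    obtain ⟨H, -, ⟨f⟩⟩ := a (by simp; omega)
    have := dih hd e f (by rcases hg with g | g <;> rw [g] at hg' ⊢ <;> omega)
    rcases hg with g | g <;> rw [g] at hg' this <;> omega

end H29.S6
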